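import Mathlib
import Cfsg.Agent.S0144
import Cfsg.Agent.Lib.Derangements.Basic
import Cfsg.Agent.Lib.SymMax.CharSimple
import Cfsg.Agent.Lib.Perm.Sharp2

/-!
# Primitive groups with few classes of derangements

A primitive group which is not almost simple and has at most two conjugacy classes of derangements
is of affine type; the cases of one and of two classes.
-/

set_option autoImplicit false
set_option linter.style.haveILetI false

namespace CfsgLib.Recognition.DerangementClasses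

open MulAction CfsgLib.Derangements.Basic
open scoped commutatorElement

variable {G Ω : Type*} [Group G] [MulAction G Ω]

/-- The conjugacy classes of derangements. -/
abbrev derClasses (G Ω : Type*) [Group G] [MulAction G Ω] : Type _ :=
  {c : ConjClasses G // ∃ g : G, ConjClasses.mk g = c ∧ ∀ ω : Ω, g • ω ≠ ω}

theorem three_le [Finite G] (a : Fin 3 → G) (hd : ∀ j, ∀ ω : Ω, a j • ω ≠ ω)
    (hne : ∀ j l, IsConj (a j) (a l) → j = l) : 3 ≤ Nat.card (derClasses G Ω) := by
  have hinj : Function.Injective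
      (fun j => (⟨ConjClasses.mk (a j), a j, rfl, hd j⟩ : derClasses G Ω)) := fun j l e =>
    hne j l (ConjClasses.mk_eq_mk_iff_isConj.1 (congrArg Subtype.val e))
  simpa using Nat.card_le_card_of_injective _ hinj

theorem solvable_of_few {H : Type*} [Group H] [Finite H]
    (hfew : (Nat.card H).primeFactors.card ≤ 2) : Group.IsSolvable H := by
  obtain ⟨p, q, hp, hq, a, b, hG⟩ : ∃ p q : ℕ, p.Prime ∧ q.Prime ∧ ∃ a b,
      Nat.card H = p ^ a * q ^ b := by
    have hfac := Nat.prod_factorization_pow_eq_self (n := Nat.card H) Nat.card_pos.ne'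
    rw [Finsupp.prod, Nat.support_factorization] at hfac
    rcases Nat.lt_or_ge (Nat.card H).primeFactors.card 1 with h0 | h0
    · rw [Nat.lt_one_iff, Finset.card_eq_zero] at h0
      rw [h0, Finset.prod_empty] at hfac
      exact ⟨2, 2, Nat.prime_two, Nat.prime_two, 0, 0, by simpa using hfac.symm⟩
    rcases Nat.lt_or_ge (Nat.card H).primeFactors.card 2 with h1 | h1
    · obtain ⟨p, hp⟩ := Finset.card_eq_one.mp (Nat.le_antisymm (Nat.lt_succ_iff.mp h1) h0)
      rw [hp, Finset.prod_singleton] at hfac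
      have hpp : p.Prime := Nat.prime_of_mem_primeFactors (n := Nat.card H) (by simp [hp])
      exact ⟨p, p, hpp, hpp, (Nat.card H).factorization p, 0, by simpa using hfac.symm⟩
    · obtain ⟨p, q, hpq, he⟩ := Finset.card_eq_two.mp (Nat.le_antisymm hfew h1)
      rw [he, Finset.prod_pair hpq] at hfac
      exact ⟨p, q, Nat.prime_of_mem_primeFactors (n := Nat.card H) (by simp [he]),
        Nat.prime_of_mem_primeFactors (n := Nat.card H) (by simp [he]), _, _, hfac.symm⟩
  exact Cfsg.Agent.S0144.result p q a b hp hq hG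

/-- A semiregular nonsolvable subgroup gives three classes of derangements. -/
theorem three_le_of_semiregular [Finite G] (H : Subgroup G) (hns : ¬ Group.IsSolvable H)
    (hfree : ∀ h ∈ H, ∀ ω : Ω, h • ω = ω → h = 1) : 3 ≤ Nat.card (derClasses G Ω) := by
  have hcard : 2 < (Nat.card H).primeFactors.card := not_le.1 fun h => hns (solvable_of_few h)
  obtain ⟨p, q, r, hp, hq, hr, hpq, hpr, hqr⟩ := Finset.two_lt_card_iff.1 hcard
  have hel : ∀ s ∈ (Nat.card H).primeFactors,
      ∃ g : G, orderOf g = s ∧ ∀ ω : Ω, g • ω ≠ ω := by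
    intro s hs
    haveI := Fact.mk (Nat.prime_of_mem_primeFactors hs)
    obtain ⟨h, hh⟩ := exists_prime_orderOf_dvd_card' (G := H) s (Nat.dvd_of_mem_primeFactors hs)
    refine ⟨h, by rw [Subgroup.orderOf_coe, hh], fun ω hω => ?_⟩
    have h1 : h = 1 := Subtype.ext (hfree h h.2 ω hω)
    rw [h1, orderOf_one] at hh
    exact (Nat.prime_of_mem_primeFactors hs).ne_one hh.symm
  obtain ⟨a, ha, ha'⟩ := hel p hp
  obtain ⟨b, hb, hb'⟩ := hel q hq
  obtain ⟨c, hc, hc'⟩ := hel r hr
  refine three_le ![a, b, c] (fun j => ?_) fun j l hjl => ?_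
  · fin_cases j
    · exact ha'
    · exact hb'
    · exact hc'
  · have ho : orderOf (![a, b, c] j) = orderOf (![a, b, c] l) := by
      obtain ⟨u, hu⟩ := isConj_iff.1 hjl
      rw [← hu]
      exact ((MulAut.conj u).orderOf_eq (![a, b, c] j)).symm
    fin_cases j <;> fin_cases l <;> simp_all

section Factors

variable {ι S : Type*} [DecidableEq ι] [Finite ι] [Group S] [IsSimpleGroup S]

theorem center_eq_bot (hS : ¬ ∀ a b : S, a * b = b * a) {x : S} (hx : ∀ s, s * x = x * s) :
    x = 1 := by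
  rcases Subgroup.Normal.eq_bot_or_eq_top (inferInstance : (Subgroup.center S).Normal) with h | h
  · exact (Subgroup.eq_bot_iff_forall _).1 h x (Subgroup.mem_center_iff.2 hx)
  · exact absurd (fun a b => Subgroup.mem_center_iff.1 (h ▸ Subgroup.mem_top b) a) hS

omit [Finite ι] in
theorem exists_factor (hS : ¬ ∀ a b : S, a * b = b * a) (φ : (ι → S) ≃* (ι → S)) (i : ι) :
    ∃ j, ∀ t : S, ∃ s : S, φ (Pi.mulSingle i s) = Pi.mulSingle j t := by
  obtain ⟨s₀, hs₀⟩ := exists_ne (1 : S)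
  have hne : φ (Pi.mulSingle i s₀) ≠ 1 := fun e => hs₀ <| by
    have := (φ.map_eq_one_iff).1 e
    exact Pi.mulSingle_eq_one_iff.1 this
  obtain ⟨j, hj⟩ := Function.ne_iff.1 hne
  refine ⟨j, ?_⟩
  let R : Subgroup (ι → S) := (MonoidHom.mulSingle (fun _ : ι => S) i).range
  have hR : R.Normal := by
    refine ⟨?_⟩
    rintro _ ⟨s, rfl⟩ y
    refine ⟨y i * s * (y i)⁻¹, ?_⟩
    funext l
    rcases eq_or_ne l i with rfl | hl <;> simp [*]
  let K : Subgroup (ι → S) := R.map φ.toMonoidHom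
  have hK : K.Normal := hR.map _ φ.surjective
  let T : Subgroup S := K.comap (MonoidHom.mulSingle (fun _ : ι => S) j)
  have hT : T.Normal := Subgroup.Normal.comap hK _
  obtain ⟨s, hs⟩ : ∃ s, s * φ (Pi.mulSingle i s₀) j ≠ φ (Pi.mulSingle i s₀) j * s := by
    by_contra hc
    push Not at hc
    exact hj (center_eq_bot hS hc)
  set x := φ (Pi.mulSingle i s₀) with hx
  have hxK : x ∈ K := ⟨Pi.mulSingle i s₀, ⟨s₀, rfl⟩, rfl⟩
  have hmem : x j * s * (x j)⁻¹ * s⁻¹ ∈ T := by
    show Pi.mulSingle j (x j * s * (x j)⁻¹ * s⁻¹) ∈ K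
    have : Pi.mulSingle (M := fun _ => S) j (x j * s * (x j)⁻¹ * s⁻¹) =
        x * (Pi.mulSingle (M := fun _ => S) j s * x⁻¹ * (Pi.mulSingle (M := fun _ => S) j s)⁻¹) := by
      funext l
      rcases eq_or_ne l j with rfl | hl
      · simp [mul_assoc]
      · simp [hl]
    rw [this]
    exact K.mul_mem hxK (hK.conj_mem _ (K.inv_mem hxK) _)
  rcases Subgroup.Normal.eq_bot_or_eq_top hT with h | h
  · refine absurd ((Subgroup.eq_bot_iff_forall _).1 h _ hmem) fun e => hs ?_
    calc s * x j = (x j * s * (x j)⁻¹ * s⁻¹) * (s * x j) := by rw [e, one_mul]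
      _ = x j * s := by group
  · intro t
    have ht : t ∈ T := h ▸ Subgroup.mem_top t
    obtain ⟨_, ⟨u, rfl⟩, hu⟩ := ht
    exact ⟨u, hu⟩

/-- Automorphisms of a power of a nonabelian simple group permute the factors. -/
theorem exists_perm (hS : ¬ ∀ a b : S, a * b = b * a) (φ : (ι → S) ≃* (ι → S)) :
    ∃ σ : Equiv.Perm ι, ∃ ψ : ι → (S ≃* S),
      (∀ i s, φ (Pi.mulSingle i s) = Pi.mulSingle (σ i) (ψ i s)) ∧
      ∀ x i, φ x (σ i) = ψ i (x i) := by
  have h1 : ∀ i, ∃ j, (∀ t : S, ∃ s : S, φ (Pi.mulSingle i s) = Pi.mulSingle j t) ∧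
      ∀ s : S, ∃ t : S, φ (Pi.mulSingle i s) = Pi.mulSingle j t := by
    intro i
    obtain ⟨j, hj⟩ := exists_factor hS φ i
    obtain ⟨i', hi'⟩ := exists_factor hS φ.symm j
    obtain ⟨t, ht⟩ := exists_ne (1 : S)
    obtain ⟨s, hs⟩ := hi' t
    obtain ⟨u, hu⟩ := hj s
    have he : Pi.mulSingle (M := fun _ => S) i u = Pi.mulSingle i' t := by
      rw [← hs, ← hu, φ.symm_apply_apply]
    have hii : i = i' := by
      by_contra hne
      have := congrFun he i'
      rw [Pi.mulSingle_eq_same, Pi.mulSingle_eq_of_ne (Ne.symm hne)] at this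
      exact ht this.symm
    subst hii
    refine ⟨j, hj, fun s => ?_⟩
    obtain ⟨w, hw⟩ := hi' s
    exact ⟨w, by rw [← hw, φ.apply_symm_apply]⟩
  choose σ hσ₁ hσ₂ using h1
  have hσ : Function.Injective σ := by
    intro i l hil
    obtain ⟨t, ht⟩ := exists_ne (1 : S)
    obtain ⟨s, hs⟩ := hσ₁ i t
    obtain ⟨w, hw⟩ := hσ₁ l t
    rw [hil, ← hw] at hs
    have h := φ.injective hs
    by_contra hne
    have hs1 : s = 1 := by
      have := congrFun h i
      rwa [Pi.mulSingle_eq_same, Pi.mulSingle_eq_of_ne hne] at this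
    have hw1 : φ (Pi.mulSingle l w) = 1 := by rw [← h, hs1]; simp
    rw [hw, Pi.mulSingle_eq_one_iff] at hw1
    exact ht hw1
  let f : ι → (S →* S) := fun i =>
    ((Pi.evalMonoidHom (fun _ : ι => S) (σ i)).comp φ.toMonoidHom).comp
      (MonoidHom.mulSingle (fun _ : ι => S) i)
  have hf : ∀ i s, φ (Pi.mulSingle i s) = Pi.mulSingle (σ i) (f i s) := by
    intro i s
    obtain ⟨t, ht⟩ := hσ₂ i s
    rw [ht]
    refine congrArg _ ?_
    show t = φ (Pi.mulSingle i s) (σ i)
    rw [ht, Pi.mulSingle_eq_same]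
  have hbij : ∀ i, Function.Bijective (f i) := by
    intro i
    refine ⟨fun a b hab => ?_, fun t => ?_⟩
    · exact Pi.mulSingle_injective (M := fun _ => S) i (φ.injective (by rw [hf, hf, hab]))
    · obtain ⟨s, hs⟩ := hσ₁ i t
      refine ⟨s, ?_⟩
      show φ (Pi.mulSingle i s) (σ i) = t
      rw [hs, Pi.mulSingle_eq_same]
  refine ⟨Equiv.ofBijective σ (Finite.injective_iff_bijective.1 hσ),
    fun i => MulEquiv.ofBijective (f i) (hbij i), fun i s => hf i s, fun x i => ?_⟩
  show φ x (σ i) = f i (x i)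
  let y : ι → S := (Pi.mulSingle i (x i))⁻¹ * x
  have hy : y i = 1 := by simp [y]
  have hx : φ x = φ (Pi.mulSingle i (x i)) * φ y := by
    rw [← map_mul]; simp [y]
  clear_value y
  have hc : φ y (σ i) = 1 := by
    refine center_eq_bot hS fun t => ?_
    obtain ⟨s, hs⟩ := hσ₁ i t
    have hcomm : Pi.mulSingle i s * y = y * Pi.mulSingle i s := by
      funext l
      rcases eq_or_ne l i with rfl | hl <;> simp [*]
    have := congrFun (congrArg φ hcomm) (σ i)
    rw [map_mul, map_mul, hs] at this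
    simpa using this
  rw [hx, Pi.mul_apply, hc, mul_one, hf, Pi.mulSingle_eq_same]

end Factors

/-- Product type gives at least three classes of derangements. -/
theorem three_le_of_power [Finite G] [Finite Ω] [FaithfulSMul G Ω] [Nontrivial Ω]
    [IsPreprimitive G Ω] {N : Subgroup G} [hN : N.Normal]
    (htr : IsPretransitive N Ω) (hmin : ∀ M : Subgroup G, M.Normal → M ≤ N → M = ⊥ ∨ M = N)
    {k : ℕ} (hk : 2 ≤ k) {S : Type} [Group S] [IsSimpleGroup S]
    (hS : ¬ ∀ a b : S, a * b = b * a) (e : N ≃* (Fin k → S)) :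
    3 ≤ Nat.card (derClasses G Ω) := by
  classical
  by_contra hlt
  haveI := htr
  haveI : Finite S := by
    haveI : Finite (Fin k → S) := Finite.of_equiv N e.toEquiv
    exact Finite.of_injective (fun s : S => fun _ : Fin k => s)
      fun a b h => congrFun h ⟨0, by omega⟩
  haveI : Nonempty Ω := inferInstance
  let α : Ω := Classical.arbitrary Ω
  let emb : (Fin k → S) →* G := N.subtype.comp e.symm.toMonoidHom
  let f : Fin k → (S →* G) := fun i => emb.comp (MonoidHom.mulSingle (fun _ : Fin k => S) i)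
  let U : Fin k → Subgroup S := fun i => (stabilizer G α).comap (f i)
  let φ : G → ((Fin k → S) ≃* (Fin k → S)) := fun g =>
    (e.symm.trans (MulAut.conjNormal g : MulAut N)).trans e
  have hφ : ∀ g x, emb (φ g x) = g * emb x * g⁻¹ := by
    intro g x
    simp [φ, emb, MulAut.conjNormal_apply]
  have hemb : Function.Injective emb := N.subtype_injective.comp e.symm.injective
  -- conjugating a factor by an element of `N`
  have hconjN : ∀ (y : Fin k → S) (i : Fin k) (s : S),
      emb y * f i s * (emb y)⁻¹ = f i (y i * s * (y i)⁻¹) := by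
    intro y i s
    show emb y * emb _ * (emb y)⁻¹ = emb _
    rw [← map_inv, ← map_mul, ← map_mul]
    refine congrArg emb ?_
    funext l
    rcases eq_or_ne l i with rfl | hl <;> simp [*]
  have hNtr : ∀ ω : Ω, ∃ y : Fin k → S, emb y • α = ω := by
    intro ω
    obtain ⟨n, hn⟩ := exists_smul_eq N α ω
    refine ⟨e n, ?_⟩
    rw [show emb (e n) = (n : G) from congrArg Subtype.val (e.symm_apply_apply n)]
    exact hn
  have hfix_conj : ∀ (g h : G) (ω : Ω), h • g • ω = g • ω ↔ (g⁻¹ * h * g) • ω = ω := by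
    intro g h ω
    rw [mul_smul, mul_smul, inv_smul_eq_iff]
  have hUne : ∀ i, U i ≠ ⊤ := by
    intro i hU
    obtain ⟨s, hs⟩ := exists_ne (1 : S)
    refine hs ?_
    have : f i s = 1 := by
      refine eq_of_smul_eq_smul (α := Ω) fun ω => ?_
      obtain ⟨y, rfl⟩ := hNtr ω
      rw [one_smul, hfix_conj]
      have h := hconjN y⁻¹ i s
      rw [map_inv, inv_inv] at h
      rw [h]
      exact (hU ▸ Subgroup.mem_top _ : (y⁻¹ i * s * (y⁻¹ i)⁻¹) ∈ U i)
    have h1 : (Pi.mulSingle i s : Fin k → S) = 1 := hemb (by rw [map_one]; exact this)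
    exact Pi.mulSingle_eq_one_iff.1 h1
  have hSns : ¬ Group.IsSolvable S := fun h => hS (IsSimpleGroup.comm_iff_isSolvable.2 h)
  have hUbot : ∀ i, U i ≠ ⊥ := by
    intro i hU
    refine hlt (three_le_of_semiregular (f i).range ?_ ?_)
    · intro hsol
      have hinj : Function.Injective (f i) := fun a b hab =>
        Pi.mulSingle_injective (M := fun _ => S) i (hemb (show emb _ = emb _ from hab))
      exact hSns (Group.isSolvable_of_isSolvable_injective (f := (f i).rangeRestrict)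
        fun a b hab => hinj (congrArg (fun z : (f i).range => (z : G)) hab))
    · rintro _ ⟨s, rfl⟩ ω hω
      obtain ⟨y, rfl⟩ := hNtr ω
      rw [hfix_conj] at hω
      have h := hconjN y⁻¹ i s
      rw [map_inv, inv_inv] at h
      rw [h] at hω
      have hmem : y⁻¹ i * s * (y⁻¹ i)⁻¹ ∈ U i := hω
      rw [hU, Subgroup.mem_bot, mul_inv_eq_one, mul_eq_left] at hmem
      rw [hmem, map_one]
  -- the maps induced by point stabiliser elements
  have hstab : ∀ g ∈ stabilizer G α, ∀ (σ : Equiv.Perm (Fin k)) (ψ : Fin k → (S ≃* S)),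
      (∀ i s, φ g (Pi.mulSingle i s) = Pi.mulSingle (σ i) (ψ i s)) →
      ∀ i s, ψ i s ∈ U (σ i) ↔ s ∈ U i := by
    intro g hg σ ψ hψ i s
    show emb _ ∈ stabilizer G α ↔ emb _ ∈ stabilizer G α
    rw [MonoidHom.mulSingle_apply, MonoidHom.mulSingle_apply, ← hψ, hφ,
      Subgroup.mul_mem_cancel_right _ (inv_mem hg), Subgroup.mul_mem_cancel_left _ hg]
  -- the product of the normalisers fixes `α`
  let Y : Subgroup G :=
    (Subgroup.pi Set.univ (fun i => Subgroup.normalizer (U i : Set S))).map emb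
  have hYN : Y ≤ N := by
    rintro _ ⟨x, -, rfl⟩
    exact (e.symm x).2
  have hYα : Y ≤ stabilizer G α := by
    have hnorm : stabilizer G α ≤ Subgroup.normalizer (Y : Set G) := by
      have hle : ∀ g ∈ stabilizer G α, ∀ z ∈ Y, g * z * g⁻¹ ∈ Y := by
        rintro g hg _ ⟨x, hx, rfl⟩
        refine ⟨φ g x, ?_, hφ g x⟩
        obtain ⟨σ, ψ, hψ, hψ'⟩ := exists_perm hS (φ g)
        intro i _
        obtain ⟨i, rfl⟩ := σ.surjective i
        have hxi := Subgroup.mem_normalizer_iff.1 (hx i trivial)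
        show φ g x (σ i) ∈ Subgroup.normalizer (U (σ i) : Set S)
        rw [hψ' x i, Subgroup.mem_normalizer_iff]
        intro t
        obtain ⟨t, rfl⟩ := (ψ i).surjective t
        have hU := hstab g hg σ ψ hψ
        show ψ i t ∈ U (σ i) ↔ ψ i (x i) * ψ i t * (ψ i (x i))⁻¹ ∈ U (σ i)
        rw [← map_inv, ← map_mul, ← map_mul, hU, hU]
        exact hxi t
      intro g hg
      rw [Subgroup.mem_normalizer_iff]
      intro z
      refine ⟨hle g hg z, fun hz => ?_⟩
      have := hle g⁻¹ (inv_mem hg) _ hz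
      simpa [mul_assoc] using this
    rcases (IsPreprimitive.isCoatom_stabilizer_of_isPreprimitive (G := G) α).le_iff.1
      (le_sup_left : stabilizer G α ≤ stabilizer G α ⊔ Y) with h | h
    · exfalso
      have hYn : Y.Normal := by
        rw [← Subgroup.normalizer_eq_top_iff, eq_top_iff, ← h]
        exact sup_le hnorm Subgroup.le_normalizer
      have hY0 : Y ≠ ⊥ := by
        intro hb
        obtain ⟨⟨u, huU⟩, hu'⟩ := (U ⟨0, by omega⟩).ne_bot_iff_exists_ne_one.1 (hUbot _)
        have hu : u ≠ 1 := fun h => hu' (Subtype.ext h)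
        have hm : emb (Pi.mulSingle ⟨0, by omega⟩ u) ∈ Y :=
          ⟨_, fun l _ => by
            rcases eq_or_ne l ⟨0, by omega⟩ with rfl | hl
            · simpa using Subgroup.le_normalizer huU
            · rw [Pi.mulSingle_eq_of_ne hl]; exact Subgroup.one_mem (Subgroup.normalizer (U l : Set S)), rfl⟩
        rw [hb, Subgroup.mem_bot, ← map_one emb, hemb.eq_iff, Pi.mulSingle_eq_one_iff] at hm
        exact hu hm
      have hYeq := (hmin Y hYn hYN).resolve_left hY0
      let i₀ : Fin k := ⟨0, by omega⟩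
      have hnormal : (U i₀).Normal := by
        rw [← Subgroup.normalizer_eq_top_iff, eq_top_iff]
        intro s _
        have hm : emb (Pi.mulSingle i₀ s) ∈ Y := by rw [hYeq]; exact (e.symm _).2
        obtain ⟨x, hx, hxe⟩ := hm
        have := hx i₀ trivial
        rwa [hemb hxe, Pi.mulSingle_eq_same] at this
      rcases Subgroup.Normal.eq_bot_or_eq_top hnormal with h' | h'
      · exact hUbot i₀ h'
      · exact hUne i₀ h'
    · exact h ▸ le_sup_right
  have hmemα : ∀ x : Fin k → S, emb x • α = α ↔ ∀ i, x i ∈ U i := by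
    have hsingle : ∀ i s, s ∈ Subgroup.normalizer (U i : Set S) → s ∈ U i := by
      intro i s hs
      refine hYα ⟨Pi.mulSingle i s, fun l _ => ?_, rfl⟩
      rcases eq_or_ne l i with rfl | hl
      · simpa using hs
      · rw [Pi.mulSingle_eq_of_ne hl]; exact Subgroup.one_mem (Subgroup.normalizer (U l : Set S))
    intro x
    constructor
    · intro hx i
      refine hsingle i _ (Subgroup.mem_normalizer_iff.2 fun t => ?_)
      show f i t ∈ stabilizer G α ↔ f i (x i * t * (x i)⁻¹) ∈ stabilizer G α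
      rw [← hconjN, Subgroup.mul_mem_cancel_right _ (inv_mem (mem_stabilizer_iff.2 hx)),
        Subgroup.mul_mem_cancel_left _ (mem_stabilizer_iff.2 hx)]
    · intro hx
      exact hYα ⟨x, fun i _ => Subgroup.le_normalizer (hx i), rfl⟩
  -- derangements in `N`
  let D : Fin k → Set S := fun i => {t | ∀ s : S, s * t * s⁻¹ ∉ U i}
  have hder : ∀ x i, x i ∈ D i → ∀ ω : Ω, emb x • ω ≠ ω := by
    intro x i hi ω hω
    obtain ⟨y, rfl⟩ := hNtr ω
    rw [hfix_conj, ← map_inv, ← map_mul, ← map_mul, hmemα] at hω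
    exact hi (y i)⁻¹ (by simpa using hω i)
  have hDconj : ∀ i (t u : S), u * t * u⁻¹ ∈ D i ↔ t ∈ D i := by
    intro i t u
    constructor
    · intro h s hs
      exact h (s * u⁻¹) (by simpa [mul_assoc] using hs)
    · intro h s hs
      exact h (s * u) (by simpa [mul_assoc] using hs)
  have hinv : ∀ g, ∃ σ : Equiv.Perm (Fin k), ∀ x i,
      (φ g x (σ i) = 1 ↔ x i = 1) ∧ (φ g x (σ i) ∈ D (σ i) ↔ x i ∈ D i) := by
    intro g
    obtain ⟨y, hy⟩ := hNtr (g • α)
    have hg : (emb y)⁻¹ * g ∈ stabilizer G α := by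
      rw [mem_stabilizer_iff, mul_smul, inv_smul_eq_iff, hy]
    obtain ⟨σ, ψ, hψ, hψ'⟩ := exists_perm hS (φ ((emb y)⁻¹ * g))
    refine ⟨σ, fun x i => ?_⟩
    have hx : φ g x = y * φ ((emb y)⁻¹ * g) x * y⁻¹ := by
      refine hemb ?_
      rw [map_mul, map_mul, map_inv, hφ, hφ]
      group
    have hD : ∀ t, ψ i t ∈ D (σ i) ↔ t ∈ D i := by
      intro t
      constructor
      · intro h s hs
        refine h (ψ i s) ?_
        rw [← map_inv, ← map_mul, ← map_mul, hstab _ hg σ ψ hψ]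
        exact hs
      · intro h s hs
        obtain ⟨s, rfl⟩ := (ψ i).surjective s
        rw [← map_inv, ← map_mul, ← map_mul, hstab _ hg σ ψ hψ] at hs
        exact h s hs
    rw [hx]
    simp only [Pi.mul_apply, Pi.inv_apply, hψ', hDconj, hD, mul_inv_eq_one, mul_eq_left,
      EmbeddingLike.map_eq_one_iff, and_self]
  have hcount : ∀ x x', IsConj (emb x) (emb x') →
      {i | x i ≠ 1}.ncard = {i | x' i ≠ 1}.ncard ∧
      {i | x i ∈ D i}.ncard = {i | x' i ∈ D i}.ncard := by
    intro x x' h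
    obtain ⟨g, hg⟩ := isConj_iff.1 h
    rw [← hφ, hemb.eq_iff] at hg
    subst hg
    obtain ⟨σ, hσ⟩ := hinv g
    constructor
    · exact Nat.card_congr (σ.subtypeEquiv fun i => not_congr (hσ x i).1.symm)
    · exact Nat.card_congr (σ.subtypeEquiv fun i => (hσ x i).2.symm)
  let i₀ : Fin k := ⟨0, by omega⟩
  let i₁ : Fin k := ⟨1, by omega⟩
  have hi : i₀ ≠ i₁ := by simp [i₀, i₁]
  obtain ⟨d₀, hd₀⟩ := exists_notMem_conj (hUne i₀)
  obtain ⟨d₁, hd₁⟩ := exists_notMem_conj (hUne i₁)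
  obtain ⟨⟨u, huU⟩, hu⟩ := (U i₁).ne_bot_iff_exists_ne_one.1 (hUbot i₁)
  have hu1 : u ≠ 1 := fun h => hu (Subtype.ext h)
  have hD1 : ∀ i, (1 : S) ∉ D i := fun i h => h 1 (by simp)
  have hd0ne : d₀ ≠ 1 := fun h => hD1 i₀ (h ▸ hd₀)
  have hd1ne : d₁ ≠ 1 := fun h => hD1 i₁ (h ▸ hd₁)
  have huD : u ∉ D i₁ := fun h => h 1 (by simpa using huU)
  let pair : S → (Fin k → S) := fun s => Pi.mulSingle i₀ d₀ * Pi.mulSingle i₁ s
  have hp0 : ∀ s, pair s i₀ = d₀ := fun s => by simp [pair, hi]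
  have hp1 : ∀ s, pair s i₁ = s := fun s => by simp [pair, Ne.symm hi]
  have hpo : ∀ s i, i ≠ i₀ → i ≠ i₁ → pair s i = 1 := fun s i h h' => by simp [pair, h, h']
  have hsupp1 : {i | pair 1 i ≠ 1} = {i₀} := by
    ext i
    rcases eq_or_ne i i₀ with rfl | h
    · simp [hp0, hd0ne]
    rcases eq_or_ne i i₁ with rfl | h'
    · simp [hp1, h]
    · simp [hpo _ _ h h', h]
  have hsupp2 : ∀ s, s ≠ 1 → {i | pair s i ≠ 1} = {i₀, i₁} := by
    intro s hs
    ext i
    rcases eq_or_ne i i₀ with rfl | h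
    · simp [hp0, hd0ne]
    rcases eq_or_ne i i₁ with rfl | h'
    · simp [hp1, hs]
    · simp [hpo _ _ h h', h, h']
  have hDsupp1 : {i | pair d₁ i ∈ D i} = {i₀, i₁} := by
    ext i
    rcases eq_or_ne i i₀ with rfl | h
    · simp only [Set.mem_setOf_eq, hp0, Set.mem_insert_iff, true_or, iff_true]; exact hd₀
    rcases eq_or_ne i i₁ with rfl | h'
    · simp only [Set.mem_setOf_eq, hp1, Set.mem_insert_iff, Set.mem_singleton_iff, or_true,
        iff_true]
      exact hd₁
    · simp [hpo _ _ h h', h, h', hD1]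
  have hDsupp2 : {i | pair u i ∈ D i} = {i₀} := by
    ext i
    rcases eq_or_ne i i₀ with rfl | h
    · simp only [Set.mem_setOf_eq, hp0, Set.mem_singleton_iff, iff_true]; exact hd₀
    rcases eq_or_ne i i₁ with rfl | h'
    · simp [hp1, huD, h]
    · simp [hpo _ _ h h', h, hD1]
  refine hlt (three_le ![emb (pair 1), emb (pair d₁), emb (pair u)] ?_ ?_)
  · intro j
    fin_cases j <;> exact hder _ i₀ (by simp only [hp0]; exact hd₀)
  · intro j l hjl
    fin_cases j <;> fin_cases l <;> first | rfl | (exfalso; obtain ⟨h1, h2⟩ := hcount _ _ hjl) <;>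
      simp [hsupp1, hsupp2 _ hd1ne, hsupp2 _ hu1, hDsupp1, hDsupp2, Set.ncard_pair hi] at *

/-- A primitive group, not almost simple, with at most two classes of derangements has an abelian
regular normal subgroup. -/
theorem exists_regular_abelian [Finite G] [Finite Ω] [FaithfulSMul G Ω] [Nontrivial Ω]
    [IsPreprimitive G Ω]
    (hnas : ¬ ∃ T : Subgroup G, T.Normal ∧ IsSimpleGroup T ∧ ¬ IsMulCommutative T ∧
      Subgroup.centralizer (T : Set G) = ⊥)
    (hκ : Nat.card (derClasses G Ω) ≤ 2) :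
    ∃ N : Subgroup G, N.Normal ∧ N ≠ ⊥ ∧ IsMulCommutative N ∧ IsPretransitive N Ω ∧
      ∀ n ∈ N, ∀ ω : Ω, n • ω = ω → n = 1 := by
  have hG : Nontrivial G := by
    obtain ⟨g, hg⟩ := exists_derangement (G := G) (Ω := Ω)
    exact ⟨g, 1, fun h => hg (Classical.arbitrary Ω) (by rw [h, one_smul])⟩
  obtain ⟨N, -, hN, hN1, hmin⟩ := exists_minimal_normal (K := (⊤ : Subgroup G)) inferInstance
    top_ne_bot
  haveI := hN
  haveI : Nontrivial N := (Subgroup.nontrivial_iff_ne_bot N).2 hN1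
  have htr := normal_transitive (Ω := Ω) N hN hN1
  have hchar := CfsgLib.SymMax.CharSimple.charSimple_of_minimal hmin
  by_cases hc : Subgroup.centralizer (N : Set G) = ⊥
  · exfalso
    have hnab : ¬ ∀ a b : N, a * b = b * a := by
      intro hab
      refine hN1 (le_bot_iff.1 (hc ▸ fun x hx => Subgroup.mem_centralizer_iff.2 fun y hy => ?_))
      exact congrArg Subtype.val (hab ⟨y, hy⟩ ⟨x, hx⟩)
    obtain ⟨S, hS, hsimple, k, hk, ⟨e⟩⟩ := CfsgLib.SymMax.CharSimple.exists_pow_type hchar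
    have hSnab : ¬ ∀ a b : S, a * b = b * a := fun h =>
      hnab fun a b => e.injective (by rw [map_mul, map_mul]; funext i; exact h _ _)
    rcases Nat.lt_or_ge k 2 with h | h
    · obtain rfl : k = 1 := by omega
      let e' : N ≃* S := e.trans (MulEquiv.funUnique (Fin 1) S)
      exact hnas ⟨N, hN, IsSimpleGroup.isSimpleGroup_of_surjective e'.symm.toMonoidHom
        e'.symm.surjective, fun h => hnab h.is_comm.comm, hc⟩
    · have := three_le_of_power htr hmin h hSnab e
      omega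
  · have htrC := normal_transitive (Ω := Ω) (Subgroup.centralizer (N : Set G)) inferInstance hc
    have hfree : ∀ n ∈ N, ∀ ω : Ω, n • ω = ω → n = 1 := fun n hn ω hω =>
      eq_one_of_fixed_of_commute _ htrC (fun m hm => Subgroup.mem_centralizer_iff.1 hm n hn) hω
    refine ⟨N, hN, hN1, ?_, htr, hfree⟩
    have hsol : Group.IsSolvable N := by
      by_contra h
      have := three_le_of_semiregular N h hfree
      omega
    have hcomm : _root_.commutator N = ⊥ :=
      (hchar _ inferInstance).resolve_right (hsol.commutator_lt_top_of_nontrivial (G := N)).ne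
    refine ⟨⟨fun a b => ?_⟩⟩
    have hc' : ⁅a, b⁆ = 1 := (Subgroup.eq_bot_iff_forall _).1 hcomm _
      (Subgroup.commutator_mem_commutator (Subgroup.mem_top a) (Subgroup.mem_top b))
    exact commutatorElement_eq_one_iff_mul_comm.1 hc'

section Regular

variable [Finite G] {N : Subgroup G}

/-- If all derangements lie in the regular normal subgroup then each other element fixes exactly one
point. -/
theorem fix_le_one [Finite Ω] [Nonempty Ω] (htr : IsPretransitive N Ω)
    (hfree : ∀ n ∈ N, ∀ ω : Ω, n • ω = ω → n = 1)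
    (hD : ∀ g : G, (∀ ω : Ω, g • ω ≠ ω) → g ∈ N) {g : G} (hg : g ≠ 1) :
    Nat.card (fixedBy Ω g) ≤ 1 := by
  classical
  by_cases hgN : g ∈ N
  · haveI : IsEmpty (fixedBy Ω g) := ⟨fun x => hg (hfree g hgN x.1 x.2)⟩
    simp
  haveI : Fintype N := Fintype.ofFinite N
  have hs := sum_fixed_coset N htr g
  have h1 : ∀ d ∈ (Finset.univ : Finset N), (1 : ℕ) ≤ Nat.card (fixedBy Ω (g * d)) := by
    intro d _
    by_contra h
    have hE : IsEmpty (fixedBy Ω (g * d)) := Finite.card_eq_zero_iff.1 (by omega)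
    refine hgN ?_
    have := hD (g * d) fun ω hω => hE.false ⟨ω, hω⟩
    simpa using N.mul_mem this (N.inv_mem d.2)
  rw [Nat.card_eq_fintype_card (α := N), ← Finset.card_univ, Finset.card_eq_sum_ones] at hs
  have := (Finset.sum_eq_sum_iff_of_le h1).1 hs.symm 1 (Finset.mem_univ _)
  simpa using this.symm.le

/-- If the nonidentity elements of a regular abelian normal subgroup are conjugate then the group is
two-transitive. -/
theorem two_transitive (hN : N.Normal) (hab : IsMulCommutative N) (htr : IsPretransitive N Ω)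
    (hone : ∀ a ∈ N, ∀ b ∈ N, a ≠ 1 → b ≠ 1 → IsConj a b) :
    IsMultiplyPretransitive G Ω 2 := by
  have key : ∀ α β γ : Ω, β ≠ α → γ ≠ α → ∃ h : G, h • α = α ∧ h • β = γ := by
    intro α β γ hβ hγ
    obtain ⟨⟨a, ha⟩, haβ⟩ := htr.exists_smul_eq α β
    obtain ⟨⟨b, hb⟩, hbγ⟩ := htr.exists_smul_eq α γ
    change a • α = β at haβ
    change b • α = γ at hbγ
    obtain ⟨g, hg⟩ := isConj_iff.1 (hone a ha b hb (fun h => hβ (by rw [← haβ, h, one_smul]))
      fun h => hγ (by rw [← hbγ, h, one_smul]))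
    obtain ⟨⟨m, hm⟩, hmα⟩ := htr.exists_smul_eq α (g • α)
    change m • α = g • α at hmα
    have hfix : (m⁻¹ * g) • α = α := by rw [mul_smul, inv_smul_eq_iff, hmα]
    refine ⟨m⁻¹ * g, hfix, ?_⟩
    have hmb : m⁻¹ * b * m = b := by
      have hcomm : b * m = m * b := congrArg Subtype.val (hab.is_comm.comm (⟨b, hb⟩ : N) ⟨m, hm⟩)
      rw [mul_assoc, hcomm, inv_mul_cancel_left]
    have hconj : m⁻¹ * g * a = b * (m⁻¹ * g) := by
      rw [← hg] at hmb
      calc m⁻¹ * g * a = (m⁻¹ * (g * a * g⁻¹) * m) * (m⁻¹ * g) := by group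
        _ = _ := by rw [hmb, hg]
    rw [← haβ, ← mul_smul, hconj, mul_smul, hfix, hbγ]
  rw [is_two_pretransitive_iff]
  intro a b c d hab' hcd
  obtain ⟨m, hm⟩ := htr.exists_smul_eq a c
  change (m : G) • a = c at hm
  obtain ⟨h, hc, hb⟩ := key c ((m : G) • b) d (fun e => hab' (by
    rw [← hm] at e; exact (MulAction.injective (m : G) e).symm)) hcd.symm
  exact ⟨h * m, by rw [mul_smul, hm, hc], by rw [mul_smul, hb]⟩

end Regular

/-- One class of derangements. -/
theorem one_class [Finite G] [Finite Ω] [FaithfulSMul G Ω] [Nontrivial Ω] [IsPreprimitive G Ω]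
    (hnas : ¬ ∃ T : Subgroup G, T.Normal ∧ IsSimpleGroup T ∧ ¬ IsMulCommutative T ∧
      Subgroup.centralizer (T : Set G) = ⊥)
    (hκ : Nat.card (derClasses G Ω) = 1) :
    IsMultiplyPretransitive G Ω 2 ∧
      ∀ g : G, g ≠ 1 → ∀ a b : Ω, a ≠ b → g • a = a → g • b ≠ b := by
  obtain ⟨N, hN, hN1, hab, htr, hfree⟩ := exists_regular_abelian (Ω := Ω) hnas (by omega)
  have hder : ∀ n ∈ N, n ≠ 1 → ∀ ω : Ω, n • ω ≠ ω := fun n hn hne ω h => hne (hfree n hn ω h)
  haveI := (Nat.card_eq_one_iff_unique.1 hκ).1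
  have hconj : ∀ x y : G, (∀ ω : Ω, x • ω ≠ ω) → (∀ ω : Ω, y • ω ≠ ω) → IsConj x y := fun x y hx hy =>
    ConjClasses.mk_eq_mk_iff_isConj.1 (congrArg Subtype.val (Subsingleton.elim
      (⟨_, x, rfl, hx⟩ : derClasses G Ω) ⟨_, y, rfl, hy⟩))
  refine ⟨two_transitive hN hab htr fun a ha b hb ha1 hb1 =>
    hconj a b (hder a ha ha1) (hder b hb hb1), ?_⟩
  intro g hg a b hne ha hb
  obtain ⟨n, hn, hn1⟩ := N.bot_or_exists_ne_one.resolve_left hN1
  have hD : ∀ x : G, (∀ ω : Ω, x • ω ≠ ω) → x ∈ N := by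
    intro x hx
    obtain ⟨c, hc⟩ := isConj_iff.1 (hconj n x (hder n hn hn1) hx)
    exact hc ▸ hN.conj_mem n hn c
  have h1 := fix_le_one htr hfree hD hg
  rw [Finite.card_le_one_iff_subsingleton] at h1
  haveI := h1
  exact hne (congrArg Subtype.val (Subsingleton.elim (⟨a, ha⟩ : fixedBy Ω g) ⟨b, hb⟩))

/-- A sharply two-transitive group has a single class of derangements. -/
theorem sharp_one_class [Finite G] [Finite Ω] [Nontrivial Ω]
    (h2 : IsMultiplyPretransitive G Ω 2)
    (hfree : ∀ g : G, g ≠ 1 → ∀ a b : Ω, a ≠ b → g • a = a → g • b ≠ b) :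
    Nat.card (derClasses G Ω) = 1 := by
  have hn : 2 ≤ Nat.card Ω := Finite.one_lt_card
  obtain ⟨-, -, K, -, -, -, hK, -, -, htr, hreg, hmem, -, -⟩ :=
    CfsgLib.Perm.Sharp2.structure_thm h2
      (fun g a b hne ha hb => by_contra fun h => hfree g h a b hne ha hb) hn
  have hconj : ∀ x y : G, (∀ ω : Ω, x • ω ≠ ω) → (∀ ω : Ω, y • ω ≠ ω) → IsConj x y := by
    intro x y hx hy
    let α : Ω := Classical.arbitrary Ω
    obtain ⟨h, hα, hxy⟩ := CfsgLib.Perm.Sharp2.pair_transitive h2 (hx α).symm (hy α).symm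
    refine isConj_iff.2 ⟨h, ?_⟩
    have hmemK : y⁻¹ * (h * x * h⁻¹) ∈ K :=
      K.mul_mem (K.inv_mem ((hmem y).2 (Or.inr hy))) (hK.conj_mem x ((hmem x).2 (Or.inr hx)) h)
    have hs : (⟨_, hmemK⟩ : K) ∈ stabilizer K α := by
      rw [mem_stabilizer_iff]
      show (y⁻¹ * (h * x * h⁻¹)) • α = α
      have hinv : h⁻¹ • α = α := by rw [inv_smul_eq_iff, hα]
      rw [mul_smul, mul_smul, mul_smul, hinv, hxy, inv_smul_smul]
    rw [hreg α, Subgroup.mem_bot] at hs
    exact (inv_mul_eq_one.1 (congrArg Subtype.val hs)).symm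
  haveI : IsPretransitive G Ω := isPretransitive_of_is_two_pretransitive (h2 := h2)
  obtain ⟨d, hd⟩ := exists_derangement (G := G) (Ω := Ω)
  rw [Nat.card_eq_one_iff_unique]
  refine ⟨⟨?_⟩, ⟨⟨_, d, rfl, hd⟩⟩⟩
  rintro ⟨_, x, rfl, hx⟩ ⟨_, y, rfl, hy⟩
  exact Subtype.ext (ConjClasses.mk_eq_mk_iff_isConj.2 (hconj x y hx hy))

/-- Two classes of derangements. -/
theorem two_classes [Finite G] [Fintype Ω] [FaithfulSMul G Ω] [Nontrivial Ω] [IsPreprimitive G Ω]
    (hnas : ¬ ∃ T : Subgroup G, T.Normal ∧ IsSimpleGroup T ∧ ¬ IsMulCommutative T ∧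
      Subgroup.centralizer (T : Set G) = ⊥)
    (hκ : Nat.card (derClasses G Ω) = 2) (α : Ω) :
    ((∃ N : Subgroup G, N.Normal ∧ N ≠ ⊥ ∧ IsMulCommutative N ∧ ∀ ω : Ω, stabilizer N ω = ⊥) ∧
      (∀ g : G, g ≠ 1 → Nat.card (fixedBy Ω g) ≤ 1) ∧ ¬ 2 ∣ Fintype.card Ω ∧
        2 * Nat.card (stabilizer G α) = Fintype.card Ω - 1) ∨
    ((∃ N : Subgroup G, N.Normal ∧ N ≠ ⊥ ∧ IsMulCommutative N ∧ ∀ ω : Ω, stabilizer N ω = ⊥) ∧
      IsMultiplyPretransitive G Ω 2 ∧ ∃ g : G, g ≠ 1 ∧ 2 ≤ Nat.card (fixedBy Ω g)) := by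
  classical
  obtain ⟨N, hN, hN1, hab, htr, hfree⟩ := exists_regular_abelian hnas hκ.le
  have hNex : ∃ N : Subgroup G, N.Normal ∧ N ≠ ⊥ ∧ IsMulCommutative N ∧
      ∀ ω : Ω, stabilizer N ω = ⊥ := ⟨N, hN, hN1, hab, fun ω =>
    (Subgroup.eq_bot_iff_forall _).2 fun n hn => Subtype.ext (hfree n n.2 ω hn)⟩
  have hder : ∀ n ∈ N, n ≠ 1 → ∀ ω : Ω, n • ω ≠ ω := fun n hn hne ω h => hne (hfree n hn ω h)
  obtain ⟨c₁, c₂, hcne, hcuniv⟩ := Nat.card_eq_two_iff.1 hκ
  have hall : ∀ c : derClasses G Ω, c = c₁ ∨ c = c₂ := fun c => by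
    have : c ∈ ({c₁, c₂} : Set _) := hcuniv ▸ Set.mem_univ c
    simpa using this
  by_cases hD : ∀ g : G, (∀ ω : Ω, g • ω ≠ ω) → g ∈ N
  · left
    have hfix : ∀ g : G, g ≠ 1 → Nat.card (fixedBy Ω g) ≤ 1 := fun g hg =>
      fix_le_one htr hfree hD hg
    obtain ⟨a₁, ha₁, hd₁⟩ := c₁.2
    obtain ⟨a₂, ha₂, hd₂⟩ := c₂.2
    have hnconj : ∀ u v : G, u * a₁ * u⁻¹ ≠ v * a₂ * v⁻¹ := by
      intro u v h
      refine hcne (Subtype.ext ?_)
      rw [← ha₁, ← ha₂, ConjClasses.mk_eq_mk_iff_isConj]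
      exact (isConj_iff.2 ⟨u, h⟩).trans (isConj_iff.2 ⟨v, rfl⟩).symm
    have hconjα : ∀ (h : stabilizer G α) (a : G),
        ((h : G) * a * (h : G)⁻¹) • α = (h : G) • a • α := by
      intro h a
      rw [mul_smul, mul_smul, show (h : G)⁻¹ • α = α from inv_mem (s := stabilizer G α) h.2]
    have hcmem : ∀ (h : G) (a : G), (∀ ω : Ω, a • ω ≠ ω) → h * a * h⁻¹ ∈ N := fun h a ha =>
      hN.conj_mem a (hD a ha) h
    have heq : ∀ u v : G, u ∈ N → v ∈ N → u • α = v • α → u = v := fun u v hu hv h =>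
      (inv_mul_eq_one.1 (hfree _ (N.mul_mem (N.inv_mem hv) hu) α
        (by rw [mul_smul, inv_smul_eq_iff, h]))).symm
    have hsame : ∀ (h h' : stabilizer G α) (a : G), (∀ ω : Ω, a • ω ≠ ω) →
        (h : G) • a • α = (h' : G) • a • α → h = h' := by
      intro h h' a ha he
      by_contra hne
      have hne' : (h' : G)⁻¹ * h ≠ 1 := fun e => hne (Subtype.ext (inv_mul_eq_one.1 e).symm)
      have h1 := hfix _ hne'
      rw [Finite.card_le_one_iff_subsingleton] at h1
      haveI := h1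
      have hα' : ((h' : G)⁻¹ * h) • α = α := ((h'⁻¹ * h : stabilizer G α)).2
      have haα : ((h' : G)⁻¹ * h) • a • α = a • α := by rw [mul_smul, he, inv_smul_smul]
      exact ha α (congrArg Subtype.val (Subsingleton.elim
        (⟨a • α, haα⟩ : fixedBy Ω ((h' : G)⁻¹ * h)) ⟨α, hα'⟩))
    have hcount : 2 * Nat.card (stabilizer G α) = Fintype.card Ω - 1 := by
      have hc : Nat.card {ω : Ω // ω ≠ α} = Fintype.card Ω - 1 := by
        rw [Nat.card_eq_fintype_card, Fintype.card_subtype_compl, Fintype.card_subtype_eq]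
      rw [← hc]
      let F : stabilizer G α ⊕ stabilizer G α → {ω : Ω // ω ≠ α} := Sum.elim
        (fun h => ⟨(h : G) • a₁ • α, fun e => hd₁ α (MulAction.injective (h : G) (e.trans h.2.symm))⟩)
        (fun h => ⟨(h : G) • a₂ • α, fun e => hd₂ α (MulAction.injective (h : G) (e.trans h.2.symm))⟩)
      have hF : Function.Bijective F := by
        constructor
        · rintro (h | h) (h' | h') he <;> have he' := congrArg Subtype.val he <;>
            simp only [F, Sum.elim_inl, Sum.elim_inr] at he'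
          · exact congrArg Sum.inl (hsame h h' a₁ hd₁ he')
          · rw [← hconjα, ← hconjα] at he'
            exact absurd (heq _ _ (hcmem _ _ hd₁) (hcmem _ _ hd₂) he') (hnconj _ _)
          · rw [← hconjα, ← hconjα] at he'
            exact absurd (heq _ _ (hcmem _ _ hd₂) (hcmem _ _ hd₁) he').symm (hnconj _ _)
          · exact congrArg Sum.inr (hsame h h' a₂ hd₂ he')
        · rintro ⟨ω, hω⟩
          obtain ⟨⟨n, hn⟩, hnω⟩ := htr.exists_smul_eq α ω
          change n • α = ω at hnω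
          have hn1 : n ≠ 1 := fun h => hω (by rw [← hnω, h, one_smul])
          obtain ⟨a, ha, hc, hsum⟩ : ∃ a, (∀ ω : Ω, a • ω ≠ ω) ∧ IsConj a n ∧
              ∀ h : stabilizer G α, ∃ s, (F s).1 = (h : G) • a • α := by
            rcases hall ⟨_, n, rfl, hder n hn hn1⟩ with h | h
            · refine ⟨a₁, hd₁, ?_, fun h => ⟨Sum.inl h, rfl⟩⟩
              rw [← ConjClasses.mk_eq_mk_iff_isConj, ha₁]
              exact (congrArg Subtype.val h).symm
            · refine ⟨a₂, hd₂, ?_, fun h => ⟨Sum.inr h, rfl⟩⟩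
              rw [← ConjClasses.mk_eq_mk_iff_isConj, ha₂]
              exact (congrArg Subtype.val h).symm
          obtain ⟨g, hg⟩ := isConj_iff.1 hc
          obtain ⟨⟨m, hm⟩, hmα⟩ := htr.exists_smul_eq α (g • α)
          change m • α = g • α at hmα
          have hst : m⁻¹ * g ∈ stabilizer G α := by
            rw [mem_stabilizer_iff, mul_smul, inv_smul_eq_iff, hmα]
          obtain ⟨s, hs⟩ := hsum ⟨_, hst⟩
          refine ⟨s, Subtype.ext ?_⟩
          show (F s).1 = ω
          rw [hs, ← hconjα ⟨_, hst⟩ a, ← hnω]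
          have hcomm : n * m = m * n :=
            congrArg Subtype.val (hab.is_comm.comm (⟨n, hn⟩ : N) ⟨m, hm⟩)
          refine congrArg (· • α) ?_
          show m⁻¹ * g * a * (m⁻¹ * g)⁻¹ = n
          calc m⁻¹ * g * a * (m⁻¹ * g)⁻¹ = m⁻¹ * (g * a * g⁻¹ * m) := by group
            _ = n := by rw [hg, hcomm, inv_mul_cancel_left]
      rw [← Nat.card_eq_of_bijective F hF, Nat.card_sum, two_mul]
    refine ⟨hNex, hfix, ?_, hcount⟩
    have : 2 ≤ Fintype.card Ω := Fintype.one_lt_card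
    omega
  · right
    push Not at hD
    obtain ⟨g, hg, hgN⟩ := hD
    have hone : ∀ a ∈ N, ∀ b ∈ N, a ≠ 1 → b ≠ 1 → IsConj a b := by
      intro a ha b hb ha1 hb1
      have hnot : ∀ x ∈ N, ∀ hx : ∀ ω : Ω, x • ω ≠ ω,
          (⟨_, x, rfl, hx⟩ : derClasses G Ω) ≠ ⟨_, g, rfl, hg⟩ := by
        intro x hxN hx h
        obtain ⟨c, hc⟩ := isConj_iff.1 (ConjClasses.mk_eq_mk_iff_isConj.1 (congrArg Subtype.val h))
        exact hgN (hc ▸ hN.conj_mem x hxN c)
      have hA := hnot a ha (hder a ha ha1)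
      have hB := hnot b hb (hder b hb hb1)
      have hAB : (⟨_, a, rfl, hder a ha ha1⟩ : derClasses G Ω) = ⟨_, b, rfl, hder b hb hb1⟩ := by
        rcases hall ⟨_, a, rfl, hder a ha ha1⟩ with h | h <;>
        rcases hall ⟨_, b, rfl, hder b hb hb1⟩ with h' | h' <;>
        rcases hall ⟨_, g, rfl, hg⟩ with h'' | h'' <;> simp_all
      exact ConjClasses.mk_eq_mk_iff_isConj.1 (congrArg Subtype.val hAB)
    refine ⟨hNex, two_transitive hN hab htr hone, ?_⟩
    by_contra hcon
    push Not at hcon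
    haveI : Fintype N := Fintype.ofFinite N
    have hs := sum_fixed_coset N htr g
    have h1 : ∀ d ∈ (Finset.univ : Finset N), Nat.card (fixedBy Ω (g * d)) ≤ 1 := by
      intro d _
      have hne : g * (d : G) ≠ 1 := fun h => hgN (by
        rw [mul_eq_one_iff_eq_inv] at h; exact h ▸ N.inv_mem d.2)
      have := hcon _ hne
      omega
    rw [Nat.card_eq_fintype_card (α := N), ← Finset.card_univ, Finset.card_eq_sum_ones] at hs
    have := (Finset.sum_eq_sum_iff_of_le h1).1 hs 1 (Finset.mem_univ _)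
    rw [OneMemClass.coe_one, mul_one] at this
    obtain ⟨⟨ω, hω⟩⟩ : Nonempty (fixedBy Ω g) := (Nat.card_pos_iff.1 (by omega)).1
    exact hg ω hω

end CfsgLib.Recognition.DerangementClasses
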