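import Mathlib
import Cfsg.Agent.Lib.KnownC.MatOrder

/-!
Frobenius powers of `2 × 2` matrices over a finite field of odd characteristic, and the element
orders of `PGL₂(q)`.
-/

namespace CfsgLib.Recognition.TwoByTwo

open Matrix

variable {F : Type*} [Field F]

/-- The discriminant of the characteristic polynomial. -/
def disc (A : Matrix (Fin 2) (Fin 2) F) : F := A.trace ^ 2 - 4 * A.det

theorem sq_eq (A : Matrix (Fin 2) (Fin 2) F) : A * A = A.trace • A - A.det • 1 := by
  ext i j
  fin_cases i <;> fin_cases j <;>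
    simp [Matrix.mul_apply, Fin.sum_univ_two, Matrix.trace_fin_two, Matrix.det_fin_two] <;> ring

/-- The trace-zero part of a matrix. -/
def nilPart (A : Matrix (Fin 2) (Fin 2) F) : Matrix (Fin 2) (Fin 2) F :=
  A - (A.trace / 2) • 1

theorem nilPart_mul_self (h2 : (2 : F) ≠ 0) (A : Matrix (Fin 2) (Fin 2) F) :
    nilPart A * nilPart A = (disc A / 4) • 1 := by
  have h4 : (4 : F) ≠ 0 := by rw [show (4 : F) = 2 * 2 by norm_num]; exact mul_ne_zero h2 h2
  ext i j
  fin_cases i <;> fin_cases j <;>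
    simp [nilPart, disc, Matrix.mul_apply, Fin.sum_univ_two, Matrix.trace_fin_two, Matrix.det_fin_two] <;>
    field_simp <;> ring

theorem nilPart_pow_odd (h2 : (2 : F) ≠ 0) (A : Matrix (Fin 2) (Fin 2) F) (m : ℕ) :
    nilPart A ^ (2 * m + 1) = (disc A / 4) ^ m • nilPart A := by
  rw [pow_succ, pow_mul, pow_two, nilPart_mul_self h2, _root_.smul_pow, one_pow, Matrix.smul_mul, one_mul]

variable [Fintype F] (p : ℕ) [Fact p.Prime] [CharP F p]

omit [Fintype F] in
theorem two_ne_zero_of_odd (hp : p ≠ 2) : (2 : F) ≠ 0 := by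
  intro h
  have h' : ((2 : ℕ) : F) = 0 := by exact_mod_cast h
  exact hp ((Nat.prime_dvd_prime_iff_eq Fact.out Nat.prime_two).mp ((CharP.cast_eq_zero_iff F p 2).mp h'))

/-- Matrices with vanishing discriminant have scalar `p`-th power. -/
theorem pow_char_of_disc_zero (hp : p ≠ 2) (A : Matrix (Fin 2) (Fin 2) F) (hA : disc A = 0) :
    A ^ p = (A.trace / 2) ^ p • 1 := by
  have hodd : p = 2 * (p / 2) + 1 := by
    rcases Nat.Prime.eq_two_or_odd (Fact.out : p.Prime) with h | h <;> omega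
  have hp3 : 0 < p / 2 := by
    have := (Fact.out : p.Prime).two_le
    omega
  have hd : A = (A.trace / 2) • 1 + nilPart A := by rw [nilPart, add_sub_cancel]
  conv_lhs => rw [hd]
  rw [add_pow_char_of_commute _ ((Commute.one_left _).smul_left _), _root_.smul_pow, one_pow]
  have hN : nilPart A ^ p = 0 := by
    rw [hodd, nilPart_pow_odd (two_ne_zero_of_odd p hp), hA, zero_div, zero_pow hp3.ne', zero_smul]
  rw [hN, add_zero]

/-- The Frobenius power of a matrix with nonvanishing discriminant. -/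
theorem pow_card_cases (hp : p ≠ 2) (A : Matrix (Fin 2) (Fin 2) F) (hA : disc A ≠ 0) :
    A ^ Fintype.card F = A ∨ A ^ (Fintype.card F + 1) = A.det • 1 := by
  have h2 := two_ne_zero_of_odd p hp (F := F)
  obtain ⟨n, -, hq⟩ := FiniteField.card F p
  have hodd : Fintype.card F = 2 * (Fintype.card F / 2) + 1 := by
    have : ringChar F ≠ 2 := by rwa [ringChar.eq F p]
    have := FiniteField.odd_card_of_char_ne_two this
    omega
  have h4 : (4 : F) ≠ 0 := by rw [show (4 : F) = 2 * 2 by norm_num]; exact mul_ne_zero h2 h2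
  have hd : A = (A.trace / 2) • 1 + nilPart A := by rw [nilPart, add_sub_cancel]
  have hpow : A ^ Fintype.card F = (A.trace / 2) • 1 + (disc A / 4) ^ (Fintype.card F / 2) • nilPart A := by
    conv_lhs => rw [hd]
    rw [hq, add_pow_char_pow_of_commute _ _ ((Commute.one_left _).smul_left _), _root_.smul_pow, one_pow, ← hq,
      FiniteField.pow_card]
    congr 1
    nth_rewrite 1 [hodd]
    exact nilPart_pow_odd h2 A _
  rcases FiniteField.pow_dichotomy (by rwa [ringChar.eq F p]) (div_ne_zero hA h4) with h | h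
  · left; rw [hpow, h, one_smul, ← hd]
  · right
    rw [pow_succ, hpow, h, neg_one_smul, nilPart, neg_sub, Matrix.add_mul, Matrix.sub_mul, Matrix.smul_mul,
      one_mul, sq_eq]
    match_scalars <;> field_simp <;> ring

/-- With square discriminant the Frobenius power fixes the matrix. -/
theorem pow_card_of_isSquare (hp : p ≠ 2) (A : Matrix (Fin 2) (Fin 2) F) (hA : disc A ≠ 0)
    (hsq : IsSquare (disc A)) : A ^ Fintype.card F = A := by
  have h2 := two_ne_zero_of_odd p hp (F := F)
  obtain ⟨n, -, hq⟩ := FiniteField.card F p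
  have hchar : ringChar F ≠ 2 := by rwa [ringChar.eq F p]
  have h4 : (4 : F) ≠ 0 := by rw [show (4 : F) = 2 * 2 by norm_num]; exact mul_ne_zero h2 h2
  have hsq4 : IsSquare (disc A / 4) := by
    obtain ⟨r, hr⟩ := hsq
    exact ⟨r / 2, by rw [hr, div_mul_div_comm, show (2 : F) * 2 = 4 by norm_num]⟩
  have hd : A = (A.trace / 2) • 1 + nilPart A := by rw [nilPart, add_sub_cancel]
  have hodd : Fintype.card F = 2 * (Fintype.card F / 2) + 1 := by
    have := FiniteField.odd_card_of_char_ne_two hchar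
    omega
  have hN : nilPart A ^ Fintype.card F = nilPart A := by
    nth_rewrite 1 [hodd]
    rw [nilPart_pow_odd h2, (FiniteField.isSquare_iff hchar (div_ne_zero hA h4)).mp hsq4, one_smul]
  conv_lhs => rw [hd]
  rw [hq, add_pow_char_pow_of_commute _ _ ((Commute.one_left _).smul_left _), _root_.smul_pow, one_pow, ← hq,
    FiniteField.pow_card, hN, ← hd]

/-- Every invertible matrix becomes scalar after `p`, `q - 1` or `q + 1` steps. -/
theorem pow_scalar_cases (hp : p ≠ 2) (A : Matrix (Fin 2) (Fin 2) F) (hA : A.det ≠ 0) :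
    ∃ m, (m = p ∨ m = Fintype.card F - 1 ∨ m = Fintype.card F + 1) ∧ ∃ c : F, A ^ m = c • 1 := by
  by_cases h : disc A = 0
  · exact ⟨p, Or.inl rfl, _, pow_char_of_disc_zero p hp A h⟩
  rcases pow_card_cases p hp A h with h | h
  · refine ⟨_, Or.inr (Or.inl rfl), 1, ?_⟩
    rw [one_smul]
    have hu : IsUnit A := (Matrix.isUnit_iff_isUnit_det A).mpr (Ne.isUnit hA)
    apply hu.mul_right_cancel
    rw [one_mul, ← pow_succ, Nat.sub_add_cancel Fintype.card_pos, h]
  · exact ⟨_, Or.inr (Or.inr rfl), _, h⟩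

local notation "GL2" => GL (Fin 2) F
local notation "PGL2" => Matrix.GeneralLinearGroup (Fin 2) F ⧸ Subgroup.center (Matrix.GeneralLinearGroup (Fin 2) F)

omit [Fintype F] in
theorem mk_pow_eq_one_iff (A : GL2) (m : ℕ) :
    (QuotientGroup.mk A : PGL2) ^ m = 1 ↔ ∃ c : F, (A : Matrix (Fin 2) (Fin 2) F) ^ m = c • 1 := by
  rw [← QuotientGroup.mk_pow, QuotientGroup.eq_one_iff, Matrix.GeneralLinearGroup.mem_center_iff_val_mem_range_scalar,
    Units.val_pow_eq_pow_val]
  constructor
  · rintro ⟨c, hc⟩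
    exact ⟨c, by rw [← hc, Matrix.smul_one_eq_diagonal]; rfl⟩
  · rintro ⟨c, hc⟩
    exact ⟨c, by rw [hc, Matrix.smul_one_eq_diagonal]; rfl⟩

theorem pgl_orderOf_dvd (hp : p ≠ 2) (x : PGL2) :
    orderOf x ∣ p ∨ orderOf x ∣ Fintype.card F - 1 ∨ orderOf x ∣ Fintype.card F + 1 := by
  obtain ⟨A, rfl⟩ := QuotientGroup.mk_surjective x
  obtain ⟨m, hm, c, hc⟩ := pow_scalar_cases p hp (A : Matrix (Fin 2) (Fin 2) F)
    ((Matrix.isUnit_iff_isUnit_det _).mp A.isUnit).ne_zero
  have := orderOf_dvd_of_pow_eq_one ((mk_pow_eq_one_iff A m).mpr ⟨c, hc⟩)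
  rcases hm with rfl | rfl | rfl
  · exact Or.inl this
  · exact Or.inr (Or.inl this)
  · exact Or.inr (Or.inr this)

theorem pgl_exists_char : ∃ x : PGL2, orderOf x = p := by
  refine ⟨QuotientGroup.mk (Matrix.GeneralLinearGroup.mkOfDetNeZero !![1, 1; 0, 1] (by simp)),
    orderOf_eq_prime ?_ ?_⟩
  · rw [mk_pow_eq_one_iff]
    refine ⟨1, ?_⟩
    have : ∀ k : ℕ, (!![1, 1; 0, 1] : Matrix (Fin 2) (Fin 2) F) ^ k = !![1, (k : F); 0, 1] := by
      intro k
      induction k with
      | zero => rw [pow_zero, Matrix.one_fin_two, Nat.cast_zero]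
      | succ k ih => rw [pow_succ, ih]; ext i j; fin_cases i <;> fin_cases j <;> simp [Matrix.mul_apply, Fin.sum_univ_two, add_comm]
    change (!![1, 1; 0, 1] : Matrix (Fin 2) (Fin 2) F) ^ p = _
    rw [this, CharP.cast_eq_zero, one_smul, Matrix.one_fin_two]
  · intro h
    rw [← pow_one (QuotientGroup.mk _), mk_pow_eq_one_iff] at h
    obtain ⟨c, hc⟩ := h
    have := congrFun (congrFun hc 0) 1
    simp [Matrix.GeneralLinearGroup.mkOfDetNeZero] at this

omit [Fintype F] in
theorem pgl_exists_minus [Finite F] : ∃ x : PGL2, orderOf x = Nat.card F - 1 := by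
  classical
  obtain ⟨ζ, hζ⟩ := IsCyclic.exists_ofOrder_eq_natCard (α := Fˣ)
  rw [Nat.card_units] at hζ
  refine ⟨QuotientGroup.mk (Matrix.GeneralLinearGroup.mkOfDetNeZero (Matrix.diagonal ![(ζ : F), 1]) (by simp)),
    Nat.dvd_antisymm (orderOf_dvd_of_pow_eq_one ?_) ?_⟩
  · rw [mk_pow_eq_one_iff]
    refine ⟨1, ?_⟩
    change Matrix.diagonal ![(ζ : F), 1] ^ _ = _
    rw [Matrix.diagonal_pow, ← hζ, one_smul, ← Matrix.diagonal_one]
    congr 1
    funext i
    fin_cases i <;> simp [← Units.val_pow_eq_pow_val, pow_orderOf_eq_one]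
  · generalize hk : orderOf (QuotientGroup.mk _ : PGL2) = k
    have h1 := pow_orderOf_eq_one (QuotientGroup.mk (Matrix.GeneralLinearGroup.mkOfDetNeZero (Matrix.diagonal ![(ζ : F), 1]) (by simp)) : PGL2)
    rw [hk, mk_pow_eq_one_iff] at h1
    obtain ⟨c, hc⟩ := h1
    change Matrix.diagonal ![(ζ : F), 1] ^ k = _ at hc
    rw [Matrix.diagonal_pow] at hc
    have h00 := congrFun (congrFun hc 0) 0
    have h11 := congrFun (congrFun hc 1) 1
    simp at h00 h11
    rw [← hζ]
    apply orderOf_dvd_of_pow_eq_one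
    apply Units.ext
    rw [Units.val_pow_eq_pow_val, Units.val_one, h00, ← h11]

include p in
/-- An invertible matrix of order `q² - 1`. -/
theorem exists_singer : ∃ A : GL2, orderOf A = Fintype.card F ^ 2 - 1 := by
  obtain ⟨A, hA⟩ := CfsgLib.KnownC.MatOrder.exists_matrix_singer (F := F) p (d := 2) (n := 2) le_add_self le_rfl
  rw [Nat.card_eq_fintype_card] at hA
  have hpos : 0 < orderOf A := by
    rw [hA]
    have : 2 ≤ Fintype.card F := Fintype.one_lt_card
    exact Nat.sub_pos_of_lt (lt_of_lt_of_le (by omega) (Nat.le_self_pow two_ne_zero _))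
  refine ⟨(IsOfFinOrder.unit (orderOf_pos_iff.mp hpos)), ?_⟩
  rw [← orderOf_units, IsOfFinOrder.val_unit, hA]

theorem pgl_exists_plus (hp : p ≠ 2) : ∃ x : PGL2, orderOf x = Fintype.card F + 1 := by
  obtain ⟨A, hA⟩ := exists_singer p (F := F)
  have hq : 2 ≤ Fintype.card F := Fintype.one_lt_card
  have hmul : (Fintype.card F + 1) * (Fintype.card F - 1) = Fintype.card F ^ 2 - 1 := by
    rw [← Nat.sq_sub_sq, one_pow]
  have hdvd : Fintype.card F + 1 ∣ orderOf (QuotientGroup.mk A : PGL2) := by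
    generalize hk : orderOf (QuotientGroup.mk A : PGL2) = k
    have h1 := pow_orderOf_eq_one (QuotientGroup.mk A : PGL2)
    rw [hk, mk_pow_eq_one_iff] at h1
    obtain ⟨c, hc⟩ := h1
    have hc0 : c ≠ 0 := by
      rintro rfl
      have := congrArg Matrix.det hc
      rw [Matrix.det_pow, zero_smul, Matrix.det_zero] at this
      exact ((Matrix.isUnit_iff_isUnit_det _).mp A.isUnit).ne_zero (pow_eq_zero_iff'.mp this).1
    have : A ^ (k * (Fintype.card F - 1)) = 1 := by
      apply Units.ext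
      rw [Units.val_pow_eq_pow_val, pow_mul, hc, _root_.smul_pow, one_pow, FiniteField.pow_card_sub_one_eq_one c hc0,
        one_smul, Units.val_one]
    have h2 := orderOf_dvd_of_pow_eq_one this
    rw [hA, ← hmul] at h2
    exact Nat.dvd_of_mul_dvd_mul_right (by omega) h2
  refine ⟨QuotientGroup.mk A, Nat.dvd_antisymm ?_ hdvd⟩
  have hpos := orderOf_pos (QuotientGroup.mk A : PGL2)
  rcases pgl_orderOf_dvd p hp (QuotientGroup.mk A : PGL2) with h | h | h
  · exfalso
    have := Nat.le_of_dvd (Fact.out : p.Prime).pos (hdvd.trans h)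
    obtain ⟨n, -, hqn⟩ := FiniteField.card F p
    have := Nat.le_of_dvd (by omega) (show p ∣ Fintype.card F from hqn ▸ dvd_pow_self p n.ne_zero)
    omega
  · exfalso
    have := Nat.le_of_dvd (by omega) (hdvd.trans h)
    omega
  · exact h

end CfsgLib.Recognition.TwoByTwo
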