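import Mathlib
import Cfsg.Agent.Lib.Recognition.TwoByTwo

/-!
Elements of `SL₂(q)` with orders `p`, `q - 1` and `q + 1`.
-/

namespace CfsgLib.Recognition.SLTwoElements

open Matrix

variable (F : Type*) [Field F]

local notation "SL2" => Matrix.SpecialLinearGroup (Fin 2) F

/-- A diagonal element. -/
def diag (a : Fˣ) : SL2 := ⟨Matrix.diagonal ![(a : F), (a : F)⁻¹], by simp [Fin.prod_univ_two]⟩

/-- A unipotent element. -/
def transv : SL2 := ⟨!![1, 1; 0, 1], by simp⟩

theorem transv_pow (k : ℕ) : ((transv F ^ k : SL2) : Matrix (Fin 2) (Fin 2) F) = !![1, (k : F); 0, 1] := by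
  induction k with
  | zero => rw [pow_zero, Matrix.SpecialLinearGroup.coe_one, Nat.cast_zero, Matrix.one_fin_two]
  | succ k ih =>
    rw [pow_succ, Matrix.SpecialLinearGroup.coe_mul, ih]
    ext i j; fin_cases i <;> fin_cases j <;> simp [transv, Matrix.mul_apply, Fin.sum_univ_two, add_comm]

theorem exists_minus [Finite F] : ∃ ζ : Fˣ, orderOf ζ = Nat.card F - 1 ∧
    ∀ k, diag F ζ ^ k = 1 → Nat.card F - 1 ∣ k := by
  obtain ⟨ζ, hζ⟩ := IsCyclic.exists_ofOrder_eq_natCard (α := Fˣ)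
  rw [Nat.card_units] at hζ
  refine ⟨ζ, hζ, fun k hk => ?_⟩
  rw [← hζ]
  apply orderOf_dvd_of_pow_eq_one
  apply Units.ext
  have := congrArg (fun M : SL2 => (M : Matrix (Fin 2) (Fin 2) F) 0 0) hk
  rw [Matrix.SpecialLinearGroup.coe_pow, Matrix.SpecialLinearGroup.coe_one] at this
  change (Matrix.diagonal ![(ζ : F), (ζ : F)⁻¹] ^ k) 0 0 = _ at this
  rw [Matrix.diagonal_pow, Matrix.diagonal_apply_eq, Matrix.one_apply_eq] at this
  rw [Units.val_pow_eq_pow_val, Units.val_one]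
  exact this

theorem exists_plus [Fintype F] (p : ℕ) [Fact p.Prime] [CharP F p] :
    ∃ g : SL2, ∀ k, g ^ k = 1 → Fintype.card F + 1 ∣ k := by
  obtain ⟨A, hA⟩ := TwoByTwo.exists_singer p (F := F)
  have hq : 2 ≤ Fintype.card F := Fintype.one_lt_card
  have hdet : ((A ^ (Fintype.card F - 1) : GL (Fin 2) F) : Matrix (Fin 2) (Fin 2) F).det = 1 := by
    rw [Units.val_pow_eq_pow_val, Matrix.det_pow]
    exact FiniteField.pow_card_sub_one_eq_one _ ((Matrix.isUnit_iff_isUnit_det _).mp A.isUnit).ne_zero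
  refine ⟨⟨_, hdet⟩, fun k hk => ?_⟩
  have h : A ^ ((Fintype.card F - 1) * k) = 1 := by
    rw [pow_mul]
    apply Units.ext
    rw [Units.val_pow_eq_pow_val, Units.val_one]
    exact (Matrix.SpecialLinearGroup.coe_pow _ k).symm.trans (congrArg Subtype.val hk)
  have h' := orderOf_dvd_of_pow_eq_one h
  rw [hA, show Fintype.card F ^ 2 - 1 = (Fintype.card F - 1) * (Fintype.card F + 1) by
    rw [mul_comm, ← Nat.sq_sub_sq, one_pow]] at h'
  exact Nat.dvd_of_mul_dvd_mul_left (by omega) h'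

end CfsgLib.Recognition.SLTwoElements
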