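import Mathlib
import Cfsg.Prelude.Def_Classical
import Cfsg.Agent.Lib.Classical.SympMatrix

/-!
Element orders of `PSp₄(q)`: every element order divides `4` (`q` even), `9` (`q` a power of 3),
`p (q ± 1)` or `(q² ± 1) / (2, q - 1)`.
-/

namespace CfsgLib.Recognition.SpFourSpectrum

open Matrix Polynomial

/-- A product of distinct linear factors divides a polynomial vanishing at the points. -/
theorem prod_dvd {K : Type*} [Field K] (s : Finset K) (g : K[X]) (h : ∀ x ∈ s, g.eval x = 0) :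
    (∏ x ∈ s, (X - C x)) ∣ g :=
  Finset.prod_dvd_of_coprime ((Polynomial.pairwise_coprime_X_sub_C (Function.injective_id)).set_pairwise _)
    fun x hx => dvd_iff_isRoot.mpr (h x hx)

/-- Cayley-Hamilton after extending the scalars. -/
theorem pow_eq_of_dvd {F K : Type*} [Field F] [Field K] (ι : F →+* K) {n : Type*} [Fintype n] [DecidableEq n]
    (A : Matrix n n F) (N : ℕ) (ε : F) (h : A.charpoly.map ι ∣ X ^ N - C (ι ε)) : A ^ N = ε • 1 := by
  rw [← Matrix.charpoly_map] at h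
  obtain ⟨g, hg⟩ := h
  have h0 := congrArg (Polynomial.aeval (A.map ι)) hg
  rw [map_mul, Matrix.aeval_self_charpoly, zero_mul, map_sub, map_pow, aeval_X, aeval_C, sub_eq_zero,
    Algebra.algebraMap_eq_smul_one] at h0
  have hpow : (A ^ N).map ι = (A.map ι) ^ N := map_pow ι.mapMatrix A N
  apply Matrix.map_injective ι.injective
  change (A ^ N).map ι = (ε • (1 : Matrix n n F)).map ι
  rw [hpow, h0]
  ext i j
  simp [Matrix.one_apply, apply_ite ι]

variable {F : Type*} [Field F]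

local notation "Sp4" => Matrix.symplecticGroup (Fin 2) F

theorem isUnit_J : IsUnit (Matrix.J (Fin 2) F) :=
  (Matrix.isUnit_iff_isUnit_det _).mpr (Matrix.isUnit_det_J _ _)

theorem card_index : Fintype.card (Fin 2 ⊕ Fin 2) = 4 := rfl

theorem charpoly_reverse (A : Sp4) :
    (A : Matrix (Fin 2 ⊕ Fin 2) (Fin 2 ⊕ Fin 2) F).charpoly.reverse =
      (A : Matrix (Fin 2 ⊕ Fin 2) (Fin 2 ⊕ Fin 2) F).charpoly := by
  have hdet : (A : Matrix (Fin 2 ⊕ Fin 2) (Fin 2 ⊕ Fin 2) F).det = 1 := SymplecticGroup.det_eq_one A.2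
  have hu : IsUnit (A : Matrix (Fin 2 ⊕ Fin 2) (Fin 2 ⊕ Fin 2) F) :=
    (Matrix.isUnit_iff_isUnit_det _).mpr (by rw [hdet]; exact isUnit_one)
  have h1 := Matrix.charpoly_inv _ hu
  rw [card_index, hdet, Ring.inverse_one, map_one, mul_one, show ((-1 : F[X]) ^ 4) = 1 by norm_num, one_mul,
    ← Matrix.reverse_charpoly, SymplecticGroup.inv_eq_symplectic_inv _ A.2] at h1
  rw [← h1]
  obtain ⟨u, hu'⟩ := isUnit_J (F := F)
  rw [← Matrix.J_inv, ← hu', Matrix.charpoly_units_conj', Matrix.charpoly_transpose]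

theorem exists_roots (A : Sp4) (K : Type*) [Field K] [IsAlgClosed K] (ι : F →+* K) :
    ∃ a b : K, a ≠ 0 ∧ b ≠ 0 ∧ (A : Matrix (Fin 2 ⊕ Fin 2) (Fin 2 ⊕ Fin 2) F).charpoly.map ι =
      (X - C a) * (X - C a⁻¹) * ((X - C b) * (X - C b⁻¹)) := by
  set f := (A : Matrix (Fin 2 ⊕ Fin 2) (Fin 2 ⊕ Fin 2) F).charpoly with hf
  have hdeg : f.natDegree = 4 := by rw [hf, Matrix.charpoly_natDegree_eq_dim, card_index]
  have h4 : f.coeff 4 = 1 := by rw [← hdeg]; exact (Matrix.charpoly_monic _).coeff_natDegree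
  have hrev : ∀ i, i ≤ 4 → f.coeff i = f.coeff (4 - i) := by
    intro i hi
    conv_lhs => rw [hf, ← charpoly_reverse A, ← hf, Polynomial.coeff_reverse, hdeg, Polynomial.revAt_le hi]
  set c := ι (f.coeff 1)
  set e := ι (f.coeff 2)
  have hexp : f.map ι = X ^ 4 + C c * X ^ 3 + C e * X ^ 2 + C c * X + 1 := by
    conv_lhs => rw [f.as_sum_range_C_mul_X_pow, hdeg]
    simp only [Finset.sum_range_succ, Finset.sum_range_zero, Polynomial.map_add, Polynomial.map_mul, Polynomial.map_pow,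
      map_C, map_X, zero_add, pow_zero, mul_one, pow_one]
    rw [hrev 0 (by norm_num), hrev 3 (by norm_num), Nat.sub_zero, h4, map_one, map_one, one_mul]
    ring
  have hquad : ∀ c e : K, ∃ x : K, x ^ 2 + c * x + e = 0 := by
    intro c e
    obtain ⟨x, hx⟩ := IsAlgClosed.exists_root (C (1 : K) * X ^ 2 + C c * X + C e)
      (by rw [Polynomial.degree_quadratic one_ne_zero]; exact two_ne_zero)
    exact ⟨x, by simpa using hx⟩
  obtain ⟨s, hs⟩ := hquad c (e - 2)
  obtain ⟨a, ha⟩ := hquad (-s) 1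
  obtain ⟨b, hb⟩ := hquad (s + c) 1
  have ha0 : a ≠ 0 := by rintro rfl; simp at ha
  have hb0 : b ≠ 0 := by rintro rfl; simp at hb
  refine ⟨a, b, ha0, hb0, ?_⟩
  have fa : ∀ a : K, a ≠ 0 → (X - C a) * (X - C a⁻¹) = X ^ 2 - C (a + a⁻¹) * X + 1 := by
    intro a h
    have : C a * C a⁻¹ = (1 : K[X]) := by rw [← map_mul, mul_inv_cancel₀ h, map_one]
    rw [map_add]
    linear_combination this
  have sa : a + a⁻¹ = s := by field_simp; linear_combination ha
  have sb : b + b⁻¹ = -(s + c) := by field_simp; linear_combination hb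
  rw [fa a ha0, fa b hb0, sa, sb, hexp]
  have he : C e = C 2 + C (-s * (s + c)) := by rw [← map_add]; congr 1; linear_combination hs
  rw [he, map_neg, map_mul, map_neg, map_add, map_ofNat]
  ring

variable [Fintype F] (p : ℕ) [Fact p.Prime] [CharP F p]

theorem frobenius_root {K : Type*} [Field K] (ι : F →+* K) (f : F[X]) (x : K) (hx : (f.map ι).eval x = 0) :
    (f.map ι).eval (x ^ Fintype.card F) = 0 := by
  rw [Polynomial.eval_map] at hx ⊢
  have h := congrArg (fun g : F[X] => g.eval₂ ι x) (FiniteField.expand_card f)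
  simp only [Polynomial.eval₂_pow, hx, zero_pow Fintype.card_ne_zero] at h
  rw [← h, Polynomial.expand_eq_comp_X_pow, Polynomial.eval₂_comp, Polynomial.eval₂_X_pow]

omit [Fintype F] in
/-- The unipotent-type exponent. -/
def unipExp : ℕ := if p = 2 then 4 else if p = 3 then 9 else p

/-- The maximal element orders. -/
def Good (q n : ℕ) : Prop :=
  n ∣ unipExp p ∨ n ∣ p * (q - 1) ∨ n ∣ p * (q + 1) ∨ n ∣ (q ^ 2 - 1) / Nat.gcd 2 (q - 1) ∨
    n ∣ (q ^ 2 + 1) / Nat.gcd 2 (q - 1)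

omit [Fintype F] [Fact p.Prime] [CharP F p] in
theorem mk_pow_eq_one_iff (A : Sp4) (N : ℕ) :
    (QuotientGroup.mk A : Cfsg.PSp 2 F) ^ N = 1 ↔
      ∃ ε : F, ε * ε = 1 ∧ (A : Matrix (Fin 2 ⊕ Fin 2) (Fin 2 ⊕ Fin 2) F) ^ N = ε • 1 := by
  rw [← QuotientGroup.mk_pow, QuotientGroup.eq_one_iff]
  constructor
  · intro h
    rcases CfsgLib.Classical.sp_center_eq 2 h with h | h <;> rw [SubmonoidClass.coe_pow] at h
    · exact ⟨1, one_mul 1, by rw [h, one_smul]⟩
    · exact ⟨-1, by ring, by rw [h, neg_one_smul]⟩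
  · rintro ⟨ε, -, h⟩
    refine Subgroup.mem_center_iff.mpr fun B => Subtype.ext ?_
    rw [Submonoid.coe_mul, Submonoid.coe_mul, SubmonoidClass.coe_pow, h, Matrix.mul_smul, Matrix.smul_mul, mul_one, one_mul]

omit [Fintype F] in
theorem good_unip {K : Type*} [Field K] (ι : F →+* K) (A : Sp4) (ε : K) (hε : ε = 1 ∨ ε = -1)
    (hA : (A : Matrix (Fin 2 ⊕ Fin 2) (Fin 2 ⊕ Fin 2) F).charpoly.map ι = (X - C ε) ^ 4) :
    (QuotientGroup.mk A : Cfsg.PSp 2 F) ^ unipExp p = 1 := by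
  haveI : CharP K p := charP_of_injective_ringHom ι.injective p
  have key : ∀ k : ℕ, 4 ≤ p ^ k → (QuotientGroup.mk A : Cfsg.PSp 2 F) ^ p ^ k = 1 := by
    intro k hk
    rw [mk_pow_eq_one_iff]
    rcases hε with rfl | rfl
    · refine ⟨(1 : F) ^ p ^ k, by rw [← mul_pow, one_mul, one_pow], pow_eq_of_dvd ι _ _ _ ?_⟩
      rw [hA, map_pow ι, map_one ι, map_pow C, ← sub_pow_char_pow (R := K[X]) (p := p)]
      exact pow_dvd_pow _ hk
    · refine ⟨(-1 : F) ^ p ^ k, by rw [← mul_pow, neg_one_mul, neg_neg, one_pow], pow_eq_of_dvd ι _ _ _ ?_⟩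
      rw [hA, map_pow ι, map_neg ι, map_one ι, map_pow C, ← sub_pow_char_pow (R := K[X]) (p := p)]
      exact pow_dvd_pow _ hk
  have hp := (Fact.out : p.Prime)
  unfold unipExp
  split_ifs with h2 h3
  · have := key 2 (by rw [h2]; norm_num)
    rwa [show p ^ 2 = 4 by rw [h2]; norm_num] at this
  · have := key 2 (by rw [h3]; norm_num)
    rwa [show p ^ 2 = 9 by rw [h3]; norm_num] at this
  · have h4 : p ≠ 4 := by rintro rfl; exact absurd hp (by norm_num)
    have := key 1 (by have := hp.two_le; rw [pow_one]; omega)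
    rwa [pow_one] at this

omit [Fintype F] in
theorem good_repeated {K : Type*} [Field K] (ι : F →+* K) (A : Sp4) (s : Finset K) (M : ℕ)
    (hs : ∀ x ∈ s, x ^ M = 1)
    (hA : (A : Matrix (Fin 2 ⊕ Fin 2) (Fin 2 ⊕ Fin 2) F).charpoly.map ι ∣ (∏ x ∈ s, (X - C x)) ^ 2) :
    (QuotientGroup.mk A : Cfsg.PSp 2 F) ^ (p * M) = 1 := by
  haveI : CharP K p := charP_of_injective_ringHom ι.injective p
  rw [mk_pow_eq_one_iff]
  refine ⟨1, one_mul 1, pow_eq_of_dvd ι _ _ _ ?_⟩
  refine hA.trans ((pow_dvd_pow_of_dvd (prod_dvd s (X ^ M - 1) fun x hx => by simp [hs x hx]) 2).trans ?_)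
  refine (pow_dvd_pow _ (Fact.out : p.Prime).two_le).trans ?_
  rw [sub_pow_char, one_pow, ← pow_mul, mul_comm M p, map_one, map_one]

omit [Fintype F] [Fact p.Prime] [CharP F p] in
theorem good_distinct {K : Type*} [Field K] (ι : F →+* K) (A : Sp4) (a b : K) (N : ℕ) (ε : F) (hε : ε * ε = 1)
    (hA : (A : Matrix (Fin 2 ⊕ Fin 2) (Fin 2 ⊕ Fin 2) F).charpoly.map ι =
      (X - C a) * (X - C a⁻¹) * ((X - C b) * (X - C b⁻¹)))
    (h1 : a ≠ a⁻¹) (h2 : b ≠ b⁻¹) (h3 : a ≠ b) (h4 : a ≠ b⁻¹)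
    (ha : a ^ N = ι ε) (hb : b ^ N = ι ε) : (QuotientGroup.mk A : Cfsg.PSp 2 F) ^ N = 1 := by
  classical
  rw [mk_pow_eq_one_iff]
  refine ⟨ε, hε, pow_eq_of_dvd ι _ _ _ ?_⟩
  have hinv : (ι ε)⁻¹ = ι ε := by
    apply inv_eq_of_mul_eq_one_left
    rw [← map_mul, hε, map_one]
  have h5 : a⁻¹ ≠ b := fun h => h4 (by rw [← h, inv_inv])
  have h6 : a⁻¹ ≠ b⁻¹ := fun h => h3 (inv_injective h)
  have hdvd := prod_dvd ({a, a⁻¹, b, b⁻¹} : Finset K) (X ^ N - C (ι ε)) fun x hx => by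
    simp only [Finset.mem_insert, Finset.mem_singleton] at hx
    rcases hx with rfl | rfl | rfl | rfl <;> simp [ha, hb, hinv]
  rw [Finset.prod_insert (by simp [h1, h3, h4]), Finset.prod_insert (by simp [h5, h6]),
    Finset.prod_pair h2] at hdvd
  rw [hA, mul_assoc]
  exact hdvd

omit [Fintype F] [Fact p.Prime] [CharP F p] in
theorem pow_inv_cases {K : Type*} [Field K] {x : K} (hx : x ≠ 0) {q : ℕ} (hq : 1 ≤ q) :
    (x ^ q = x → x ^ (q - 1) = 1) ∧ (x ^ q = x⁻¹ → x ^ (q + 1) = 1) := by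
  refine ⟨fun h => ?_, fun h => ?_⟩
  · apply mul_right_cancel₀ hx
    rw [← pow_succ, Nat.sub_add_cancel hq, h, one_mul]
  · rw [pow_succ, h, inv_mul_cancel₀ hx]

theorem good_orderOf (x : Cfsg.PSp 2 F) : Good p (Fintype.card F) (orderOf x) := by
  classical
  obtain ⟨A, rfl⟩ := QuotientGroup.mk_surjective x
  have hp := (Fact.out : p.Prime)
  let K := AlgebraicClosure F
  let ι : F →+* K := algebraMap F K
  haveI : CharP K p := charP_of_injective_ringHom ι.injective p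
  obtain ⟨a, b, ha0, hb0, hA⟩ := exists_roots A K ι
  obtain ⟨n, -, hqn⟩ := FiniteField.card F p
  set q := Fintype.card F with hqdef
  have hq2 : 2 ≤ q := Fintype.one_lt_card
  have hinj : Function.Injective fun x : K => x ^ q := by
    intro x y h
    simp only [hqn] at h
    exact (frobenius_inj K p).iterate (n : ℕ) (by rw [iterate_frobenius, iterate_frobenius]; exact h)
  have hroot : ∀ x : K, (x = a ∨ x = a⁻¹ ∨ x = b ∨ x = b⁻¹) →
      x ^ q = a ∨ x ^ q = a⁻¹ ∨ x ^ q = b ∨ x ^ q = b⁻¹ := by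
    intro x hx
    have h0 : ((A : Matrix (Fin 2 ⊕ Fin 2) (Fin 2 ⊕ Fin 2) F).charpoly.map ι).eval x = 0 := by
      rw [hA]; rcases hx with rfl | rfl | rfl | rfl <;> simp
    have h1 := frobenius_root ι _ x h0
    rw [hA] at h1
    simpa [sub_eq_zero, or_assoc] using h1
  have caseI : ∀ x : K, x ≠ 0 → (x ^ q = x ∨ x ^ q = x⁻¹) → x ^ (q - 1) = 1 ∨ x ^ (q + 1) = 1 := fun x hx h =>
    h.imp (pow_inv_cases hx (by omega)).1 (pow_inv_cases hx (by omega)).2
  have hgood : ∀ x : K, x ≠ 0 → (x ^ (q - 1) = 1 ∨ x ^ (q + 1) = 1) → ∀ M, (M = q - 1 ∨ M = q + 1) → x ^ M = 1 →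
      ∀ s : Finset K, (∀ y ∈ s, y = 1 ∨ y = -1 ∨ y = x ∨ y = x⁻¹) →
      ((A : Matrix (Fin 2 ⊕ Fin 2) (Fin 2 ⊕ Fin 2) F).charpoly.map ι ∣ (∏ y ∈ s, (X - C y)) ^ 2) →
      Good p q (orderOf (QuotientGroup.mk A : Cfsg.PSp 2 F)) := by
    intro x _ _ M hM hxM s hs hdvd
    have hneg : (-1 : K) ^ M = 1 := by
      rcases eq_or_ne p 2 with rfl | hp2
      · rw [CharTwo.neg_eq, one_pow]
      · apply Even.neg_one_pow
        have hodd : Odd q := by rw [hqn]; exact (hp.odd_of_ne_two hp2).pow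
        rcases hM with rfl | rfl
        · exact Nat.Odd.sub_odd hodd odd_one
        · exact hodd.add_one
    have := orderOf_dvd_of_pow_eq_one (good_repeated p ι A s M (fun y hy => by
      rcases hs y hy with rfl | rfl | rfl | rfl <;> simp [hxM, hneg]) hdvd)
    rcases hM with rfl | rfl
    · exact Or.inr (Or.inl this)
    · exact Or.inr (Or.inr (Or.inl this))
  have hone : ∀ x : K, x ≠ 0 → x = x⁻¹ → x = 1 ∨ x = -1 := fun x hx h => by
    rw [← mul_self_eq_one_iff]
    nth_rewrite 2 [h]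
    exact mul_inv_cancel₀ hx
  have hpm : ∀ y : K, (y = 1 ∨ y = -1) → y ^ q = y := by
    rintro y (rfl | rfl)
    · exact one_pow q
    · have : (-1 : K) = ι (-1) := by rw [map_neg, map_one]
      rw [this, ← map_pow, hqdef, FiniteField.pow_card]
  have hpm_inv : ∀ y : K, (y = 1 ∨ y = -1) → y⁻¹ = y := by
    rintro y (rfl | rfl) <;> simp
  -- one pair is `±1`
  have mixed : ∀ u v : K, v ≠ 0 → (A : Matrix (Fin 2 ⊕ Fin 2) (Fin 2 ⊕ Fin 2) F).charpoly.map ι =
      (X - C u) * (X - C u⁻¹) * ((X - C v) * (X - C v⁻¹)) → (u = 1 ∨ u = -1) → v ≠ v⁻¹ →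
      (v ^ q = u ∨ v ^ q = v ∨ v ^ q = v⁻¹) →
      Good p q (orderOf (QuotientGroup.mk A : Cfsg.PSp 2 F)) := by
    intro u v hv hA hu hvv hvq
    have hvu : v ≠ u := fun h => hvv (by rw [h, hpm_inv u hu])
    have hvu' : v⁻¹ ≠ u := fun h => hvu (by rw [← hpm_inv u hu, ← h, inv_inv])
    have hvI := caseI v hv (hvq.resolve_left fun h => hvu (hinj (h.trans (hpm u hu).symm)))
    obtain ⟨M, hM, hvM⟩ : ∃ M, (M = q - 1 ∨ M = q + 1) ∧ v ^ M = 1 :=
      hvI.elim (fun h => ⟨_, Or.inl rfl, h⟩) (fun h => ⟨_, Or.inr rfl, h⟩)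
    refine hgood v hv hvI M hM hvM {u, v, v⁻¹} (fun y hy => ?_) ?_
    · simp only [Finset.mem_insert, Finset.mem_singleton] at hy
      rcases hy with rfl | rfl | rfl
      · rcases hu with rfl | rfl <;> simp
      · simp
      · simp
    · rw [hA, Finset.prod_insert (by simp [hvu.symm, hvu'.symm]), Finset.prod_pair hvv, hpm_inv u hu]
      exact ⟨(X - C v) * (X - C v⁻¹), by ring⟩
  by_cases ha1 : a = a⁻¹
  · have hau := hone a ha0 ha1
    by_cases hb1 : b = b⁻¹
    · have hbu := hone b hb0 hb1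
      by_cases hab : a = b
      · subst hab
        refine Or.inl (orderOf_dvd_of_pow_eq_one (good_unip p ι A a hau ?_))
        rw [hA, ← ha1]; ring
      · refine hgood 1 one_ne_zero (Or.inl (one_pow _)) (q - 1) (Or.inl rfl) (one_pow _) {a, b} (fun y hy => ?_) ?_
        · simp only [Finset.mem_insert, Finset.mem_singleton] at hy
          rcases hy with rfl | rfl
          · exact hau.imp_right Or.inl
          · exact hbu.imp_right Or.inl
        · rw [hA, Finset.prod_pair hab, ← ha1, ← hb1]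
          exact ⟨1, by ring⟩
    · refine mixed a b hb0 hA hau hb1 ?_
      rcases hroot b (by simp) with h | h | h | h
      · exact Or.inl h
      · exact Or.inl (by rw [h, ← ha1])
      · exact Or.inr (Or.inl h)
      · exact Or.inr (Or.inr h)
  by_cases hb1 : b = b⁻¹
  · refine mixed b a ha0 (hA.trans (by ring)) (hone b hb0 hb1) ha1 ?_
    rcases hroot a (by simp) with h | h | h | h
    · exact Or.inr (Or.inl h)
    · exact Or.inr (Or.inr h)
    · exact Or.inl h
    · exact Or.inl (by rw [h, ← hb1])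
  -- no root is `±1`
  by_cases hab : a = b ∨ a = b⁻¹
  · have hA' : (A : Matrix (Fin 2 ⊕ Fin 2) (Fin 2 ⊕ Fin 2) F).charpoly.map ι = ((X - C a) * (X - C a⁻¹)) ^ 2 := by
      rcases hab with h | h
      · rw [hA, ← h]; ring
      · rw [hA, show b = a⁻¹ by rw [h, inv_inv], inv_inv]; ring
    have haI := caseI a ha0 (by
      rcases hroot a (by simp) with h | h | h | h
      · exact Or.inl h
      · exact Or.inr h
      · rcases hab with hh | hh
        · exact Or.inl (by rw [h, hh])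
        · exact Or.inr (by rw [h, hh, inv_inv])
      · rcases hab with hh | hh
        · exact Or.inr (by rw [h, hh])
        · exact Or.inl (by rw [h, hh]))
    obtain ⟨M, hM, haM⟩ : ∃ M, (M = q - 1 ∨ M = q + 1) ∧ a ^ M = 1 :=
      haI.elim (fun h => ⟨_, Or.inl rfl, h⟩) (fun h => ⟨_, Or.inr rfl, h⟩)
    refine hgood a ha0 haI M hM haM {a, a⁻¹} (fun y hy => ?_) ?_
    · simp only [Finset.mem_insert, Finset.mem_singleton] at hy
      rcases hy with rfl | rfl <;> simp
    · rw [hA', Finset.prod_pair ha1]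
  push Not at hab
  -- four distinct roots
  set d := Nat.gcd 2 (q - 1) with hd
  have hparity : (d = 2 ∧ Odd q ∧ p ≠ 2) ∨ (d = 1 ∧ p = 2) := by
    rcases eq_or_ne p 2 with h2 | h2
    · refine Or.inr ⟨?_, h2⟩
      rw [hd]
      refine Nat.coprime_two_left.mpr ?_
      rw [Nat.odd_sub (by omega)]
      simp [hqn, h2, Nat.even_pow]
    · have hodd : Odd q := by rw [hqn]; exact (hp.odd_of_ne_two h2).pow
      exact Or.inl ⟨Nat.gcd_eq_left (Nat.Odd.sub_odd hodd odd_one).two_dvd, hodd, h2⟩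
  have hsum : q ^ 2 - 1 = (q + 1) * (q - 1) := by rw [← Nat.sq_sub_sq, one_pow]
  have hdist : ∀ N, (∃ ε : F, ε * ε = 1 ∧ a ^ N = ι ε ∧ b ^ N = ι ε) →
      (QuotientGroup.mk A : Cfsg.PSp 2 F) ^ N = 1 := fun N ⟨ε, h, h1, h2⟩ =>
    good_distinct ι A a b N ε h hA ha1 hb1 hab.1 hab.2 h1 h2
  by_cases hI : a ^ q = a ∨ a ^ q = a⁻¹
  · have haI := caseI a ha0 hI
    have hbI := caseI b hb0 (by
      rcases hroot b (by simp) with h | h | h | h
      · exfalso
        rcases hI with hh | hh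
        · exact hab.1 (hinj (hh.trans h.symm))
        · exact hab.2 (hinj (show a ^ q = b⁻¹ ^ q by rw [hh, inv_pow, h]))
      · exfalso
        rcases hI with hh | hh
        · exact hab.2 (hinj (show a ^ q = b⁻¹ ^ q by rw [hh, inv_pow, h, inv_inv]))
        · exact hab.1 (hinj (hh.trans h.symm))
      · exact Or.inl h
      · exact Or.inr h)
    refine Or.inr (Or.inr (Or.inr (Or.inl (orderOf_dvd_of_pow_eq_one (hdist _ ⟨1, one_mul 1, ?_⟩)))))
    rw [map_one]
    have hM : ∀ x : K, x ^ (q - 1) = 1 ∨ x ^ (q + 1) = 1 → x ^ ((q ^ 2 - 1) / d) = 1 := by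
      intro x hx
      rcases hparity with ⟨hd2, hodd, -⟩ | ⟨hd1, -⟩
      · obtain ⟨m, hm⟩ := hodd
        rcases hx with hx | hx
        · have : (q ^ 2 - 1) / d = (q - 1) * (m + 1) := by
            rw [hsum, hd2, show q + 1 = 2 * (m + 1) by omega, mul_assoc, Nat.mul_div_cancel_left _ two_pos, mul_comm]
          rw [this, pow_mul, hx, one_pow]
        · have : (q ^ 2 - 1) / d = (q + 1) * m := by
            rw [hsum, hd2, show q - 1 = 2 * m by omega, ← mul_assoc, mul_comm (q + 1) 2, mul_assoc,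
              Nat.mul_div_cancel_left _ two_pos]
          rw [this, pow_mul, hx, one_pow]
      · rw [hd1, Nat.div_one, hsum]
        rcases hx with hx | hx
        · rw [mul_comm, pow_mul, hx, one_pow]
        · rw [pow_mul, hx, one_pow]
    exact ⟨hM a haI, hM b hbI⟩
  push Not at hI
  obtain ⟨c, hc, hbc⟩ : ∃ c, (c = b ∨ c = b⁻¹) ∧ a ^ q = c := by
    rcases hroot a (by simp) with h | h | h | h
    · exact absurd h hI.1
    · exact absurd h hI.2
    · exact ⟨b, Or.inl rfl, h⟩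
    · exact ⟨b⁻¹, Or.inr rfl, h⟩
  have haq : a ^ (q * q) = a ∨ a ^ (q * q) = a⁻¹ := by
    rw [pow_mul, hbc]
    have hcc : ∀ y, c ^ q = y → (y = b ∨ y = b⁻¹) → False := fun y h hy => by
      have : c ^ q = (a ^ q) ∨ c ^ q = (a⁻¹) ^ q := by
        rw [inv_pow, hbc, h]
        rcases hy with h' | h' <;> rcases hc with h'' | h'' <;> rw [h', h''] <;>
          first | exact Or.inl rfl | exact Or.inr rfl | exact Or.inr (inv_inv b).symm
      rcases this with h' | h'
      · have := hinj h'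
        rcases hc with rfl | rfl
        · exact hab.1 this.symm
        · exact hab.2 this.symm
      · have := hinj h'
        rcases hc with rfl | rfl
        · exact hab.2 ((inv_inv a).symm.trans (congrArg (·⁻¹) this.symm))
        · exact hab.1 (inv_injective this.symm)
    rcases hroot c (hc.elim (fun h => Or.inr (Or.inr (Or.inl h))) (fun h => Or.inr (Or.inr (Or.inr h)))) with h | h | h | h
    · exact Or.inl h
    · exact Or.inr h
    · exact (hcc _ h (Or.inl rfl)).elim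
    · exact (hcc _ h (Or.inr rfl)).elim
  obtain ⟨N, hN, hNd, haN⟩ : ∃ N, (N = (q ^ 2 - 1) / d ∨ N = (q ^ 2 + 1) / d) ∧
      (N * d = q * q - 1 ∨ N * d = q * q + 1) ∧ a ^ (N * d) = 1 := by
    have hdvd1 : d ∣ q ^ 2 - 1 := by rw [hsum]; exact (Nat.gcd_dvd_right 2 (q - 1)).mul_left _
    have hdvd2 : d ∣ q ^ 2 + 1 := by
      rcases hparity with ⟨hd2, hodd, -⟩ | ⟨hd1, -⟩
      · rw [hd2]; exact (hodd.pow.add_one).two_dvd
      · rw [hd1]; exact one_dvd _
    have hqq : 1 ≤ q * q := Nat.one_le_iff_ne_zero.mpr (by positivity)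
    rcases haq with h | h
    · refine ⟨_, Or.inl rfl, Or.inl ?_, ?_⟩ <;> rw [Nat.div_mul_cancel hdvd1, pow_two]
      exact (pow_inv_cases ha0 hqq).1 h
    · refine ⟨_, Or.inr rfl, Or.inr ?_, ?_⟩ <;> rw [Nat.div_mul_cancel hdvd2, pow_two]
      exact (pow_inv_cases ha0 hqq).2 h
  have hε : ∃ ε : F, ε * ε = 1 ∧ a ^ N = ι ε := by
    rcases hparity with ⟨hd2, -, -⟩ | ⟨hd1, -⟩
    · rw [hd2, pow_mul, sq_eq_one_iff] at haN
      rcases haN with h | h
      · exact ⟨1, one_mul 1, by rw [h, map_one]⟩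
      · exact ⟨-1, by ring, by rw [h, map_neg, map_one]⟩
    · rw [hd1, mul_one] at haN
      exact ⟨1, one_mul 1, by rw [haN, map_one]⟩
  obtain ⟨ε, hεε, haε⟩ := hε
  have hbε : b ^ N = ι ε := by
    have hcε : c ^ N = ι ε := by
      rw [← hbc, ← pow_mul, mul_comm, pow_mul, haε, ← map_pow, hqdef, FiniteField.pow_card]
    rcases hc with rfl | rfl
    · exact hcε
    · rw [inv_pow, inv_eq_iff_eq_inv] at hcε
      rw [hcε]
      apply inv_eq_of_mul_eq_one_left
      rw [← map_mul, hεε, map_one]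
  have := orderOf_dvd_of_pow_eq_one (hdist N ⟨ε, hεε, haε, hbε⟩)
  rcases hN with rfl | rfl
  · exact Or.inr (Or.inr (Or.inr (Or.inl this)))
  · exact Or.inr (Or.inr (Or.inr (Or.inr this)))

end CfsgLib.Recognition.SpFourSpectrum
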