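import Mathlib
import Cfsg.Agent.Lib.Recognition.SpFourSpectrum
import Cfsg.Agent.Lib.Recognition.SLTwoElements

/-!
Elements of `PSp₄(q)` realising the maximal element orders.
-/

namespace CfsgLib.Recognition.SpFourElements

open Matrix SpFourSpectrum

variable {F : Type*} [Field F]

local notation "Sp4" => Matrix.symplecticGroup (Fin 2) F

/-- The block matrix of an element of `SL₂` over a quadratic extension. -/
noncomputable def blockOf {K : Type*} [Field K] [Algebra F K] (b : Module.Basis (Fin 2) F K)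
    (g : Matrix (Fin 2) (Fin 2) K) : Matrix (Fin 2 ⊕ Fin 2) (Fin 2 ⊕ Fin 2) F :=
  fromBlocks (Algebra.leftMulMatrix b (g 0 0)) (Algebra.leftMulMatrix b (g 0 1) * (Algebra.traceMatrix F b)⁻¹)
    (Algebra.traceMatrix F b * Algebra.leftMulMatrix b (g 1 0))
    (Algebra.traceMatrix F b * Algebra.leftMulMatrix b (g 1 1) * (Algebra.traceMatrix F b)⁻¹)

variable {K : Type*} [Field K] [Algebra F K] (b : Module.Basis (Fin 2) F K)

theorem trace_mul_leftMul (x : K) :
    Algebra.traceMatrix F b * Algebra.leftMulMatrix b x =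
      (Algebra.leftMulMatrix b x)ᵀ * Algebra.traceMatrix F b := by
  have key : ∀ i j, (Algebra.traceMatrix F b * Algebra.leftMulMatrix b x) i j = Algebra.trace F K (x * b j * b i) := by
    intro i j
    have := congrFun (Algebra.traceMatrix_of_basis_mulVec b (x * b j)) i
    rw [← this]
    simp [Matrix.mul_apply, Matrix.mulVec, dotProduct, Algebra.leftMulMatrix_eq_repr_mul]
  ext i j
  rw [key, mul_right_comm, ← key j i]
  simp [Matrix.mul_apply, Algebra.traceMatrix_apply, Algebra.traceForm_apply, mul_comm]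

theorem trace_symm : (Algebra.traceMatrix F b)ᵀ = Algebra.traceMatrix F b := by
  ext i j
  simp [Algebra.traceMatrix_apply, Algebra.traceForm_apply, mul_comm]

variable [FiniteDimensional F K] [Algebra.IsSeparable F K]

theorem det_trace : IsUnit (Algebra.traceMatrix F b).det := by
  rw [Algebra.traceMatrix_of_basis]
  exact (det_traceForm_ne_zero b).isUnit

theorem blockOf_mul (g h : Matrix (Fin 2) (Fin 2) K) : blockOf b (g * h) = blockOf b g * blockOf b h := by
  simp only [blockOf, fromBlocks_multiply, Matrix.mul_apply, Fin.sum_univ_two, map_add, map_mul, Matrix.add_mul,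
    Matrix.mul_add]
  congr 1 <;>
    simp only [Matrix.mul_assoc, Matrix.nonsing_inv_mul_cancel_left _ _ (det_trace b)]

theorem blockOf_one : blockOf b 1 = 1 := by
  simp [blockOf, Matrix.mul_nonsing_inv _ (det_trace b)]

theorem blockOf_mem (g : Matrix.SpecialLinearGroup (Fin 2) K) :
    blockOf b (g : Matrix (Fin 2) (Fin 2) K) ∈ Sp4 := by
  have hT := det_trace b
  have hs := trace_symm b
  have key : ∀ x, Algebra.traceMatrix F b * Algebra.leftMulMatrix b x * (Algebra.traceMatrix F b)⁻¹ =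
      (Algebra.leftMulMatrix b x)ᵀ := fun x => by
    rw [trace_mul_leftMul, Matrix.mul_nonsing_inv_cancel_right _ _ hT]
  have key' : ∀ x, (Algebra.leftMulMatrix b x)ᵀ * Algebra.traceMatrix F b =
      Algebra.traceMatrix F b * Algebra.leftMulMatrix b x := fun x => (trace_mul_leftMul b x).symm
  have hinv : ((Algebra.traceMatrix F b)⁻¹)ᵀ = (Algebra.traceMatrix F b)⁻¹ := by
    rw [Matrix.transpose_nonsing_inv, hs]
  rw [blockOf, SymplecticGroup.fromBlocks_mem_iff]
  refine ⟨?_, ?_, ?_⟩
  · rw [← Matrix.mul_assoc, key', Matrix.transpose_mul, hs, key', Matrix.mul_assoc, Matrix.mul_assoc, ← map_mul,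
      ← map_mul, mul_comm]
  · rw [key, Matrix.transpose_mul, hinv, Matrix.transpose_transpose, Matrix.mul_assoc,
      ← Matrix.transpose_mul, ← map_mul, ← Matrix.mul_assoc, ← map_mul]
    apply Matrix.ext; intro i j
    rw [show (Algebra.leftMulMatrix b ((g : Matrix (Fin 2) (Fin 2) K) 1 1 * (g : Matrix (Fin 2) (Fin 2) K) 0 1))ᵀ =
      Algebra.traceMatrix F b * Algebra.leftMulMatrix b ((g : Matrix (Fin 2) (Fin 2) K) 1 1 * (g : Matrix (Fin 2) (Fin 2) K) 0 1) *
        (Algebra.traceMatrix F b)⁻¹ from (key _).symm, Matrix.mul_assoc (Algebra.traceMatrix F b),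
      Matrix.nonsing_inv_mul_cancel_left _ _ hT]
  · rw [key, Matrix.transpose_mul, hs, key', Matrix.mul_assoc, ← Matrix.transpose_mul, ← map_mul]
    rw [← Matrix.mul_assoc (Algebra.leftMulMatrix b _), ← map_mul, ← Matrix.mul_assoc, key, ← Matrix.transpose_sub,
      ← map_sub]
    have hdet := g.2
    rw [Matrix.det_fin_two] at hdet
    rw [show (g : Matrix (Fin 2) (Fin 2) K) 1 1 * (g : Matrix (Fin 2) (Fin 2) K) 0 0 -
      (g : Matrix (Fin 2) (Fin 2) K) 1 0 * (g : Matrix (Fin 2) (Fin 2) K) 0 1 = 1 by linear_combination hdet,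
      map_one, Matrix.transpose_one]

/-- `SL₂` of a quadratic extension inside `Sp₄`. -/
noncomputable def blockHom : Matrix.SpecialLinearGroup (Fin 2) K →* Sp4 where
  toFun g := ⟨blockOf b (g : Matrix (Fin 2) (Fin 2) K), blockOf_mem b g⟩
  map_one' := Subtype.ext (blockOf_one b)
  map_mul' g h := Subtype.ext (blockOf_mul b _ _)

theorem blockOf_scalar (g : Matrix (Fin 2) (Fin 2) K) (ε : F) (h : blockOf b g = ε • 1) :
    g = algebraMap F K ε • 1 := by
  rw [← fromBlocks_one, fromBlocks_smul, blockOf, fromBlocks_inj, smul_zero] at h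
  obtain ⟨h00, h01, h10, h11⟩ := h
  have hinj := Algebra.leftMulMatrix_injective b
  have hT := det_trace b
  have e00 : g 0 0 = algebraMap F K ε := hinj (h00.trans (by
    rw [AlgHom.commutes, Algebra.algebraMap_eq_smul_one]))
  have e01 : g 0 1 = 0 := hinj (by
    have := congrArg (· * Algebra.traceMatrix F b) h01
    rw [Matrix.nonsing_inv_mul_cancel_right _ _ hT, Matrix.zero_mul] at this
    rw [this, map_zero])
  have e10 : g 1 0 = 0 := hinj (by
    have := congrArg ((Algebra.traceMatrix F b)⁻¹ * ·) h10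
    rw [Matrix.nonsing_inv_mul_cancel_left _ _ hT, Matrix.mul_zero] at this
    rw [this, map_zero])
  have e11 : g 1 1 = algebraMap F K ε := hinj (by
    have := congrArg (fun M => (Algebra.traceMatrix F b)⁻¹ * M * Algebra.traceMatrix F b) h11
    simp only [Matrix.mul_assoc, Matrix.nonsing_inv_mul _ hT, mul_one,
      Matrix.nonsing_inv_mul_cancel_left _ _ hT, Matrix.mul_smul, Matrix.smul_mul, one_mul] at this
    rw [this, AlgHom.commutes, Algebra.algebraMap_eq_smul_one])
  ext i j
  fin_cases i <;> fin_cases j <;> simp [e00, e01, e10, e11]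

omit [FiniteDimensional F K] [Algebra.IsSeparable F K] in
/-- Pairs of elements of `SL₂` inside `Sp₄`. -/
def pairOf (g h : Matrix (Fin 2) (Fin 2) F) : Matrix (Fin 2 ⊕ Fin 2) (Fin 2 ⊕ Fin 2) F :=
  fromBlocks (diagonal ![g 0 0, h 0 0]) (diagonal ![g 0 1, h 0 1]) (diagonal ![g 1 0, h 1 0])
    (diagonal ![g 1 1, h 1 1])

/-- `SL₂ × SL₂` inside `Sp₄`. -/
def pairHom : Matrix.SpecialLinearGroup (Fin 2) F × Matrix.SpecialLinearGroup (Fin 2) F →* Sp4 where
  toFun x := ⟨pairOf x.1.1 x.2.1, by
    have h1 := x.1.2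
    have h2 := x.2.2
    rw [Matrix.det_fin_two] at h1 h2
    rw [pairOf, SymplecticGroup.fromBlocks_mem_iff]
    refine ⟨?_, ?_, ?_⟩ <;> simp only [diagonal_transpose, diagonal_mul_diagonal, diagonal_sub, ← diagonal_one] <;>
      congr 1 <;> funext i <;> fin_cases i <;> simp [mul_comm]
    · linear_combination h1
    · linear_combination h2⟩
  map_one' := Subtype.ext (by
    rw [Submonoid.coe_one, ← fromBlocks_one]
    simp only [pairOf, Prod.fst_one, Prod.snd_one, Matrix.SpecialLinearGroup.coe_one, Matrix.one_apply_eq,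
      Matrix.one_apply_ne (show (0 : Fin 2) ≠ 1 by decide), Matrix.one_apply_ne (show (1 : Fin 2) ≠ 0 by decide),
      ← diagonal_one, ← diagonal_zero]
    congr 1 <;> congr 1 <;> funext i <;> fin_cases i <;> rfl)
  map_mul' x y := Subtype.ext (by
    rw [Submonoid.coe_mul]
    simp only [pairOf, fromBlocks_multiply, diagonal_mul_diagonal, diagonal_add, Prod.fst_mul, Prod.snd_mul,
      Matrix.SpecialLinearGroup.coe_mul, Matrix.mul_apply, Fin.sum_univ_two]
    congr 1 <;> congr 1 <;> funext i <;> fin_cases i <;> rfl)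

/-- A regular unipotent element. -/
def regUnip : Sp4 := ⟨fromBlocks !![1, 1; 0, 1] !![0, 0; -1, 1] 0 !![1, 0; -1, 1], by
  rw [SymplecticGroup.fromBlocks_mem_iff]
  refine ⟨by simp, ?_, ?_⟩ <;> ext i j <;> fin_cases i <;> fin_cases j <;>
    simp [Matrix.mul_apply, Fin.sum_univ_two]⟩

variable [Fintype F] (p : ℕ) [Fact p.Prime] [CharP F p]

omit [Fintype F] in
theorem regUnip_facts : (QuotientGroup.mk (regUnip (F := F)) : Cfsg.PSp 2 F) ^ unipExp p = 1 ∧
    (p = 2 ∨ p = 3 → (QuotientGroup.mk (regUnip (F := F)) : Cfsg.PSp 2 F) ^ p ≠ 1) := by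
  refine ⟨good_unip p (RingHom.id F) _ 1 (Or.inl rfl) ?_, ?_⟩
  · rw [Polynomial.map_id, regUnip]
    show (fromBlocks _ _ _ _).charpoly = _
    rw [Matrix.charpoly_fromBlocks_zero₂₁, Matrix.charpoly_fin_two, Matrix.charpoly_fin_two]
    simp [Matrix.trace_fin_two, Matrix.det_fin_two, one_add_one_eq_two, map_ofNat]
    ring
  · intro hp h
    rw [mk_pow_eq_one_iff] at h
    obtain ⟨ε, -, hε⟩ := h
    have := congrFun (congrFun hε (Sum.inl 0)) (Sum.inr 0)
    rcases hp with rfl | rfl
    · simp [regUnip, pow_succ, fromBlocks_multiply, Matrix.mul_apply, Fin.sum_univ_two] at this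
    · simp [regUnip, pow_succ, fromBlocks_multiply, Matrix.mul_apply, Fin.sum_univ_two] at this
      have h3 : ((3 : ℕ) : F) = 0 := CharP.cast_eq_zero F 3
      exact one_ne_zero (α := F) (by push_cast at h3; linear_combination -this - h3)

/-- Some element has order divisible by each of the maximal orders. -/
theorem exists_dvd {n : ℕ} (hn : n = unipExp p ∨ n = p * (Fintype.card F - 1) ∨ n = p * (Fintype.card F + 1) ∨
    n = (Fintype.card F ^ 2 - 1) / Nat.gcd 2 (Fintype.card F - 1) ∨
    n = (Fintype.card F ^ 2 + 1) / Nat.gcd 2 (Fintype.card F - 1)) :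
    ∃ x : Cfsg.PSp 2 F, n ∣ orderOf x := by
  classical
  have hp := (Fact.out : p.Prime)
  set q := Fintype.card F with hq
  obtain ⟨e, -, hqe⟩ := FiniteField.card F p
  rw [← hq] at hqe
  have hq2 : 2 ≤ q := Fintype.one_lt_card
  have pair : ∀ (t : Matrix.SpecialLinearGroup (Fin 2) F) (N : ℕ), (∀ k, t ^ k = 1 → N ∣ k) → Nat.Coprime p N →
      ∃ x : Cfsg.PSp 2 F, p * N ∣ orderOf x := by
    intro t N ht hcop
    refine ⟨QuotientGroup.mk (pairHom (SLTwoElements.transv F, t)), ?_⟩
    generalize hm : orderOf (QuotientGroup.mk (pairHom (SLTwoElements.transv F, t)) : Cfsg.PSp 2 F) = m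
    obtain ⟨ε, -, h⟩ := (mk_pow_eq_one_iff _ m).mp (hm ▸ pow_orderOf_eq_one _)
    rw [← SubmonoidClass.coe_pow, ← map_pow] at h
    change pairOf ((SLTwoElements.transv F ^ m : _) : Matrix (Fin 2) (Fin 2) F) ((t ^ m : _) : Matrix (Fin 2) (Fin 2) F) = _ at h
    rw [pairOf, SLTwoElements.transv_pow, ← fromBlocks_one, fromBlocks_smul, fromBlocks_inj, smul_zero,
      Matrix.smul_one_eq_diagonal, ← diagonal_zero, diagonal_eq_diagonal_iff, diagonal_eq_diagonal_iff,
      diagonal_eq_diagonal_iff, diagonal_eq_diagonal_iff] at h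
    obtain ⟨h00, h01, h10, h11⟩ := h
    have hε : ε = 1 := by simpa using (h00 0).symm
    subst hε
    have hpm : p ∣ m := (CharP.cast_eq_zero_iff F p m).mp (by simpa using h01 0)
    refine hcop.mul_dvd_of_dvd_of_dvd hpm (ht m ?_)
    ext i j
    fin_cases i <;> fin_cases j
    · simpa using h00 1
    · simpa using h01 1
    · simpa using h10 1
    · simpa using h11 1
  haveI : NeZero 2 := ⟨two_ne_zero⟩
  let K := FiniteField.Extension F p 2
  haveI : CharP K p := charP_of_injective_algebraMap (algebraMap F K).injective p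
  letI : Fintype K := Fintype.ofFinite K
  let b : Module.Basis (Fin 2) F K := Module.finBasisOfFinrankEq F K (FiniteField.finrank_extension F p 2)
  have hK : Fintype.card K = q ^ 2 := by
    rw [← Nat.card_eq_fintype_card, FiniteField.natCard_extension F p 2, Nat.card_eq_fintype_card]
  have torus : ∀ (g : Matrix.SpecialLinearGroup (Fin 2) K) (N : ℕ), (∀ k, g ^ k = 1 → N ∣ k) →
      ∀ n, n * Nat.gcd 2 (q - 1) = N → ∃ x : Cfsg.PSp 2 F, n ∣ orderOf x := by
    intro g N hg n hnN
    refine ⟨QuotientGroup.mk (blockHom b g), ?_⟩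
    generalize hm : orderOf (QuotientGroup.mk (blockHom b g) : Cfsg.PSp 2 F) = m
    obtain ⟨ε, hε, h⟩ := (mk_pow_eq_one_iff _ m).mp (hm ▸ pow_orderOf_eq_one _)
    rw [← SubmonoidClass.coe_pow, ← map_pow] at h
    have hs := blockOf_scalar b _ ε h
    have hεd : ε ^ Nat.gcd 2 (q - 1) = 1 := by
      rcases eq_or_ne p 2 with h2 | h2
      · haveI : CharP F 2 := h2 ▸ inferInstance
        rcases mul_self_eq_one_iff.mp hε with h' | h'
        · rw [h', one_pow]
        · rw [h', CharTwo.neg_eq, one_pow]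
      · have hodd : Odd q := by rw [hqe]; exact (hp.odd_of_ne_two h2).pow
        rw [Nat.gcd_eq_left (Nat.Odd.sub_odd hodd odd_one).two_dvd, pow_two, hε]
    refine Nat.dvd_of_mul_dvd_mul_right (Nat.gcd_pos_of_pos_left (q - 1) two_pos) ?_
    rw [hnN]
    refine hg _ (Subtype.ext ?_)
    rw [pow_mul, Matrix.SpecialLinearGroup.coe_pow, hs, _root_.smul_pow, one_pow, ← map_pow, hεd, map_one, one_smul,
      Matrix.SpecialLinearGroup.coe_one]
  have hd1 : Nat.gcd 2 (q - 1) ∣ q ^ 2 - 1 := (Nat.gcd_dvd_right 2 (q - 1)).trans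
    ⟨q + 1, by rw [mul_comm, ← Nat.sq_sub_sq, one_pow]⟩
  have hd2 : Nat.gcd 2 (q - 1) ∣ q ^ 2 + 1 := by
    have : q ^ 2 + 1 = (q ^ 2 - 1) + 2 := by have := Nat.one_le_pow 2 q (by omega); omega
    rw [this]
    exact dvd_add hd1 (Nat.gcd_dvd_left _ _)
  rcases hn with rfl | rfl | rfl | rfl | rfl
  · obtain ⟨h1, h2⟩ := regUnip_facts (F := F) p
    refine ⟨QuotientGroup.mk regUnip, ?_⟩
    unfold unipExp at h1 ⊢
    split_ifs at h1 ⊢ with hp2 hp3
    · have := orderOf_eq_prime_pow (p := p) (n := 1) (by rw [pow_one]; exact h2 (Or.inl hp2))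
        (by rw [show p ^ (1 + 1) = 4 by rw [hp2]; norm_num]; exact h1)
      rw [this, hp2]; norm_num
    · have := orderOf_eq_prime_pow (p := p) (n := 1) (by rw [pow_one]; exact h2 (Or.inr hp3))
        (by rw [show p ^ (1 + 1) = 9 by rw [hp3]; norm_num]; exact h1)
      rw [this, hp3]; norm_num
    · rcases (Nat.dvd_prime hp).mp (orderOf_dvd_of_pow_eq_one h1) with h | h
      · exfalso
        rw [orderOf_eq_one_iff, ← pow_one (QuotientGroup.mk regUnip), mk_pow_eq_one_iff] at h
        obtain ⟨ε, -, hε⟩ := h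
        have := congrFun (congrFun hε (Sum.inl 0)) (Sum.inl 1)
        simp [regUnip] at this
      · rw [h]
  · obtain ⟨ζ, -, hζ⟩ := SLTwoElements.exists_minus F
    rw [Nat.card_eq_fintype_card] at hζ
    refine pair _ _ hζ (hp.coprime_iff_not_dvd.mpr fun h => ?_)
    have : p ∣ q := hqe ▸ dvd_pow_self p e.ne_zero
    have := Nat.dvd_sub this h
    rw [Nat.sub_sub_self (by omega)] at this
    exact hp.not_dvd_one this
  · obtain ⟨g, hg⟩ := SLTwoElements.exists_plus F p
    refine pair _ _ hg (hp.coprime_iff_not_dvd.mpr fun h => ?_)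
    have : p ∣ q := hqe ▸ dvd_pow_self p e.ne_zero
    exact hp.not_dvd_one ((Nat.dvd_add_right this).mp h)
  · obtain ⟨ζ, -, hζ⟩ := SLTwoElements.exists_minus K
    rw [Nat.card_eq_fintype_card, hK] at hζ
    exact torus _ _ hζ _ (Nat.div_mul_cancel hd1)
  · obtain ⟨g, hg⟩ := SLTwoElements.exists_plus K p
    rw [hK] at hg
    exact torus _ _ hg _ (Nat.div_mul_cancel hd2)

theorem exists_order_of_dvd {X : Type*} [Group X] [Finite X] {m k : ℕ} (hx : ∃ x : X, m ∣ orderOf x) (hk : k ∣ m) :
    ∃ y : X, orderOf y = k := by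
  obtain ⟨x, hx⟩ := hx
  exact ⟨x ^ (orderOf x / k), orderOf_pow_orderOf_div (orderOf_pos x).ne' (hk.trans hx)⟩

/-- A group whose element orders are the divisors of the five maximal orders has the element orders of
`PSp₄`. -/
theorem range_eq_of_good {H : Type*} [Group H] [Finite H] (h1 : ∀ x : H, Good p (Fintype.card F) (orderOf x))
    (h2 : ∀ n, (n = unipExp p ∨ n = p * (Fintype.card F - 1) ∨ n = p * (Fintype.card F + 1) ∨
      n = (Fintype.card F ^ 2 - 1) / Nat.gcd 2 (Fintype.card F - 1) ∨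
      n = (Fintype.card F ^ 2 + 1) / Nat.gcd 2 (Fintype.card F - 1)) → ∃ x : H, n ∣ orderOf x) :
    Set.range (orderOf : H → ℕ) = Set.range (orderOf : Cfsg.PSp 2 F → ℕ) := by
  ext n
  constructor
  · rintro ⟨x, rfl⟩
    rcases h1 x with h | h | h | h | h
    · exact exists_order_of_dvd (exists_dvd p (F := F) (Or.inl rfl)) h
    · exact exists_order_of_dvd (exists_dvd p (F := F) (Or.inr (Or.inl rfl))) h
    · exact exists_order_of_dvd (exists_dvd p (F := F) (Or.inr (Or.inr (Or.inl rfl)))) h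
    · exact exists_order_of_dvd (exists_dvd p (F := F) (Or.inr (Or.inr (Or.inr (Or.inl rfl))))) h
    · exact exists_order_of_dvd (exists_dvd p (F := F) (Or.inr (Or.inr (Or.inr (Or.inr rfl))))) h
  · rintro ⟨x, rfl⟩
    rcases good_orderOf p x with h | h | h | h | h
    · exact exists_order_of_dvd (h2 _ (Or.inl rfl)) h
    · exact exists_order_of_dvd (h2 _ (Or.inr (Or.inl rfl))) h
    · exact exists_order_of_dvd (h2 _ (Or.inr (Or.inr (Or.inl rfl)))) h
    · exact exists_order_of_dvd (h2 _ (Or.inr (Or.inr (Or.inr (Or.inl rfl))))) h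
    · exact exists_order_of_dvd (h2 _ (Or.inr (Or.inr (Or.inr (Or.inr rfl))))) h

end CfsgLib.Recognition.SpFourElements
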