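import Mathlib

/-!
# Groups with the element order counts of a group with a self-centralizing Sylow subgroup of prime order

If `M` has order `p * m`, elements of order `p` are self-centralizing in `M`, and the prime power divisors of `m`
are not congruent to `1` modulo `p`, then a group with the order and the element order counts of `M` is simple,
provided `m % p` is a prime different from `2`.
-/

set_option autoImplicit false

namespace CfsgLib.Recognition.CountSimple

open Subgroup

/-- The number of elements of order `n`. -/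
noncomputable def cnt (G : Type*) [Group G] (n : ℕ) : ℕ := Nat.card {g : G // orderOf g = n}

theorem modEq_of_eq {n a b : ℕ} (h : a = b) : a ≡ b [MOD n] := by rw [h]

variable {G : Type*} [Group G] [Finite G] {p : ℕ} [Fact p.Prime]

theorem isPGroup_zpowers {x : G} (hx : orderOf x = p) : IsPGroup p ↥(zpowers x) :=
  IsPGroup.of_card (n := 1) (by rw [Nat.card_zpowers, hx, pow_one])

/-- Elements of order `n` are congruent in number to those centralizing an element of order `p`. -/
theorem cnt_modEq {x : G} (hx : orderOf x = p) (n : ℕ) :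
    cnt G n ≡ Nat.card {g : ↥(centralizer ({x} : Set G)) // orderOf g = n} [MOD p] := by
  let act : MulAction ↥(zpowers x) {g : G // orderOf g = n} :=
    { smul := fun a g => ⟨(a : G) * g.1 * (a : G)⁻¹, by
        rw [show (a : G) * g.1 * (a : G)⁻¹ = MulAut.conj (a : G) g.1 from rfl, MulEquiv.orderOf_eq]; exact g.2⟩
      one_smul := fun g => Subtype.ext (by show (1 : G) * g.1 * (1 : G)⁻¹ = g.1; simp)
      mul_smul := fun a b g => Subtype.ext (by
        show (a : G) * (b : G) * g.1 * ((a : G) * (b : G))⁻¹ = (a : G) * ((b : G) * g.1 * (b : G)⁻¹) * (a : G)⁻¹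
        group) }
  have h := (isPGroup_zpowers hx).card_modEq_card_fixedPoints {g : G // orderOf g = n}
  have hfix : ∀ g : {g : G // orderOf g = n},
      g ∈ MulAction.fixedPoints ↥(zpowers x) {g : G // orderOf g = n} ↔ g.1 ∈ centralizer ({x} : Set G) := by
    intro g
    rw [MulAction.mem_fixedPoints]
    constructor
    · intro hg
      have := congrArg Subtype.val (hg ⟨x, mem_zpowers x⟩)
      change x * g.1 * x⁻¹ = g.1 at this
      exact mem_centralizer_singleton_iff.2 (mul_inv_eq_iff_eq_mul.1 this).symm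
    · intro hg a
      obtain ⟨k, hk⟩ := mem_zpowers_iff.1 a.2
      have hc : Commute g.1 (a : G) := by
        rw [← hk]; exact Commute.zpow_right (mem_centralizer_singleton_iff.1 hg) k
      refine Subtype.ext ?_
      show (a : G) * g.1 * (a : G)⁻¹ = g.1
      rw [← hc.eq, mul_inv_cancel_right]
  refine h.trans (modEq_of_eq (Nat.card_congr ?_))
  exact {
    toFun := fun g => ⟨⟨g.1.1, (hfix g.1).1 g.2⟩, by rw [Subgroup.orderOf_mk]; exact g.1.2⟩
    invFun := fun g => ⟨⟨g.1.1, by rw [Subgroup.orderOf_coe]; exact g.2⟩, (hfix _).2 g.1.2⟩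
    left_inv := fun g => rfl
    right_inv := fun g => rfl }

theorem card_orderOf_cyclic {H : Type*} [Group H] [Finite H] [IsCyclic H] {d : ℕ} (hd : d ∣ Nat.card H) :
    Nat.card {g : H // orderOf g = d} = d.totient := by
  classical
  cases nonempty_fintype H
  rw [Nat.card_eq_fintype_card, Fintype.card_subtype]
  exact IsCyclic.card_orderOf_eq_totient (by rwa [← Nat.card_eq_fintype_card])

theorem cnt_self_centralizing {x : G} (hx : orderOf x = p)
    (hC : Nat.card ↥(centralizer ({x} : Set G)) = p) :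
    cnt G p ≡ p - 1 [MOD p] ∧ ∀ n, n ≠ 1 → n ≠ p → cnt G n ≡ 0 [MOD p] := by
  haveI := isCyclic_of_prime_card hC
  refine ⟨(cnt_modEq hx p).trans (modEq_of_eq ?_), fun n h1 hp => (cnt_modEq hx n).trans (modEq_of_eq ?_)⟩
  · rw [card_orderOf_cyclic (by rw [hC]), Nat.totient_prime Fact.out]
  · rw [Nat.card_eq_zero]
    refine Or.inl ⟨fun g => ?_⟩
    have := orderOf_dvd_natCard g.1
    rw [hC, g.2] at this
    rcases (Nat.dvd_prime Fact.out).1 this with h | h
    exacts [h1 h, hp h]

theorem cnt_one : cnt G 1 = 1 := by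
  rw [cnt, Nat.card_eq_one_iff_unique]
  exact ⟨⟨fun a b => Subtype.ext ((orderOf_eq_one_iff.1 a.2).trans (orderOf_eq_one_iff.1 b.2).symm)⟩,
    ⟨⟨1, orderOf_one⟩⟩⟩

variable {m : ℕ}

theorem card_sylow (hG : Nat.card G = p * m) (hpm : ¬ p ∣ m) (P : Sylow p G) :
    Nat.card ↥(P : Subgroup G) = p := by
  have hp := (Fact.out : p.Prime)
  have hm0 : m ≠ 0 := fun h => hpm (by rw [h]; exact dvd_zero p)
  rw [P.card_eq_multiplicity, hG, Nat.factorization_mul hp.ne_zero hm0]
  simp [hp.factorization_self, Nat.factorization_eq_zero_of_not_dvd hpm]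

theorem exists_sylow_eq (hG : Nat.card G = p * m) (hpm : ¬ p ∣ m) {x : G} (hx : orderOf x = p) :
    ∃ P : Sylow p G, (P : Subgroup G) = zpowers x := by
  obtain ⟨P, hP⟩ := (isPGroup_zpowers hx).exists_le_sylow
  exact ⟨P, (eq_of_le_of_card_ge hP (by rw [card_sylow hG hpm, Nat.card_zpowers, hx])).symm⟩

theorem centralizer_coe_zpowers (x : G) :
    centralizer ((zpowers x : Subgroup G) : Set G) = centralizer ({x} : Set G) := by
  refine le_antisymm (centralizer_le (Set.singleton_subset_iff.2 (mem_zpowers x))) fun g hg => ?_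
  refine mem_centralizer_iff.2 fun y hy => ?_
  obtain ⟨k, rfl⟩ := mem_zpowers_iff.1 hy
  exact ((Commute.zpow_right (mem_centralizer_singleton_iff.1 hg : Commute g x) k)).eq.symm

/-- The number of elements of order `p`. -/
theorem cnt_prime (hG : Nat.card G = p * m) (hpm : ¬ p ∣ m) :
    cnt G p = Nat.card (Sylow p G) * (p - 1) := by
  classical
  cases nonempty_fintype G
  have hp := (Fact.out : p.Prime)
  have h : ∀ P : Sylow p G, Nat.card (P : Subgroup G) = p := card_sylow hG hpm
  have hord : ∀ (P : Sylow p G) (q : ↥(P : Subgroup G)), q ≠ 1 → orderOf (q : G) = p := fun P q hq => by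
    rw [Subgroup.orderOf_coe]
    have hh := pow_card_eq_one' (x := q)
    rw [h P] at hh
    exact orderOf_eq_prime hh hq
  let f : (Σ P : Sylow p G, {q : ↥(P : Subgroup G) // q ≠ 1}) → {g : G // orderOf g = p} :=
    fun s => ⟨(s.2.1 : G), hord s.1 s.2.1 s.2.2⟩
  have hz : ∀ (P : Sylow p G) (g : G), g ∈ (P : Subgroup G) → orderOf g = p → zpowers g = (P : Subgroup G) :=
    fun P g hg ho => Subgroup.eq_of_le_of_card_ge (zpowers_le.mpr hg) (by rw [h P, Nat.card_zpowers, ho])
  have hf : Function.Bijective f := by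
    constructor
    · rintro ⟨P, ⟨q, hq⟩, hq1⟩ ⟨P', ⟨q', hq'⟩, hq1'⟩ hs
      have e : q = q' := congrArg Subtype.val hs
      subst e
      have hP : P = P' := Sylow.ext ((hz P q hq (hord P ⟨q, hq⟩ hq1)).symm.trans (hz P' q hq' (hord P ⟨q, hq⟩ hq1)))
      subst hP
      rfl
    · rintro ⟨g, hg⟩
      obtain ⟨P, hP⟩ := (isPGroup_zpowers hg).exists_le_sylow
      exact ⟨⟨P, ⟨g, hP (mem_zpowers g)⟩, fun hh => by
        have : g = 1 := congrArg Subtype.val hh
        rw [this, orderOf_one] at hg
        exact hp.one_lt.ne hg⟩, rfl⟩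
  rw [cnt, ← Nat.card_eq_of_bijective f hf, Nat.card_sigma,
    Finset.sum_congr rfl (g := fun _ => p - 1) fun P _ => ?_, Finset.sum_const, Finset.card_univ,
    ← Nat.card_eq_fintype_card, smul_eq_mul]
  rw [Nat.card_eq_fintype_card, Fintype.card_subtype_compl, Fintype.card_subtype_eq, ← Nat.card_eq_fintype_card, h P]

/-- The normaliser of a self-centralizing subgroup of order `p`. -/
theorem card_normalizer (hG : Nat.card G = p * m) (hpm : ¬ p ∣ m) {x : G} (hx : orderOf x = p)
    (hC : Nat.card ↥(centralizer ({x} : Set G)) = p) :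
    Nat.card ↥(normalizer ((zpowers x : Subgroup G) : Set G)) = p * (m % p) := by
  have hp := (Fact.out : p.Prime)
  obtain ⟨P, hP⟩ := exists_sylow_eq hG hpm hx
  set N := normalizer ((zpowers x : Subgroup G) : Set G) with hN
  have hle : centralizer ({x} : Set G) ≤ N := by
    rw [← centralizer_coe_zpowers]; exact centralizer_le_normalizer _
  obtain ⟨e, he⟩ : p ∣ Nat.card N := hC ▸ card_dvd_of_le hle
  have hlt : e < p := by
    have key := card_dvd_of_injective _ (QuotientGroup.kerLift_injective (zpowers x).normalizerMonoidHom)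
    rw [normalizerMonoidHom_ker, ← index, IsCyclic.card_mulAut, Nat.card_zpowers, hx,
      Nat.totient_prime hp] at key
    have hidx : ((centralizer ((zpowers x : Subgroup G) : Set G)).subgroupOf N).index = e := by
      have h1 := ((centralizer ((zpowers x : Subgroup G) : Set G)).subgroupOf N).index_mul_card
      rw [Nat.card_congr (subgroupOfEquivOfLe (centralizer_coe_zpowers x ▸ hle)).toEquiv,
        centralizer_coe_zpowers, hC, he, mul_comm p e] at h1
      rw [centralizer_coe_zpowers]; exact Nat.eq_of_mul_eq_mul_right hp.pos h1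
    rw [hidx] at key
    have := hp.two_le
    have := Nat.le_of_dvd (by have := hp.two_le; omega) key
    omega
  have hnm : Nat.card (Sylow p G) * e = m := by
    have h1 := N.index_mul_card
    have h2 : Nat.card (Sylow p G) = N.index := by rw [P.card_eq_index_normalizer, hN, ← hP]; rfl
    rw [← h2, hG, he] at h1
    refine Nat.eq_of_mul_eq_mul_left hp.pos ?_
    rw [← h1]; ring
  have hmod := card_sylow_modEq_one p G
  have : m % p = e := by
    rw [← hnm, Nat.mul_mod, hmod, Nat.one_mod_eq_one.2 hp.ne_one, one_mul, Nat.mod_mod, Nat.mod_eq_of_lt hlt]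
  rw [this, he]

theorem sylow_count (hG : Nat.card G = p * m) (hpm : ¬ p ∣ m) {x : G} (hx : orderOf x = p)
    (hN : Nat.card ↥(normalizer ((zpowers x : Subgroup G) : Set G)) = p * (m % p)) :
    Nat.card (Sylow p G) * (m % p) = m := by
  obtain ⟨P, hP⟩ := exists_sylow_eq hG hpm hx
  have h1 := (normalizer ((zpowers x : Subgroup G) : Set G)).index_mul_card
  have h2 : Nat.card (Sylow p G) = (normalizer ((zpowers x : Subgroup G) : Set G)).index := by
    rw [P.card_eq_index_normalizer, ← hP]; rfl
  rw [← h2, hG, hN] at h1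
  refine Nat.eq_of_mul_eq_mul_left (Fact.out : p.Prime).pos ?_
  rw [← h1]; ring

variable {M : Type*} [Group M] [Finite M]

/-- The counts of a group with the counts of `M`. -/
theorem counts_cases (hM : Nat.card M = p * m) (hMC : ∀ y : M, orderOf y = p → Nat.card ↥(centralizer ({y} : Set M)) = p)
    (hnse : {c : ℕ | 0 < c ∧ ∃ n : ℕ, c = Nat.card {g : G // orderOf g = n}} =
      {c : ℕ | 0 < c ∧ ∃ n : ℕ, c = Nat.card {g : M // orderOf g = n}})
    (n : ℕ) : cnt G n = 0 ∨ cnt G n = 1 ∨ cnt G n = cnt M p ∨ cnt G n ≡ 0 [MOD p] := by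
  rcases Nat.eq_zero_or_pos (cnt G n) with h | h
  · exact Or.inl h
  have hmem : cnt G n ∈ {c : ℕ | 0 < c ∧ ∃ n : ℕ, c = Nat.card {g : G // orderOf g = n}} := ⟨h, n, rfl⟩
  rw [hnse] at hmem
  obtain ⟨-, k, hk⟩ := hmem
  change cnt G n = cnt M k at hk
  obtain ⟨y, hy⟩ := exists_prime_orderOf_dvd_card' (G := M) p (by rw [hM]; exact dvd_mul_right _ _)
  by_cases h1 : k = 1
  · exact Or.inr (Or.inl (by rw [hk, h1, cnt_one]))
  by_cases hp : k = p
  · exact Or.inr (Or.inr (Or.inl (by rw [hk, hp])))
  · exact Or.inr (Or.inr (Or.inr (hk ▸ (cnt_self_centralizing hy (hMC y hy)).2 k h1 hp)))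

section Main

variable (hG : Nat.card G = p * m) (hM : Nat.card M = p * m) (hpm : ¬ p ∣ m)
  (he : (m % p).Prime) (he2 : m % p ≠ 2)
  (hMC : ∀ y : M, orderOf y = p → Nat.card ↥(centralizer ({y} : Set M)) = p)
  (hnse : {c : ℕ | 0 < c ∧ ∃ n : ℕ, c = Nat.card {g : G // orderOf g = n}} =
    {c : ℕ | 0 < c ∧ ∃ n : ℕ, c = Nat.card {g : M // orderOf g = n}})

include hG hM hpm he he2 hMC hnse

/-- In the group, too, elements of order `p` are self-centralizing. -/
theorem centralizer_card {x : G} (hx : orderOf x = p) : Nat.card ↥(centralizer ({x} : Set G)) = p := by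
  have hp := (Fact.out : p.Prime)
  have hep : m % p < p := Nat.mod_lt _ hp.pos
  have he3 : 3 ≤ m % p := by have := he.two_le; omega
  obtain ⟨y, hy⟩ := exists_prime_orderOf_dvd_card' (G := M) p (by rw [hM]; exact dvd_mul_right _ _)
  have hS : cnt M p ≡ p - 1 [MOD p] := (cnt_self_centralizing hy (hMC y hy)).1
  -- elements of order `p` in the centralizer lie in the subgroup of `x`
  have hCp : Nat.card {g : ↥(centralizer ({x} : Set G)) // orderOf g = p} = p - 1 := by
    obtain ⟨P, hP⟩ := exists_sylow_eq hG hpm hx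
    haveI : Fact p.Prime := ⟨hp⟩
    haveI := isCyclic_of_prime_card (α := ↥(zpowers x)) (p := p) (by rw [Nat.card_zpowers, hx])
    rw [← Nat.totient_prime hp, ← card_orderOf_cyclic (H := ↥(zpowers x)) (d := p) (by rw [Nat.card_zpowers, hx])]
    have hin : ∀ g : G, g ∈ centralizer ({x} : Set G) → orderOf g = p → g ∈ zpowers x := by
      intro g hg ho
      have hnorm : g ∈ normalizer ((zpowers x : Subgroup G) : Set G) := by
        refine centralizer_le_normalizer _ ?_
        rwa [centralizer_coe_zpowers]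
      rw [← hP] at hnorm ⊢
      have hle : zpowers g ≤ normalizer ((P : Subgroup G) : Set G) := zpowers_le.2 hnorm
      have hpg : IsPGroup p ↥(zpowers g ⊔ (P : Subgroup G)) :=
        IsPGroup.to_sup_of_normal_right' (isPGroup_zpowers ho) P.isPGroup' hle
      have := P.is_maximal' hpg le_sup_right
      exact this ▸ (le_sup_left : zpowers g ≤ _) (mem_zpowers g)
    exact Nat.card_congr {
      toFun := fun g => ⟨⟨g.1.1, hin _ g.1.2 (by rw [Subgroup.orderOf_coe]; exact g.2)⟩, by
        rw [Subgroup.orderOf_mk, Subgroup.orderOf_coe]; exact g.2⟩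
      invFun := fun g => ⟨⟨g.1.1, mem_centralizer_singleton_iff.2 (by
        obtain ⟨k, hk⟩ := mem_zpowers_iff.1 g.1.2
        rw [← hk]; exact ((Commute.refl x).zpow_left k).eq)⟩, by
        rw [Subgroup.orderOf_mk, Subgroup.orderOf_coe]; exact g.2⟩
      left_inv := fun g => rfl
      right_inv := fun g => rfl }
  have h1 : cnt G p ≡ p - 1 [MOD p] := (cnt_modEq hx p).trans (modEq_of_eq hCp)
  have hsp : cnt G p = cnt M p := by
    have hne : ∀ c, c ≡ p - 1 [MOD p] → c ≠ 0 ∧ c ≠ 1 ∧ ¬ c ≡ 0 [MOD p] := by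
      intro c hc
      have h2 : (p - 1) % p = p - 1 := Nat.mod_eq_of_lt (by omega)
      unfold Nat.ModEq at hc ⊢
      rw [h2] at hc
      refine ⟨?_, ?_, ?_⟩ <;> intro h
      · rw [h, Nat.zero_mod] at hc; omega
      · rw [h, Nat.one_mod_eq_one.2 hp.ne_one] at hc; omega
      · rw [hc, Nat.zero_mod] at h; omega
    obtain ⟨a, b, c⟩ := hne _ h1
    rcases counts_cases hM hMC hnse p with h | h | h | h
    exacts [absurd h a, absurd h b, h, absurd h c]
  have hn : Nat.card (Sylow p G) = Nat.card (Sylow p M) := by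
    have h := cnt_prime (G := G) hG hpm
    rw [hsp, cnt_prime hM hpm] at h
    exact (Nat.eq_of_mul_eq_mul_right (by omega) h).symm
  have hN : Nat.card ↥(normalizer ((zpowers x : Subgroup G) : Set G)) = p * (m % p) := by
    obtain ⟨P, hP⟩ := exists_sylow_eq hG hpm hx
    have h1 := (normalizer ((zpowers x : Subgroup G) : Set G)).index_mul_card
    have h2 : Nat.card (Sylow p G) = (normalizer ((zpowers x : Subgroup G) : Set G)).index := by
      rw [P.card_eq_index_normalizer, ← hP]; rfl
    have h3 := sylow_count hM hpm hy (card_normalizer hM hpm hy (hMC y hy))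
    rw [← h2, hn, hG] at h1
    refine Nat.eq_of_mul_eq_mul_left Nat.card_pos (h1.trans ?_)
    rw [mul_left_comm, h3]
  set C := centralizer ({x} : Set G) with hCdef
  have hCN : C ≤ normalizer ((zpowers x : Subgroup G) : Set G) := by
    rw [hCdef, ← centralizer_coe_zpowers]; exact centralizer_le_normalizer _
  have hxC : x ∈ C := mem_centralizer_singleton_iff.2 rfl
  obtain ⟨d, hd⟩ : p ∣ Nat.card C := by
    rw [← hx, ← Subgroup.orderOf_mk x hxC]; exact orderOf_dvd_natCard _
  have hde : d ∣ m % p := by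
    have := card_dvd_of_le hCN
    rw [hd, hN] at this
    exact Nat.dvd_of_mul_dvd_mul_left hp.pos this
  rcases (Nat.dvd_prime he).1 hde with h | h
  · rw [hd, h, mul_one]
  exfalso
  haveI : Fact (m % p).Prime := ⟨he⟩
  obtain ⟨z, hz⟩ := exists_prime_orderOf_dvd_card' (G := C) (m % p) (by rw [hd, h]; exact dvd_mul_left _ _)
  have hcyc : IsCyclic C := by
    refine isCyclic_of_orderOf_eq_card (⟨x, hxC⟩ * z) ?_
    have hcomm : Commute (⟨x, hxC⟩ : C) z := Subtype.ext (mem_centralizer_singleton_iff.1 z.2).symm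
    rw [hcomm.orderOf_mul_eq_mul_orderOf_of_coprime, Subgroup.orderOf_mk, hx, hz, hd, h]
    rw [Subgroup.orderOf_mk, hx, hz]
    exact (Nat.coprime_primes hp he).2 (by omega)
  have hk : cnt G (m % p) ≡ m % p - 1 [MOD p] := (cnt_modEq hx _).trans (modEq_of_eq (by
    rw [← hCdef, card_orderOf_cyclic (by rw [hd, h]; exact dvd_mul_left _ _), Nat.totient_prime he]))
  have h4 : (m % p - 1) % p = m % p - 1 := Nat.mod_eq_of_lt (by omega)
  rcases counts_cases hM hMC hnse (m % p) with h0 | h0 | h0 | h0
  · rw [h0] at hk; unfold Nat.ModEq at hk; rw [h4, Nat.zero_mod] at hk; omega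
  · rw [h0] at hk; unfold Nat.ModEq at hk; rw [h4, Nat.one_mod_eq_one.2 hp.ne_one] at hk; omega
  · rw [h0] at hk; unfold Nat.ModEq at hk hS
    rw [h4] at hk; rw [hS, Nat.mod_eq_of_lt (show p - 1 < p by omega)] at hk; omega
  · have := h0.symm.trans hk; unfold Nat.ModEq at this; rw [h4, Nat.zero_mod] at this; omega

theorem isSimple (hlt : 1 < Nat.card (Sylow p M)) (hpp : ∀ q j, q.Prime → 1 ≤ j → q ^ j ∣ m → q ^ j % p ≠ 1) :
    IsSimpleGroup G := by
  classical
  have hp := (Fact.out : p.Prime)
  have hC : ∀ x : G, orderOf x = p → Nat.card ↥(centralizer ({x} : Set G)) = p :=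
    fun x hx => centralizer_card hG hM hpm he he2 hMC hnse hx
  obtain ⟨x, hx⟩ := exists_prime_orderOf_dvd_card' (G := G) p (by rw [hG]; exact dvd_mul_right _ _)
  obtain ⟨y, hy⟩ := exists_prime_orderOf_dvd_card' (G := M) p (by rw [hM]; exact dvd_mul_right _ _)
  have hN := card_normalizer hG hpm hx (hC x hx)
  have hn : 1 < Nat.card (Sylow p G) := by
    have a := sylow_count hG hpm hx hN
    have b := sylow_count hM hpm hy (card_normalizer hM hpm hy (hMC y hy))
    rwa [Nat.eq_of_mul_eq_mul_right he.pos (a.trans b.symm)]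
  haveI : Nontrivial G := by
    refine ⟨x, 1, fun h => ?_⟩
    rw [h, orderOf_one] at hx
    exact hp.one_lt.ne hx
  have small : ∀ K : Subgroup G, K.Normal → ¬ p ∣ Nat.card K → K = ⊥ := by
    intro K hK hpK
    by_contra hne
    obtain ⟨q, hq, hqK⟩ := Nat.exists_prime_and_dvd (fun h => hne ((Subgroup.card_eq_one).1 h) : Nat.card K ≠ 1)
    haveI : Fact q.Prime := ⟨hq⟩
    obtain ⟨S⟩ : Nonempty (Sylow q K) := inferInstance
    set S' : Subgroup G := (S : Subgroup K).map K.subtype
    have hsup : normalizer (S' : Set G) ⊔ K = ⊤ := Sylow.normalizer_sup_eq_top S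
    have hdvd : Nat.card G ∣ Nat.card ↥(normalizer (S' : Set G)) * Nat.card K := by
      have h1 := Subgroup.card_mul_index K
      have h2 : K.index ∣ Nat.card ↥(normalizer (S' : Set G)) := by
        rw [← relIndex_top_right, ← hsup, relIndex_sup_right]
        exact relIndex_dvd_card _ _
      rw [← h1, mul_comm (Nat.card K)]; exact mul_dvd_mul_right h2 _
    have hpN : p ∣ Nat.card ↥(normalizer (S' : Set G)) :=
      (hp.dvd_mul.1 ((dvd_mul_right p m).trans (hG ▸ hdvd))).resolve_right hpK
    obtain ⟨z, hz⟩ := exists_prime_orderOf_dvd_card' (G := ↥(normalizer (S' : Set G))) p hpN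
    have hz' : orderOf (z : G) = p := by rw [Subgroup.orderOf_coe]; exact hz
    let σ : MulAction ↥(zpowers (z : G)) S' :=
      { smul := fun a s => ⟨(a : G) * s * (a : G)⁻¹,
          (mem_normalizer_iff.1 (zpowers_le.2 z.2 a.2) s).1 s.2⟩
        one_smul := fun s => Subtype.ext (by show (1 : G) * s * (1 : G)⁻¹ = s; simp)
        mul_smul := fun a b s => Subtype.ext (by
          show (a : G) * (b : G) * s * ((a : G) * (b : G))⁻¹ = (a : G) * ((b : G) * s * (b : G)⁻¹) * (a : G)⁻¹
          group) }
    have hfix : MulAction.fixedPoints ↥(zpowers (z : G)) S' = {1} := by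
      ext s
      rw [Set.mem_singleton_iff, MulAction.mem_fixedPoints]
      constructor
      · intro hs
        have h1 := congrArg Subtype.val (hs ⟨(z : G), mem_zpowers _⟩)
        change (z : G) * (s : G) * (z : G)⁻¹ = s at h1
        have hmem : (s : G) ∈ centralizer ({(z : G)} : Set G) :=
          mem_centralizer_singleton_iff.2 (mul_inv_eq_iff_eq_mul.1 h1).symm
        have d1 := orderOf_dvd_natCard (⟨_, hmem⟩ : centralizer ({(z : G)} : Set G))
        rw [Subgroup.orderOf_mk, hC _ hz'] at d1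
        have d2 : orderOf (s : G) ∣ Nat.card K := by
          obtain ⟨t, -, ht⟩ := s.2
          rw [← ht, show K.subtype t = (t : G) from rfl, Subgroup.orderOf_coe]
          exact orderOf_dvd_natCard t
        rcases (Nat.dvd_prime hp).1 d1 with h | h
        · exact Subtype.ext (orderOf_eq_one_iff.1 h)
        · exact absurd (h ▸ d2) hpK
      · rintro rfl a
        exact Subtype.ext (by show (a : G) * ((1 : S') : G) * (a : G)⁻¹ = ((1 : S') : G); simp)
    have hmod := (isPGroup_zpowers hz').card_modEq_card_fixedPoints S'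
    rw [hfix, Nat.card_eq_fintype_card (α := ({1} : Set S')), Fintype.card_unique] at hmod
    have hcard : Nat.card S' = Nat.card ↥(S : Subgroup K) := Subgroup.card_map_of_injective K.subtype_injective
    rw [hcard, S.card_eq_multiplicity] at hmod
    set j := (Nat.card K).factorization q
    have hj : 1 ≤ j := hq.factorization_pos_of_dvd Nat.card_pos.ne' hqK
    have hjm : q ^ j ∣ m := by
      have hqp : q ≠ p := fun h => hpK (h ▸ hqK)
      have : q ^ j ∣ p * m := hG ▸ (Nat.ordProj_dvd _ q).trans (card_subgroup_dvd_card K)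
      exact (Nat.Coprime.pow_left j ((Nat.coprime_primes hq hp).2 hqp)).dvd_of_dvd_mul_left this
    exact hpp q j hq hj hjm (by rw [hmod, Nat.one_mod_eq_one.2 hp.ne_one])
  refine { eq_bot_or_eq_top_of_normal := fun K hK => ?_ }
  by_cases hpK : p ∣ Nat.card K
  swap
  · exact Or.inl (small K hK hpK)
  refine Or.inr ?_
  obtain ⟨w, hw⟩ := exists_prime_orderOf_dvd_card' (G := K) p hpK
  have hw' : orderOf (w : G) = p := by rw [Subgroup.orderOf_coe]; exact hw
  obtain ⟨P, hP⟩ := exists_sylow_eq hG hpm hw'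
  have hPK : (P : Subgroup G) ≤ K := hP ▸ zpowers_le.2 w.2
  have hNc : Nat.card ↥(normalizer ((P : Subgroup G) : Set G)) = p * (m % p) := by
    rw [hP]; exact card_normalizer hG hpm hw' (hC _ hw')
  have hsup : normalizer ((P : Subgroup G) : Set G) ⊔ K = ⊤ := Sylow.normalizer_sup_eq_top' P hPK
  by_cases hall : normalizer ((P : Subgroup G) : Set G) ≤ K
  · rw [← hsup, sup_eq_right.2 hall]
  exfalso
  have hinf : normalizer ((P : Subgroup G) : Set G) ⊓ K = (P : Subgroup G) := by
    refine (eq_of_le_of_card_ge (le_inf le_normalizer hPK) ?_).symm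
    rw [card_sylow hG hpm]
    obtain ⟨d, hd⟩ : p ∣ Nat.card ↥(normalizer ((P : Subgroup G) : Set G) ⊓ K) :=
      by
        have := card_dvd_of_le (le_inf (le_normalizer (H := (P : Subgroup G))) hPK)
        rwa [card_sylow hG hpm P] at this
    have h1 := card_dvd_of_le (inf_le_left : normalizer ((P : Subgroup G) : Set G) ⊓ K ≤ _)
    rw [hd, hNc] at h1
    rcases (Nat.dvd_prime he).1 (Nat.dvd_of_mul_dvd_mul_left hp.pos h1) with h | h
    · rw [hd, h, mul_one]
    · refine absurd ?_ hall
      have he3 := eq_of_le_of_card_ge (inf_le_left : normalizer ((P : Subgroup G) : Set G) ⊓ K ≤ _)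
        (by rw [hd, h, hNc])
      exact fun g hg => (he3.ge hg).2
  let Q : Sylow p K := P.subtype hPK
  have hQ : normalizer ((Q : Subgroup K) : Set K) ≤ centralizer ((Q : Subgroup K) : Set K) := by
    intro k hk
    have hkN : (k : G) ∈ normalizer ((P : Subgroup G) : Set G) := by
      refine mem_normalizer_iff.2 fun g => ⟨fun hg => ?_, fun hg => ?_⟩
      · exact (mem_normalizer_iff.1 hk ⟨g, hPK hg⟩).1 hg
      · have hgK : g ∈ K := by
          have := hK.conj_mem _ (hPK hg) (k : G)⁻¹
          simpa [mul_assoc] using this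
        exact (mem_normalizer_iff.1 hk ⟨g, hgK⟩).2 hg
    have hkP : (k : G) ∈ (P : Subgroup G) := hinf ▸ ⟨hkN, k.2⟩
    haveI := isCyclic_of_prime_card (card_sylow hG hpm P)
    refine mem_centralizer_iff.2 fun q hq => Subtype.ext ?_
    have hc := (IsCyclic.commutative (α := ↥(P : Subgroup G))).is_comm.comm ⟨(q : G), hq⟩ ⟨k, hkP⟩
    show (q : G) * (k : G) = (k : G) * (q : G)
    exact congrArg Subtype.val hc
  have hcomp := MonoidHom.ker_transferSylow_isComplement' Q hQ
  set T := (MonoidHom.transferSylow Q hQ).ker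
  have hQc : Nat.card ↥(Q : Subgroup K) = p := by
    rw [Sylow.coe_subtype, Nat.card_congr (subgroupOfEquivOfLe hPK).toEquiv, card_sylow hG hpm]
  have hTcard : Nat.card T * p = Nat.card K := hQc ▸ hcomp.card_mul
  have hTp : ¬ p ∣ Nat.card T := by
    rintro ⟨c, hc⟩
    have hd : p * p ∣ p * m := by
      have : p * p ∣ Nat.card K := by rw [← hTcard, hc]; exact ⟨c, by ring⟩
      exact this.trans (hG ▸ card_subgroup_dvd_card K)
    exact hpm (Nat.dvd_of_mul_dvd_mul_left hp.pos hd)
  have hTidx : T.index = p := by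
    have := T.index_mul_card
    rw [← hTcard, mul_comm (Nat.card T)] at this
    exact Nat.eq_of_mul_eq_mul_right Nat.card_pos this
  have hmemT : ∀ k : K, k ∈ T ↔ k ^ Nat.card T = 1 := fun k => by
    refine ⟨fun hk => ?_, fun hk => ?_⟩
    · have h := congrArg Subtype.val (pow_card_eq_one' (x := (⟨k, hk⟩ : T)))
      rwa [SubgroupClass.coe_pow] at h
    have h1 : ((k : K ⧸ T)) ^ Nat.card T = 1 := by rw [← QuotientGroup.mk_pow, hk]; rfl
    have h2 : ((k : K ⧸ T)) ^ p = 1 := by
      have h := pow_card_eq_one' (x := (k : K ⧸ T))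
      rwa [← index_eq_card, hTidx] at h
    refine (QuotientGroup.eq_one_iff k).1 ?_
    rw [← pow_one (k : K ⧸ T), ← (Nat.Coprime.symm ((hp.coprime_iff_not_dvd).2 hTp)).gcd_eq_one]
    exact pow_gcd_eq_one.2 ⟨h1, h2⟩
  have hnormal : (T.map K.subtype).Normal := ⟨by
    rintro _ ⟨k, hk, rfl⟩ g
    refine ⟨⟨g * k * g⁻¹, hK.conj_mem _ k.2 g⟩, (hmemT _).2 (Subtype.ext ?_), rfl⟩
    have := congrArg Subtype.val ((hmemT k).1 hk)
    rw [SubgroupClass.coe_pow] at this ⊢
    rw [conj_pow, this]; simp⟩
  have hbot := small _ hnormal (by rwa [Subgroup.card_map_of_injective K.subtype_injective])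
  have hT1 : Nat.card T = 1 := by
    rw [← Subgroup.card_map_of_injective K.subtype_injective, hbot, Subgroup.card_bot]
  have hKP : K = (P : Subgroup G) := (eq_of_le_of_card_ge hPK (by
    rw [card_sylow hG hpm, ← hTcard, hT1, one_mul])).symm
  have hnp : normalizer ((P : Subgroup G) : Set G) = ⊤ := by
    haveI : (P : Subgroup G).Normal := hKP ▸ hK
    exact normalizer_eq_top _
  rw [P.card_eq_index_normalizer, ← Sylow.coe_coe, hnp, index_top] at hn
  omega

end Main

end CfsgLib.Recognition.CountSimple
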