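import Mathlib
import Cfsg.Agent.Lib.Solvable.Basic

/-!
Fibre powers of a finite group over a normal subgroup: the subgroup of `ι → G` of tuples with a
common image modulo `N`.  When `N` has prime exponent the element orders are those of `G`.
-/

namespace CfsgLib.Recognition.FibrePower

/-- Tuples with the same image modulo `N`. -/
def fibrePower {G : Type*} [Group G] (N : Subgroup G) [N.Normal] (ι : Type*) : Subgroup (ι → G) where
  carrier := {f | ∀ i j, (f i : G ⧸ N) = f j}
  one_mem' := fun _ _ => rfl
  mul_mem' := fun {a b} ha hb i j => by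
    simp only [Pi.mul_apply, QuotientGroup.mk_mul, ha i j, hb i j]
  inv_mem' := fun {a} ha i j => by simp only [Pi.inv_apply, QuotientGroup.mk_inv, ha i j]

theorem mem_fibrePower {G : Type*} [Group G] {N : Subgroup G} [N.Normal] {ι : Type*} {f : ι → G} :
    f ∈ fibrePower N ι ↔ ∀ i j, (f i : G ⧸ N) = f j := Iff.rfl

/-- The fibre power contains the power of `N`. -/
theorem card_pow_le {G : Type*} [Group G] [Finite G] (N : Subgroup G) [N.Normal] (k : ℕ) :
    Nat.card N ^ k ≤ Nat.card (fibrePower N (Fin k)) := by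
  have : Nat.card (Fin k → N) = Nat.card N ^ k := by rw [Nat.card_fun, Nat.card_fin]
  rw [← this]
  refine Nat.card_le_card_of_injective
    (fun f => ⟨fun i => (f i : G), fun i j => (QuotientGroup.eq_iff_div_mem.mpr
      (N.div_mem (f i).2 (f j).2))⟩) ?_
  intro f g hfg
  funext i
  exact Subtype.ext (congrFun (congrArg Subtype.val hfg) i)

/-- If `N` has prime exponent, a fibre power has the same element orders as `G`. -/
theorem spectrum_eq {G : Type*} [Group G] [Finite G] (N : Subgroup G) [N.Normal] {p : ℕ}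
    (hp : p.Prime) (hexp : ∀ x ∈ N, x ^ p = 1) (k : ℕ) :
    Set.range (orderOf : fibrePower N (Fin (k + 1)) → ℕ) = Set.range (orderOf : G → ℕ) := by
  classical
  ext n
  constructor
  · rintro ⟨⟨f, hf⟩, rfl⟩
    set c := orderOf (f 0 : G ⧸ N) with hc
    have hc0 : 0 < c := orderOf_pos _
    have key : ∀ i, orderOf (f i) = c ∨ orderOf (f i) = c * p := by
      intro i
      have h1 : c ∣ orderOf (f i) := by
        rw [hc, hf 0 i]; exact orderOf_map_dvd (QuotientGroup.mk' N) (f i)
      have h2 : orderOf (f i) ∣ c * p := by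
        rw [orderOf_dvd_iff_pow_eq_one, pow_mul]
        apply hexp
        rw [← QuotientGroup.eq_one_iff, QuotientGroup.mk_pow, hc, hf 0 i, pow_orderOf_eq_one]
      obtain ⟨d, hd⟩ := h1
      rw [hd] at h2
      rcases (Nat.dvd_prime hp).mp ((Nat.mul_dvd_mul_iff_left hc0).mp h2) with rfl | rfl
      · left; rw [hd, mul_one]
      · right; exact hd
    obtain ⟨i₀, hi₀⟩ : ∃ i₀, ∀ i, orderOf (f i) ∣ orderOf (f i₀) := by
      by_cases h : ∃ i, orderOf (f i) = c * p
      · obtain ⟨i₀, hi₀⟩ := h
        refine ⟨i₀, fun i => ?_⟩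
        rcases key i with h1 | h1 <;> rw [h1, hi₀]
        exact dvd_mul_right c p
      · push Not at h
        exact ⟨0, fun i => by rw [(key i).resolve_right (h i), (key 0).resolve_right (h 0)]⟩
    refine ⟨f i₀, ?_⟩
    rw [Subgroup.orderOf_mk]
    apply Nat.dvd_antisymm
    · exact orderOf_map_dvd (Pi.evalMonoidHom (fun _ : Fin (k + 1) => G) i₀) f
    · rw [orderOf_dvd_iff_pow_eq_one]
      funext i
      rw [Pi.pow_apply, Pi.one_apply, ← orderOf_dvd_iff_pow_eq_one]
      exact hi₀ i
  · rintro ⟨g, rfl⟩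
    let d : G →* fibrePower N (Fin (k + 1)) :=
      { toFun := fun x => ⟨fun _ => x, fun _ _ => rfl⟩
        map_one' := rfl
        map_mul' := fun _ _ => rfl }
    exact ⟨d g, orderOf_injective d (fun a b h => congrFun (congrArg Subtype.val h) 0) g⟩

/-- A group with a nontrivial normal subgroup of prime exponent is isospectral to finite groups of
arbitrarily large order. -/
theorem exists_large_isospectral {G : Type*} [Group G] [Finite G] (N : Subgroup G) [N.Normal]
    {p : ℕ} (hp : p.Prime) (hexp : ∀ x ∈ N, x ^ p = 1) (hN : N ≠ ⊥) (M : ℕ) :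
    ∃ (H : Type) (_ : Group H) (_ : Fintype H),
      M < Fintype.card H ∧ Set.range (orderOf : H → ℕ) = Set.range (orderOf : G → ℕ) := by
  let P := fibrePower N (Fin (M + 1))
  haveI : Finite (Shrink.{0} P) := Finite.of_equiv P (equivShrink P)
  let inst : Fintype (Shrink.{0} P) := Fintype.ofFinite _
  refine ⟨Shrink.{0} P, inferInstance, inst, ?_, ?_⟩
  · rw [← Nat.card_eq_fintype_card, ← Nat.card_congr (equivShrink P)]
    refine lt_of_lt_of_le ?_ (card_pow_le N (M + 1))
    exact (Nat.lt_pow_self (N.one_lt_card_iff_ne_bot.mpr hN) : M + 1 < _).trans_le' (Nat.le_succ M)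
  · rw [← spectrum_eq N hp hexp M]
    let φ : Shrink.{0} P ≃* P := Shrink.mulEquiv
    ext n
    constructor
    · rintro ⟨x, rfl⟩; exact ⟨φ x, MulEquiv.orderOf_eq φ x⟩
    · rintro ⟨x, rfl⟩; exact ⟨φ.symm x, MulEquiv.orderOf_eq φ.symm x⟩

/-- A group with a nontrivial solvable normal subgroup is isospectral to finite groups of
arbitrarily large order. -/
theorem exists_large_of_solvable_normal {G : Type*} [Group G] [Finite G] (K : Subgroup G) [K.Normal]
    (hK : K ≠ ⊥) [Group.IsSolvable K] (M : ℕ) :
    ∃ (H : Type) (_ : Group H) (_ : Fintype H),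
      M < Fintype.card H ∧ Set.range (orderOf : H → ℕ) = Set.range (orderOf : G → ℕ) := by
  obtain ⟨N, hNn, hN, hle, hmin⟩ := CfsgLib.Solvable.Basic.exists_minimal_normal_le hK
  haveI := hNn
  haveI : Group.IsSolvable N := Group.isSolvable_of_isSolvable_injective (Subgroup.inclusion_injective hle)
  obtain ⟨-, p, hp, hexp, -⟩ := CfsgLib.Solvable.Basic.minimal_normal_solvable N hN hmin
  exact exists_large_isospectral N hp hexp hN M

end CfsgLib.Recognition.FibrePower
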