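import Mathlib
import Cfsg.Agent.Lib.Recognition.FibrePower

/-!
Semidirect products of a finite abelian group by a group acting through endomorphisms, and the
element orders in them.
-/

namespace CfsgLib.Recognition.AffineGroup

variable {W : Type*} [AddCommGroup W] {L : Type*} [Group L] (f : L →* AddMonoid.End W)

theorem map_mul_apply (g h : L) (w : W) : f (g * h) w = f g (f h w) := by rw [map_mul]; rfl

theorem map_one_apply (w : W) : f 1 w = w := by rw [map_one]; rfl

/-- The action on the multiplicative copy. -/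
def actHom : L →* MulAut (Multiplicative W) where
  toFun g :=
    { toFun := fun w => Multiplicative.ofAdd (f g w.toAdd)
      invFun := fun w => Multiplicative.ofAdd (f g⁻¹ w.toAdd)
      left_inv := fun w => by
        change Multiplicative.ofAdd (f g⁻¹ (f g w.toAdd)) = w
        rw [← map_mul_apply, inv_mul_cancel, map_one_apply, ofAdd_toAdd]
      right_inv := fun w => by
        change Multiplicative.ofAdd (f g (f g⁻¹ w.toAdd)) = w
        rw [← map_mul_apply, mul_inv_cancel, map_one_apply, ofAdd_toAdd]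
      map_mul' := fun a b => by simp only [toAdd_mul, map_add, ofAdd_add] }
  map_one' := MulEquiv.ext fun w => congrArg Multiplicative.ofAdd (map_one_apply f w.toAdd)
  map_mul' g h := MulEquiv.ext fun w => congrArg Multiplicative.ofAdd (map_mul_apply f g h w.toAdd)

/-- The semidirect product. -/
abbrev Aff := Multiplicative W ⋊[actHom f] L

/-- The element with translation part `w` and image `g`. -/
def elt (w : W) (g : L) : Aff f := ⟨Multiplicative.ofAdd w, g⟩

theorem exists_elt (x : Aff f) : ∃ w g, x = elt f w g := ⟨x.left.toAdd, x.right, rfl⟩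

theorem pow_eq (w : W) (g : L) (j : ℕ) :
    elt f w g ^ j = elt f ((∑ i ∈ Finset.range j, f g ^ i) w) (g ^ j) := by
  induction j with
  | zero =>
    rw [pow_zero, Finset.sum_range_zero]
    exact SemidirectProduct.ext rfl (pow_zero g).symm
  | succ j ih =>
    rw [pow_succ, ih, elt, elt, SemidirectProduct.mul_def]
    refine SemidirectProduct.ext ?_ (pow_succ g j).symm
    change Multiplicative.ofAdd _ * Multiplicative.ofAdd (f (g ^ j) w) = _
    rw [← ofAdd_add, Finset.sum_range_succ, map_pow]
    rfl

theorem pow_eq_one (w : W) (g : L) {n : ℕ} (hg : g ^ n = 1) (hS : (∑ i ∈ Finset.range n, f g ^ i) w = 0) :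
    elt f w g ^ n = 1 := by
  rw [pow_eq, hS, hg]
  rfl

theorem sum_fixed (w : W) (g : L) {n : ℕ} (hg : g ^ n = 1) :
    f g ((∑ i ∈ Finset.range n, f g ^ i) w) = (∑ i ∈ Finset.range n, f g ^ i) w := by
  have h : f g * (∑ i ∈ Finset.range n, f g ^ i) = ∑ i ∈ Finset.range n, f g ^ i := by
    have h1 := Finset.sum_range_succ' (fun i => f g ^ i) n
    rw [Finset.sum_range_succ, ← map_pow, hg, map_one, pow_zero, add_left_inj] at h1
    rw [Finset.mul_sum]
    conv_rhs => rw [h1]
    exact Finset.sum_congr rfl fun i _ => (pow_succ' _ _).symm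
  conv_rhs => rw [← h]
  rfl

theorem sum_eq_zero_of_no_fixed (w : W) (g : L) {n : ℕ} (hg : g ^ n = 1) (h : ∀ v, f g v = v → v = 0) :
    (∑ i ∈ Finset.range n, f g ^ i) w = 0 :=
  h _ (sum_fixed f w g hg)

theorem fixed_pow {v : W} {g : L} (hv : f g v = v) (i : ℕ) : (f g ^ i) v = v := by
  induction i with
  | zero => rfl
  | succ i ih =>
    rw [pow_succ]
    change (f g ^ i) (f g v) = v
    rw [hv, ih]

theorem sum_of_fixed {v : W} {g : L} (hv : f g v = v) (n : ℕ) : (∑ i ∈ Finset.range n, f g ^ i) v = n • v := by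
  induction n with
  | zero => rw [Finset.sum_range_zero, zero_smul]; rfl
  | succ n ih =>
    rw [Finset.sum_range_succ, succ_nsmul]
    change (∑ i ∈ Finset.range n, f g ^ i) v + (f g ^ n) v = _
    rw [ih, fixed_pow f hv]

theorem pow_mul_eq_one {p : ℕ} (hp : ∀ w : W, p • w = 0) (w : W) (g : L) {n : ℕ} (hg : g ^ n = 1) :
    elt f w g ^ (n * p) = 1 := by
  rw [pow_mul, pow_eq, hg]
  exact pow_eq_one f _ 1 (one_pow p) (by rw [sum_of_fixed f (map_one_apply f _), hp])

theorem dvd_orderOf (w : W) (g : L) : orderOf g ∣ orderOf (elt f w g) :=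
  orderOf_map_dvd SemidirectProduct.rightHom (elt f w g)

theorem mul_dvd_orderOf_of_fixed {p : ℕ} [Fact p.Prime] (hp : ∀ w : W, p • w = 0) {v : W} (g : L) (hv : f g v = v)
    (hv0 : v ≠ 0) {n : ℕ} (hn : n ∣ orderOf g) (hcop : Nat.Coprime p n) : p * n ∣ orderOf (elt f v g) := by
  refine hcop.mul_dvd_of_dvd_of_dvd ?_ (hn.trans (dvd_orderOf f v g))
  have h := pow_orderOf_eq_one (elt f v g)
  rw [pow_eq, sum_of_fixed f hv] at h
  have h' : orderOf (elt f v g) • v = 0 := congrArg (fun x : Aff f => x.left.toAdd) h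
  rw [← addOrderOf_eq_prime (hp v) hv0]
  exact addOrderOf_dvd_iff_nsmul_eq_zero.mpr h'

theorem exists_large [Finite W] [Nontrivial W] [Finite L] (M : ℕ) :
    ∃ (H : Type) (_ : Group H) (_ : Fintype H),
      M < Fintype.card H ∧ Set.range (orderOf : H → ℕ) = Set.range (orderOf : Aff f → ℕ) := by
  haveI : Finite (Aff f) := Finite.of_equiv _ SemidirectProduct.equivProd.symm
  let K : Subgroup (Aff f) := (SemidirectProduct.inl : Multiplicative W →* Aff f).range
  haveI : K.Normal := by
    simp only [K, SemidirectProduct.range_inl_eq_ker_rightHom]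
    exact MonoidHom.normal_ker _
  haveI : Group.IsSolvable K := Group.isSolvable_of_surjective
    (MonoidHom.rangeRestrict_surjective (SemidirectProduct.inl : Multiplicative W →* Aff f))
  refine FibrePower.exists_large_of_solvable_normal K ?_ M
  intro h
  obtain ⟨w, hw⟩ := exists_ne (0 : W)
  have hm : (SemidirectProduct.inl (Multiplicative.ofAdd w) : Aff f) ∈ K := ⟨_, rfl⟩
  rw [h, Subgroup.mem_bot] at hm
  exact hw (congrArg (fun x : Aff f => x.left.toAdd) hm)

end CfsgLib.Recognition.AffineGroup
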