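import Mathlib

namespace CfsgLib.Recognition.AltSixSpectrum

theorem exponents : ∀ g : alternatingGroup (Fin 6),
    g = 1 ∨ g ^ 2 = 1 ∨ g ^ 3 = 1 ∨ g ^ 4 = 1 ∨ g ^ 5 = 1 := by
  decide +kernel

theorem exists_pows : (∃ g : alternatingGroup (Fin 6), g ^ 2 = 1 ∧ g ≠ 1) ∧
    (∃ g : alternatingGroup (Fin 6), g ^ 3 = 1 ∧ g ≠ 1) ∧
    (∃ g : alternatingGroup (Fin 6), g ^ 4 = 1 ∧ g ^ 2 ≠ 1) ∧
    (∃ g : alternatingGroup (Fin 6), g ^ 5 = 1 ∧ g ≠ 1) := by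
  decide +kernel

end CfsgLib.Recognition.AltSixSpectrum
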