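import Mathlib
import Cfsg.Agent.Lib.Recognition.AltSixSpectrum

/-!
The group `F₄² ⋊ SL₂(F₄)` inside `SL₃(F₄)` and its element orders `{1, 2, 3, 4, 5}`.
-/

namespace CfsgLib.Recognition.AffineSL24

open Matrix

variable {F : Type*} [Field F]

/-- The set of determinant one matrices with last row `(0, 0, 1)`. -/
def aff (F : Type*) [Field F] : Subgroup (SpecialLinearGroup (Fin 3) F) where
  carrier := {M | M.1 2 0 = 0 ∧ M.1 2 1 = 0 ∧ M.1 2 2 = 1}
  one_mem' := by simp
  mul_mem' := by
    rintro a b ⟨a0, a1, a2⟩ ⟨b0, b1, b2⟩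
    simp [Matrix.mul_apply, Fin.sum_univ_three, a0, a1, a2, b0, b1, b2]
  inv_mem' := by
    rintro a ⟨a0, a1, a2⟩
    have hd := a.2
    rw [det_fin_three, a0, a1, a2] at hd
    simp only [Set.mem_setOf_eq, SpecialLinearGroup.coe_inv]
    have h : ∀ j, (adjugate a.1 * a.1) 2 j = (1 : Matrix (Fin 3) (Fin 3) F) 2 j := by
      intro j; rw [adjugate_mul, a.2, one_smul]
    have e0 := h 0
    have e1 := h 1
    have e2 := h 2
    simp [Matrix.mul_apply, Fin.sum_univ_three, a0, a1, a2] at e0 e1 e2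
    have z0 : adjugate a.1 2 0 = 0 := by
      linear_combination (a.1 1 1) * e0 - (a.1 1 0) * e1 - (adjugate a.1 2 0) * hd
    have z1 : adjugate a.1 2 1 = 0 := by
      linear_combination (a.1 0 0) * e1 - (a.1 0 1) * e0 - (adjugate a.1 2 1) * hd
    rw [z0, z1] at e2
    refine ⟨z0, z1, ?_⟩
    simpa using e2

/-- The upper left block, a homomorphism. -/
def block (F : Type*) [Field F] : aff F →* Matrix (Fin 2) (Fin 2) F where
  toFun M := !![M.1.1 0 0, M.1.1 0 1; M.1.1 1 0, M.1.1 1 1]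
  map_one' := by ext i j; fin_cases i <;> fin_cases j <;> simp
  map_mul' := by
    rintro ⟨a, a0, a1, a2⟩ ⟨b, b0, b1, b2⟩
    ext i j
    fin_cases i <;> fin_cases j <;> simp [Matrix.mul_apply, Fin.sum_univ_three, b0, b1]

theorem trace_identity (M : Matrix (Fin 3) (Fin 3) F) (h0 : M 2 0 = 0) (h1 : M 2 1 = 0) (h2 : M 2 2 = 1)
    (hd : M.det = 1) :
    (M - 1) * (M * M - (M 0 0 + M 1 1) • M + 1) = 0 := by
  rw [det_fin_three, h0, h1, h2] at hd
  ext i j
  fin_cases i <;> fin_cases j <;> simp [Matrix.mul_apply, Fin.sum_univ_three, h0, h1, h2]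
  · linear_combination (1 - M 0 0) * hd
  · linear_combination (-(M 0 1)) * hd
  · linear_combination (-(M 0 2)) * hd
  · linear_combination (-(M 1 0)) * hd
  · linear_combination (1 - M 1 1) * hd
  · linear_combination (-(M 1 2)) * hd

/-- The matrix of an element. -/
def mat (F : Type*) [Field F] : aff F →* Matrix (Fin 3) (Fin 3) F where
  toFun M := M.1.1
  map_one' := rfl
  map_mul' _ _ := rfl

theorem mat_injective : Function.Injective (mat F) := fun _ _ h => Subtype.ext (Subtype.ext h)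

theorem pow_eq_one_iff (M : aff F) (k : ℕ) : M ^ k = 1 ↔ mat F M ^ k = 1 := by
  rw [← map_pow, ← mat_injective.eq_iff, map_one]

theorem two_eq_zero [Fintype F] (hF : Fintype.card F = 4) : (2 : F) = 0 := by
  have h := FiniteField.cast_card_eq_zero F
  rw [hF] at h
  have : (2 : F) * 2 = 0 := by norm_num; exact_mod_cast h
  rcases mul_eq_zero.mp this with h | h <;> exact h

theorem field_four [Fintype F] (hF : Fintype.card F = 4) (t : F) :
    t = 0 ∨ t = 1 ∨ t ^ 2 + t + 1 = 0 := by
  have h := FiniteField.pow_card t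
  rw [hF] at h
  have : t * ((t - 1) * (t ^ 2 + t + 1)) = 0 := by linear_combination h
  rcases mul_eq_zero.mp this with h | h
  · exact Or.inl h
  rcases mul_eq_zero.mp h with h | h
  · exact Or.inr (Or.inl (sub_eq_zero.mp h))
  · exact Or.inr (Or.inr h)

theorem exists_omega [Fintype F] [DecidableEq F] (hF : Fintype.card F = 4) : ∃ w : F, w ^ 2 + w + 1 = 0 := by
  by_contra h
  push Not at h
  have : (Finset.univ : Finset F) ⊆ {0, 1} := fun t _ => by
    rcases field_four hF t with h' | h' | h'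
    · simp [h']
    · simp [h']
    · exact absurd h' (h t)
  have h2 := Finset.card_le_card this
  rw [Finset.card_univ, hF] at h2
  have := Finset.card_le_two (a := (0 : F)) (b := 1)
  omega

theorem aeval_trace (M : aff F) :
    Polynomial.aeval (mat F M) ((Polynomial.X - 1) *
      (Polynomial.X * Polynomial.X - Polynomial.C (M.1.1 0 0 + M.1.1 1 1) * Polynomial.X + 1) : Polynomial F) = 0 := by
  obtain ⟨⟨A, hdet⟩, h0, h1, h2⟩ := M
  simp only [map_mul, map_sub, map_add, map_one, Polynomial.aeval_X, Polynomial.aeval_C]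
  rw [← map_add, ← Algebra.smul_def]
  exact trace_identity A h0 h1 h2 hdet

theorem pow_eq_one_of_dvd (M : aff F) (k : ℕ) (Q : Polynomial F)
    (h : (Polynomial.X ^ k - 1 : Polynomial F) = Q * ((Polynomial.X - 1) *
      (Polynomial.X * Polynomial.X - Polynomial.C (M.1.1 0 0 + M.1.1 1 1) * Polynomial.X + 1))) :
    M ^ k = 1 := by
  rw [pow_eq_one_iff, ← sub_eq_zero]
  have := congrArg (Polynomial.aeval (mat F M)) h
  rw [map_mul, aeval_trace, mul_zero] at this
  simpa using this

theorem pow_four (M : aff F) (h : M.1.1 0 0 + M.1.1 1 1 = 0) : M ^ 4 = 1 := by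
  refine pow_eq_one_of_dvd M 4 (Polynomial.X + 1) ?_
  rw [h, Polynomial.C_0]; ring

theorem pow_three (two : (2 : F) = 0) (M : aff F) (h : M.1.1 0 0 + M.1.1 1 1 = 1) : M ^ 3 = 1 := by
  refine pow_eq_one_of_dvd M 3 1 ?_
  have two' : (2 : Polynomial F) = 0 := by rw [← Polynomial.C_ofNat, two, Polynomial.C_0]
  rw [h, Polynomial.C_1]
  linear_combination (Polynomial.X * (Polynomial.X - 1)) * two'

theorem pow_five (two : (2 : F) = 0) (M : aff F)
    (h : (M.1.1 0 0 + M.1.1 1 1) ^ 2 + (M.1.1 0 0 + M.1.1 1 1) + 1 = 0) : M ^ 5 = 1 := by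
  set t := M.1.1 0 0 + M.1.1 1 1 with ht
  refine pow_eq_one_of_dvd M 5 (Polynomial.X * Polynomial.X + Polynomial.C (t + 1) * Polynomial.X + 1) ?_
  rw [← ht]
  have two' : (2 : Polynomial F) = 0 := by rw [← Polynomial.C_ofNat, two, Polynomial.C_0]
  have h' : (Polynomial.C t) ^ 2 + Polynomial.C t + 1 = 0 := by
    rw [← Polynomial.C_pow, ← Polynomial.C_1, ← Polynomial.C_add, ← Polynomial.C_add, h, Polynomial.C_0]
  rw [Polynomial.C_add, Polynomial.C_1]
  linear_combination ((Polynomial.X - 1) * Polynomial.X ^ 2) * h' - ((Polynomial.X - 1) * Polynomial.X ^ 2) * two'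

theorem pow_cases [Fintype F] (hF : Fintype.card F = 4) (M : aff F) :
    M ^ 3 = 1 ∨ M ^ 4 = 1 ∨ M ^ 5 = 1 := by
  rcases field_four hF (M.1.1 0 0 + M.1.1 1 1) with h | h | h
  · exact Or.inr (Or.inl (pow_four M h))
  · exact Or.inl (pow_three (two_eq_zero hF) M h)
  · exact Or.inr (Or.inr (pow_five (two_eq_zero hF) M h))

/-- Translations square to the identity in characteristic two. -/
theorem sq_eq_one_of_block (two : (2 : F) = 0) (M : aff F) (h : block F M = 1) : M ^ 2 = 1 := by
  obtain ⟨⟨A, hdet⟩, h0, h1, h2⟩ := M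
  have e00 := congrFun (congrFun h 0) 0
  have e01 := congrFun (congrFun h 0) 1
  have e10 := congrFun (congrFun h 1) 0
  have e11 := congrFun (congrFun h 1) 1
  simp [block] at e00 e01 e10 e11
  simp at h0 h1 h2
  rw [pow_eq_one_iff]
  change A ^ 2 = 1
  rw [pow_two]
  ext i j
  fin_cases i <;> fin_cases j <;>
    simp [Matrix.mul_apply, Fin.sum_univ_three, e00, e01, e10, e11, h0, h1, h2] <;>
    linear_combination (A _ _) * two

theorem orderOf_mem [Fintype F] (hF : Fintype.card F = 4) (M : aff F) :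
    orderOf M ∈ ({1, 2, 3, 4, 5} : Finset ℕ) := by
  rcases pow_cases hF M with h | h | h
  · rcases (Nat.dvd_prime (by norm_num)).mp (orderOf_dvd_of_pow_eq_one h) with e | e <;> simp [e]
  · have : orderOf M ∈ Nat.divisors 4 := Nat.mem_divisors.mpr ⟨orderOf_dvd_of_pow_eq_one h, by norm_num⟩
    rw [show Nat.divisors 4 = {1, 2, 4} from by decide] at this
    simp only [Finset.mem_insert, Finset.mem_singleton] at this ⊢
    omega
  · rcases (Nat.dvd_prime (by norm_num)).mp (orderOf_dvd_of_pow_eq_one h) with e | e <;> simp [e]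

/-- Element of the affine group from its entries. -/
def mk (a b c d x y : F) (h : a * d - b * c = 1) : aff F :=
  ⟨⟨!![a, b, x; c, d, y; 0, 0, 1], by rw [det_fin_three]; simpa using h⟩, ⟨by simp, by simp, by simp⟩⟩

theorem exists_orders [Fintype F] (hF : Fintype.card F = 4) {n : ℕ}
    (hn : n ∈ ({1, 2, 3, 4, 5} : Finset ℕ)) : ∃ M : aff F, orderOf M = n := by
  classical
  have two : (2 : F) = 0 := two_eq_zero hF
  have neq : ∀ {M : aff F} (i j : Fin 3), mat F M i j ≠ (1 : Matrix (Fin 3) (Fin 3) F) i j → M ≠ 1 := by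
    intro M i j h e; exact h (by rw [e, map_one])
  have two_prime : Fact (Nat.Prime 2) := ⟨by norm_num⟩
  have three_prime : Fact (Nat.Prime 3) := ⟨by norm_num⟩
  have five_prime : Fact (Nat.Prime 5) := ⟨by norm_num⟩
  simp only [Finset.mem_insert, Finset.mem_singleton] at hn
  rcases hn with rfl | rfl | rfl | rfl | rfl
  · exact ⟨1, orderOf_one⟩
  · refine ⟨mk 1 0 0 1 1 0 (by simp), orderOf_eq_prime ?_ (neq 0 2 (by simp [mk, mat]))⟩
    refine sq_eq_one_of_block two _ ?_
    ext i j; fin_cases i <;> fin_cases j <;> simp [mk, block]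
  · exact ⟨mk 0 1 1 1 0 0 (by linear_combination -two),
      orderOf_eq_prime (pow_three two _ (by simp [mk])) (neq 0 0 (by simp [mk, mat]))⟩
  · refine ⟨mk 1 1 0 1 0 1 (by simp), ?_⟩
    rw [show (4 : ℕ) = 2 ^ (1 + 1) by norm_num]
    refine orderOf_eq_prime_pow ?_ ?_
    · refine neq 0 2 ?_
      rw [show (2 : ℕ) ^ 1 = 2 from rfl, map_pow, pow_two]
      simp [mk, mat, Matrix.mul_apply, Fin.sum_univ_three]
    · exact pow_four _ (by simp [mk]; linear_combination two)
  · obtain ⟨w, hw⟩ := exists_omega hF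
    exact ⟨mk 0 1 1 w 0 0 (by linear_combination -two),
      orderOf_eq_prime (pow_five two _ (by simpa [mk] using hw)) (neq 0 0 (by simp [mk, mat]))⟩

theorem range_orderOf [Fintype F] (hF : Fintype.card F = 4) :
    Set.range (orderOf : aff F → ℕ) = Set.range (orderOf : alternatingGroup (Fin 6) → ℕ) := by
  ext n
  trans n ∈ ({1, 2, 3, 4, 5} : Finset ℕ)
  · exact ⟨fun ⟨M, h⟩ => h ▸ orderOf_mem hF M, fun h => exists_orders hF h⟩
  constructor
  · intro hn
    obtain ⟨⟨g2, a2, b2⟩, ⟨g3, a3, b3⟩, ⟨g4, a4, b4⟩, ⟨g5, a5, b5⟩⟩ := AltSixSpectrum.exists_pows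
    haveI : Fact (Nat.Prime 5) := ⟨by norm_num⟩
    simp only [Finset.mem_insert, Finset.mem_singleton] at hn
    rcases hn with rfl | rfl | rfl | rfl | rfl
    · exact ⟨1, orderOf_one⟩
    · exact ⟨g2, orderOf_eq_prime a2 b2⟩
    · exact ⟨g3, orderOf_eq_prime a3 b3⟩
    · exact ⟨g4, by
        rw [show (4 : ℕ) = 2 ^ (1 + 1) by norm_num]
        exact orderOf_eq_prime_pow (by simpa using b4) (by simpa using a4)⟩
    · exact ⟨g5, orderOf_eq_prime a5 b5⟩
  · rintro ⟨g, rfl⟩
    rcases AltSixSpectrum.exponents g with h | h | h | h | h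
    · simp [h]
    · rcases (Nat.dvd_prime (by norm_num)).mp (orderOf_dvd_of_pow_eq_one h) with e | e <;> simp [e]
    · rcases (Nat.dvd_prime (by norm_num)).mp (orderOf_dvd_of_pow_eq_one h) with e | e <;> simp [e]
    · have : orderOf g ∈ Nat.divisors 4 := Nat.mem_divisors.mpr ⟨orderOf_dvd_of_pow_eq_one h, by norm_num⟩
      rw [show Nat.divisors 4 = {1, 2, 4} from by decide] at this
      simp only [Finset.mem_insert, Finset.mem_singleton] at this ⊢
      omega
    · rcases (Nat.dvd_prime (by norm_num)).mp (orderOf_dvd_of_pow_eq_one h) with e | e <;> simp [e]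

end CfsgLib.Recognition.AffineSL24
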