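import Mathlib

namespace CfsgLib.Recognition.AltFiveSpectrum

lemma exponents : ∀ g : alternatingGroup (Fin 5), g = 1 ∨ g ^ 2 = 1 ∨ g ^ 3 = 1 ∨ g ^ 5 = 1 := by
  decide +kernel

lemma orderOf_mem (g : alternatingGroup (Fin 5)) : orderOf g ∈ ({1, 2, 3, 5} : Finset ℕ) := by
  rcases exponents g with h | h | h | h
  · simp [h]
  all_goals
    have := orderOf_dvd_iff_pow_eq_one.mpr h
    rcases (Nat.dvd_prime (by norm_num)).mp this with h' | h' <;> simp [h']

instance fact_prime_five : Fact (Nat.Prime 5) := ⟨by norm_num⟩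

lemma exists_two : ∃ g : alternatingGroup (Fin 5), orderOf g = 2 := by
  have : ∃ g : alternatingGroup (Fin 5), g ^ 2 = 1 ∧ g ≠ 1 := by decide +kernel
  obtain ⟨g, h1, h2⟩ := this
  exact ⟨g, orderOf_eq_prime h1 h2⟩

lemma exists_three : ∃ g : alternatingGroup (Fin 5), orderOf g = 3 := by
  have : ∃ g : alternatingGroup (Fin 5), g ^ 3 = 1 ∧ g ≠ 1 := by decide +kernel
  obtain ⟨g, h1, h2⟩ := this
  exact ⟨g, orderOf_eq_prime h1 h2⟩

lemma exists_five : ∃ g : alternatingGroup (Fin 5), orderOf g = 5 := by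
  have : ∃ g : alternatingGroup (Fin 5), g ^ 5 = 1 ∧ g ≠ 1 := by decide +kernel
  obtain ⟨g, h1, h2⟩ := this
  exact ⟨g, orderOf_eq_prime h1 h2⟩

lemma exists_of_mem {n : ℕ} (hn : n ∈ ({1, 2, 3, 5} : Finset ℕ)) :
    ∃ g : alternatingGroup (Fin 5), orderOf g = n := by
  simp only [Finset.mem_insert, Finset.mem_singleton] at hn
  rcases hn with rfl | rfl | rfl | rfl
  · exact ⟨1, orderOf_one⟩
  · exact exists_two
  · exact exists_three
  · exact exists_five

end CfsgLib.Recognition.AltFiveSpectrum
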