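import Mathlib

/-! The element orders of the alternating group of degree 10. -/

namespace CfsgLib.Recognition.AltTenSpectrum

/-- The element orders of `A₁₀`. -/
def spec : Finset ℕ := {1, 2, 3, 4, 5, 6, 7, 8, 9, 10, 12, 15, 21}

/-- Search over lists of parts: the parity is even only when the running lcm is in `spec`. -/
def check : ℕ → ℕ → ℕ → ℕ → Bool
  | 0, _, l, s => decide (s % 2 = 0 → l ∈ spec)
  | f + 1, b, l, s => decide (s % 2 = 0 → l ∈ spec) &&
      (List.range (b + 1)).all (fun a => decide (a < 2) || check f (b - a) (Nat.lcm a l) (s + a + 1))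

theorem check_ten : check 5 10 1 0 = true := by decide +kernel

theorem lcm_mem_of_check (m : Multiset ℕ) : ∀ f b l s, check f b l s = true → m.sum ≤ b →
    Multiset.card m ≤ f → (∀ a ∈ m, 2 ≤ a) → (s + m.sum + Multiset.card m) % 2 = 0 →
      Nat.lcm m.lcm l ∈ spec := by
  induction m using Multiset.induction_on with
  | empty =>
    intro f b l s h _ _ _ hpar
    rw [Multiset.lcm_zero, Nat.lcm_one_left]
    simp only [Multiset.sum_zero, Multiset.card_zero, add_zero] at hpar
    cases f <;> simp only [check, Bool.and_eq_true, decide_eq_true_eq] at h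
    · exact h hpar
    · exact h.1 hpar
  | cons a m ih =>
    intro f b l s h hb hf h2 hpar
    rw [Multiset.sum_cons] at hb hpar
    rw [Multiset.card_cons] at hf hpar
    obtain ⟨f, rfl⟩ : ∃ g, f = g + 1 := ⟨f - 1, by omega⟩
    simp only [check, Bool.and_eq_true, List.all_eq_true, List.mem_range, Bool.or_eq_true,
      decide_eq_true_eq] at h
    have ha : 2 ≤ a := h2 a (Multiset.mem_cons_self a m)
    have := ih f (b - a) (Nat.lcm a l) (s + a + 1) ((h.2 a (by omega)).resolve_left (by omega))
      (by omega) (by omega) (fun x hx => h2 x (Multiset.mem_cons_of_mem hx)) (by omega)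
    rw [Multiset.lcm_cons]
    change Nat.lcm (Nat.lcm a m.lcm) l ∈ spec
    rwa [Nat.lcm_comm a m.lcm, Nat.lcm_assoc]

theorem orderOf_mem (g : alternatingGroup (Fin 10)) : orderOf g ∈ spec := by
  rw [← Subgroup.orderOf_coe, ← Equiv.Perm.lcm_cycleType]
  have h := Equiv.Perm.mem_alternatingGroup.mp g.2
  rw [Equiv.Perm.sign_of_cycleType, neg_one_pow_eq_one_iff_even (by decide)] at h
  have h2 : ∀ a ∈ (g : Equiv.Perm (Fin 10)).cycleType, 2 ≤ a := fun a ha =>
    Equiv.Perm.two_le_of_mem_cycleType ha
  have hs : (g : Equiv.Perm (Fin 10)).cycleType.sum ≤ 10 := by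
    rw [Equiv.Perm.sum_cycleType]
    exact (Finset.card_le_univ _).trans (Fintype.card_fin 10).le
  have hc := Multiset.card_nsmul_le_sum h2
  rw [smul_eq_mul] at hc
  have := lcm_mem_of_check _ 5 10 1 0 check_ten hs (by omega) h2
    (by rw [zero_add]; exact Nat.even_iff.mp h)
  rwa [Nat.lcm_one_right] at this

theorem exists_of_cycleType (m : List ℕ) (hm : m.sum ≤ 10) (h2 : ∀ a ∈ m, 2 ≤ a)
    (hpar : Even (m.sum + m.length)) :
    ∃ g : alternatingGroup (Fin 10), orderOf g = (m : Multiset ℕ).lcm := by
  obtain ⟨σ, hσ⟩ := (Equiv.Perm.exists_with_cycleType_iff (α := Fin 10) (m := (m : Multiset ℕ))).mpr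
    ⟨by simpa using hm, fun a ha => h2 a (Multiset.mem_coe.mp ha)⟩
  refine ⟨⟨σ, ?_⟩, ?_⟩
  · rw [Equiv.Perm.mem_alternatingGroup, Equiv.Perm.sign_of_cycleType, hσ]
    exact Even.neg_one_pow (by simpa using hpar)
  · rw [Subgroup.orderOf_mk, ← Equiv.Perm.lcm_cycleType, hσ]

theorem exists_orderOf {n : ℕ} (hn : n ∈ spec) : ∃ g : alternatingGroup (Fin 10), orderOf g = n := by
  simp only [spec, Finset.mem_insert, Finset.mem_singleton] at hn
  rcases hn with rfl | rfl | rfl | rfl | rfl | rfl | rfl | rfl | rfl | rfl | rfl | rfl | rfl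
  · exact exists_of_cycleType [] (by decide) (by decide) (by decide)
  · exact exists_of_cycleType [2, 2] (by decide) (by decide) (by decide)
  · exact exists_of_cycleType [3] (by decide) (by decide) (by decide)
  · exact exists_of_cycleType [4, 2] (by decide) (by decide) (by decide)
  · exact exists_of_cycleType [5] (by decide) (by decide) (by decide)
  · exact exists_of_cycleType [3, 2, 2] (by decide) (by decide) (by decide)
  · exact exists_of_cycleType [7] (by decide) (by decide) (by decide)
  · exact exists_of_cycleType [8, 2] (by decide) (by decide) (by decide)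
  · exact exists_of_cycleType [9] (by decide) (by decide) (by decide)
  · exact exists_of_cycleType [5, 2, 2] (by decide) (by decide) (by decide)
  · exact exists_of_cycleType [4, 3, 2] (by decide) (by decide) (by decide)
  · exact exists_of_cycleType [5, 3] (by decide) (by decide) (by decide)
  · exact exists_of_cycleType [7, 3] (by decide) (by decide) (by decide)

theorem range_orderOf : Set.range (orderOf : alternatingGroup (Fin 10) → ℕ) = ↑spec := by
  ext n
  exact ⟨fun ⟨g, h⟩ => h ▸ orderOf_mem g, fun h => exists_orderOf h⟩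

end CfsgLib.Recognition.AltTenSpectrum
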