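import Mathlib

/-!
The 240 elements of a group of shape 2.S5 (one involution) inside GL(4,7), as tuples of naturals.
Generated by a computer search; every property used is checked by the kernel in `BinaryS5`.
-/

namespace CfsgLib.Recognition.BinaryS5

/-- A row of four natural numbers. -/
abbrev Row : Type := ℕ × ℕ × ℕ × ℕ

/-- A 4 × 4 array of natural numbers. -/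
abbrev M4 : Type := Row × Row × Row × Row

/-- First generator (order 12). -/
def genA : M4 := ((5, 4, 5, 6), (4, 2, 6, 2), (6, 0, 2, 6), (0, 1, 6, 5))

/-- Second generator (order 10). -/
def genB : M4 := ((4, 0, 0, 1), (0, 4, 6, 0), (6, 1, 0, 5), (6, 6, 2, 0))

/-- All products of the generators. -/
def elements : List M4 := [
  ((1, 0, 0, 0), (0, 1, 0, 0), (0, 0, 1, 0), (0, 0, 0, 1)),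
  ((5, 4, 5, 6), (4, 2, 6, 2), (6, 0, 2, 6), (0, 1, 6, 5)),
  ((4, 0, 0, 1), (0, 4, 6, 0), (6, 1, 0, 5), (6, 6, 2, 0)),
  ((1, 6, 4, 0), (1, 1, 0, 4), (0, 2, 0, 1), (5, 0, 6, 0)),
  ((2, 1, 1, 2), (1, 5, 2, 6), (2, 3, 5, 2), (3, 5, 2, 2)),
  ((6, 3, 5, 1), (3, 1, 1, 2), (6, 3, 3, 0), (3, 1, 0, 4)),
  ((1, 6, 2, 4), (1, 1, 3, 2), (5, 6, 2, 6), (1, 5, 1, 2)),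
  ((4, 2, 0, 0), (2, 3, 0, 0), (1, 5, 4, 2), (5, 6, 2, 3)),
  ((0, 0, 1, 0), (0, 0, 0, 1), (6, 0, 0, 0), (0, 6, 0, 0)),
  ((6, 5, 2, 2), (2, 6, 5, 2), (3, 2, 1, 2), (5, 3, 5, 1)),
  ((5, 3, 3, 0), (3, 2, 0, 4), (1, 1, 1, 6), (1, 6, 6, 6)),
  ((2, 3, 1, 0), (4, 2, 0, 1), (4, 2, 5, 4), (5, 4, 3, 5)),
  ((4, 2, 6, 3), (2, 3, 3, 1), (0, 1, 4, 0), (1, 0, 0, 3)),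
  ((6, 6, 6, 1), (6, 1, 1, 1), (5, 3, 3, 0), (3, 2, 0, 4)),
  ((5, 1, 2, 4), (6, 5, 3, 2), (5, 6, 6, 1), (1, 5, 6, 6)),
  ((0, 6, 4, 0), (1, 0, 0, 4), (0, 2, 6, 1), (5, 0, 6, 6)),
  ((2, 1, 5, 4), (1, 5, 4, 2), (5, 1, 6, 0), (1, 2, 0, 1)),
  ((6, 0, 2, 6), (0, 1, 6, 5), (2, 3, 2, 1), (3, 5, 1, 5)),
  ((6, 1, 0, 5), (6, 6, 2, 0), (3, 0, 0, 6), (0, 3, 1, 0)),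
  ((6, 1, 6, 5), (1, 1, 5, 1), (1, 4, 6, 3), (4, 6, 3, 1)),
  ((6, 6, 6, 2), (1, 6, 5, 6), (2, 0, 2, 1), (0, 2, 6, 2)),
  ((6, 5, 0, 5), (2, 6, 2, 0), (1, 5, 0, 2), (2, 1, 5, 0)),
  ((3, 1, 4, 6), (1, 4, 6, 3), (4, 6, 4, 6), (6, 3, 6, 3)),
  ((0, 0, 2, 3), (0, 0, 3, 5), (2, 3, 3, 1), (3, 5, 1, 4)),
  ((1, 2, 6, 2), (5, 1, 5, 6), (0, 2, 0, 5), (5, 0, 2, 0)),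
  ((0, 4, 4, 6), (4, 0, 6, 3), (3, 1, 6, 6), (1, 4, 6, 1)),
  ((6, 2, 0, 5), (5, 6, 2, 0), (6, 5, 0, 5), (2, 6, 2, 0)),
  ((3, 1, 3, 1), (1, 4, 1, 4), (3, 1, 4, 6), (1, 4, 6, 3)),
  ((6, 5, 3, 1), (5, 1, 1, 4), (1, 5, 2, 6), (5, 6, 6, 5)),
  ((0, 2, 0, 1), (5, 0, 6, 0), (6, 1, 3, 0), (6, 6, 0, 3)),
  ((6, 5, 2, 1), (5, 1, 1, 5), (2, 5, 2, 3), (5, 5, 3, 5)),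
  ((3, 0, 1, 6), (0, 3, 1, 1), (0, 6, 0, 2), (1, 0, 5, 0)),
  ((2, 0, 1, 1), (0, 2, 6, 1), (2, 1, 1, 5), (6, 2, 2, 1)),
  ((6, 5, 0, 6), (5, 1, 6, 0), (0, 3, 6, 0), (3, 0, 0, 1)),
  ((2, 3, 5, 2), (3, 5, 2, 2), (5, 6, 6, 5), (6, 2, 5, 1)),
  ((6, 3, 3, 0), (3, 1, 0, 4), (1, 4, 2, 6), (4, 6, 6, 5)),
  ((5, 6, 2, 6), (1, 5, 1, 2), (6, 1, 5, 3), (6, 6, 4, 5)),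
  ((0, 3, 1, 1), (4, 0, 6, 1), (1, 1, 3, 2), (6, 1, 5, 3)),
  ((6, 3, 6, 3), (3, 1, 3, 1), (1, 2, 6, 1), (2, 6, 1, 1)),
  ((2, 0, 5, 1), (0, 2, 6, 5), (5, 1, 2, 5), (6, 5, 2, 2)),
  ((1, 4, 6, 1), (4, 6, 1, 1), (4, 2, 5, 5), (2, 3, 5, 2)),
  ((5, 1, 5, 6), (6, 5, 1, 5), (2, 4, 6, 1), (3, 2, 6, 6)),
  ((2, 2, 4, 2), (2, 5, 2, 3), (6, 1, 6, 3), (1, 1, 3, 1)),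
  ((5, 3, 1, 6), (4, 5, 1, 1), (5, 1, 5, 6), (6, 5, 1, 5)),
  ((2, 6, 6, 3), (6, 5, 3, 1), (4, 0, 6, 3), (0, 3, 3, 1)),
  ((0, 3, 6, 0), (3, 0, 0, 1), (1, 2, 0, 1), (2, 6, 1, 0)),
  ((3, 5, 2, 3), (2, 3, 4, 2), (2, 3, 1, 0), (4, 2, 0, 1)),
  ((5, 0, 5, 6), (0, 5, 1, 5), (6, 6, 6, 2), (1, 6, 5, 6)),
  ((4, 0, 1, 6), (0, 3, 6, 6), (0, 4, 4, 5), (4, 0, 5, 3)),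
  ((3, 5, 2, 2), (5, 4, 2, 5), (1, 4, 6, 1), (4, 6, 1, 1)),
  ((2, 1, 5, 1), (6, 2, 6, 5), (1, 6, 2, 4), (1, 1, 3, 2)),
  ((1, 6, 1, 4), (6, 6, 4, 6), (2, 2, 4, 2), (2, 5, 2, 3)),
  ((5, 0, 2, 6), (0, 5, 1, 2), (2, 6, 5, 2), (1, 2, 5, 5)),
  ((6, 1, 4, 0), (1, 1, 0, 3), (3, 2, 0, 4), (2, 4, 4, 0)),
  ((1, 5, 4, 2), (5, 6, 2, 3), (3, 5, 0, 0), (5, 4, 0, 0)),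
  ((6, 0, 0, 0), (0, 6, 0, 0), (0, 0, 6, 0), (0, 0, 0, 6)),
  ((0, 0, 4, 2), (0, 0, 2, 3), (3, 5, 1, 5), (5, 4, 5, 6)),
  ((0, 4, 4, 5), (4, 0, 5, 3), (3, 0, 6, 1), (0, 4, 1, 1)),
  ((5, 2, 5, 1), (5, 5, 6, 5), (5, 1, 5, 0), (6, 5, 0, 5)),
  ((6, 0, 2, 0), (0, 6, 0, 2), (2, 0, 2, 0), (0, 2, 0, 2)),
  ((1, 5, 5, 6), (2, 1, 1, 5), (6, 6, 2, 0), (1, 6, 0, 2)),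
  ((4, 0, 0, 6), (0, 3, 6, 0), (1, 4, 4, 2), (4, 6, 2, 3)),
  ((3, 2, 1, 2), (5, 3, 5, 1), (1, 2, 5, 5), (5, 1, 2, 5)),
  ((1, 1, 1, 6), (1, 6, 6, 6), (2, 4, 4, 0), (4, 5, 0, 3)),
  ((4, 2, 5, 4), (5, 4, 3, 5), (5, 4, 6, 0), (3, 5, 0, 6)),
  ((0, 1, 4, 0), (1, 0, 0, 3), (3, 5, 1, 4), (5, 4, 4, 6)),
  ((5, 6, 6, 1), (1, 5, 6, 6), (2, 6, 5, 3), (1, 2, 4, 5)),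
  ((4, 0, 5, 3), (0, 3, 3, 2), (6, 1, 1, 1), (1, 1, 1, 6)),
  ((5, 5, 6, 5), (2, 5, 2, 6), (6, 5, 3, 2), (2, 6, 5, 3)),
  ((1, 5, 1, 2), (2, 1, 5, 1), (0, 2, 0, 2), (5, 0, 5, 0)),
  ((1, 1, 3, 1), (1, 6, 1, 4), (4, 6, 0, 3), (6, 3, 3, 0)),
  ((5, 2, 5, 5), (2, 2, 5, 2), (6, 6, 2, 6), (6, 1, 6, 5)),
  ((2, 4, 2, 6), (3, 2, 1, 2), (6, 1, 2, 1), (6, 6, 6, 2)),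
  ((1, 6, 5, 6), (1, 1, 1, 5), (2, 4, 2, 6), (3, 2, 1, 2)),
  ((3, 0, 0, 1), (0, 4, 1, 0), (6, 3, 3, 5), (3, 1, 5, 4)),
  ((2, 3, 4, 2), (4, 2, 5, 4), (1, 0, 5, 4), (0, 1, 3, 5)),
  ((0, 0, 0, 1), (0, 0, 6, 0), (0, 1, 3, 5), (6, 0, 2, 3)),
  ((2, 3, 2, 1), (3, 5, 1, 5), (1, 0, 5, 1), (0, 6, 1, 2)),
  ((1, 4, 4, 2), (4, 6, 2, 3), (3, 0, 0, 1), (0, 4, 1, 0)),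
  ((6, 0, 2, 3), (0, 6, 4, 2), (2, 3, 4, 2), (4, 2, 5, 4)),
  ((0, 2, 6, 5), (5, 0, 2, 6), (0, 5, 1, 5), (2, 0, 2, 1)),
  ((6, 6, 0, 4), (6, 1, 4, 0), (0, 3, 6, 6), (3, 0, 6, 1)),
  ((6, 6, 2, 0), (1, 6, 0, 2), (6, 2, 2, 1), (5, 6, 6, 2)),
  ((5, 4, 4, 6), (4, 2, 6, 3), (0, 0, 2, 3), (0, 0, 3, 5)),
  ((0, 5, 1, 6), (2, 0, 1, 1), (0, 6, 4, 0), (1, 0, 0, 4)),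
  ((6, 5, 1, 6), (5, 1, 6, 6), (6, 3, 6, 3), (3, 1, 3, 1)),
  ((2, 6, 5, 2), (1, 2, 5, 5), (2, 0, 5, 1), (0, 2, 6, 5)),
  ((2, 2, 5, 2), (2, 5, 2, 2), (5, 1, 6, 6), (1, 2, 6, 1)),
  ((5, 3, 5, 1), (4, 5, 6, 5), (1, 6, 5, 6), (1, 1, 1, 5)),
  ((1, 6, 6, 6), (6, 6, 6, 1), (4, 0, 5, 3), (0, 3, 3, 2)),
  ((2, 4, 4, 0), (4, 5, 0, 3), (6, 6, 6, 1), (6, 1, 1, 1)),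
  ((2, 1, 1, 6), (6, 2, 1, 1), (5, 1, 2, 4), (6, 5, 3, 2)),
  ((0, 6, 4, 2), (1, 0, 5, 4), (0, 0, 0, 1), (0, 0, 6, 0)),
  ((2, 5, 2, 2), (5, 5, 2, 5), (1, 1, 5, 1), (1, 6, 1, 2)),
  ((2, 5, 2, 6), (2, 2, 1, 2), (2, 6, 2, 0), (1, 2, 0, 2)),
  ((0, 2, 6, 1), (5, 0, 6, 6), (0, 1, 3, 0), (6, 0, 0, 3)),
  ((5, 1, 6, 0), (1, 2, 0, 1), (5, 6, 2, 3), (6, 2, 3, 5)),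
  ((3, 0, 0, 6), (0, 3, 1, 0), (1, 6, 0, 2), (1, 1, 5, 0)),
  ((3, 2, 6, 6), (5, 3, 1, 6), (6, 6, 0, 3), (1, 6, 4, 0)),
  ((1, 2, 4, 6), (2, 6, 6, 3), (6, 2, 5, 1), (2, 1, 1, 2)),
  ((5, 1, 6, 6), (1, 2, 6, 1), (5, 5, 2, 5), (5, 2, 5, 5)),
  ((0, 5, 0, 2), (2, 0, 5, 0), (1, 2, 6, 2), (5, 1, 5, 6)),
  ((0, 3, 6, 6), (3, 0, 6, 1), (1, 1, 0, 3), (1, 6, 3, 0)),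
  ((1, 2, 0, 2), (5, 1, 5, 0), (6, 2, 0, 5), (5, 6, 2, 0)),
  ((6, 6, 4, 6), (6, 1, 6, 3), (3, 1, 0, 4), (1, 4, 4, 0)),
  ((0, 5, 0, 5), (2, 0, 2, 0), (1, 5, 1, 2), (2, 1, 5, 1)),
  ((3, 1, 5, 4), (1, 4, 4, 2), (5, 4, 0, 0), (4, 2, 0, 0)),
  ((1, 4, 6, 3), (4, 6, 3, 1), (1, 6, 1, 2), (6, 6, 2, 6)),
  ((2, 0, 2, 1), (0, 2, 6, 2), (1, 1, 1, 5), (6, 1, 2, 1)),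
  ((1, 5, 0, 2), (2, 1, 5, 0), (1, 2, 0, 2), (5, 1, 5, 0)),
  ((4, 6, 4, 6), (6, 3, 6, 3), (4, 6, 3, 1), (6, 3, 1, 4)),
  ((2, 3, 3, 1), (3, 5, 1, 4), (0, 0, 5, 4), (0, 0, 4, 2)),
  ((0, 2, 0, 5), (5, 0, 2, 0), (6, 5, 1, 5), (2, 6, 2, 1)),
  ((3, 1, 6, 6), (1, 4, 6, 1), (0, 3, 3, 1), (3, 0, 1, 4)),
  ((1, 5, 2, 6), (5, 6, 6, 5), (1, 2, 4, 6), (2, 6, 6, 3)),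
  ((6, 1, 3, 0), (6, 6, 0, 3), (0, 5, 0, 6), (2, 0, 1, 0)),
  ((1, 5, 6, 6), (2, 1, 1, 6), (5, 6, 2, 0), (1, 5, 0, 2)),
  ((1, 2, 6, 1), (2, 6, 1, 1), (1, 4, 1, 4), (4, 6, 4, 6)),
  ((4, 0, 6, 3), (0, 3, 3, 1), (5, 1, 1, 4), (1, 2, 4, 6)),
  ((2, 0, 5, 0), (0, 2, 0, 5), (5, 0, 6, 0), (0, 5, 0, 6)),
  ((3, 2, 0, 4), (2, 4, 4, 0), (1, 6, 3, 0), (6, 6, 0, 4)),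
  ((0, 6, 1, 2), (6, 0, 2, 6), (6, 0, 0, 4), (0, 1, 4, 0)),
  ((0, 1, 0, 5), (6, 0, 2, 0), (3, 0, 1, 6), (0, 3, 1, 1)),
  ((3, 1, 1, 2), (1, 4, 2, 6), (2, 6, 6, 2), (6, 5, 2, 1)),
  ((0, 5, 1, 5), (2, 0, 2, 1), (0, 5, 1, 2), (2, 0, 5, 1)),
  ((1, 6, 0, 2), (1, 1, 5, 0), (4, 0, 0, 1), (0, 4, 6, 0)),
  ((4, 6, 2, 3), (6, 3, 3, 5), (2, 3, 0, 0), (3, 5, 0, 0)),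
  ((0, 1, 6, 5), (1, 0, 5, 1), (1, 0, 0, 3), (0, 6, 3, 0)),
  ((5, 6, 6, 5), (6, 2, 5, 1), (5, 4, 2, 5), (4, 2, 5, 5)),
  ((5, 4, 0, 0), (4, 2, 0, 0), (4, 6, 2, 3), (6, 3, 3, 5)),
  ((0, 6, 3, 0), (6, 0, 0, 4), (4, 2, 6, 3), (2, 3, 3, 1)),
  ((5, 6, 6, 2), (1, 5, 5, 6), (2, 0, 1, 1), (0, 2, 6, 1)),
  ((6, 6, 2, 6), (6, 1, 6, 5), (2, 5, 2, 2), (5, 5, 2, 5)),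
  ((3, 1, 0, 4), (1, 4, 4, 0), (1, 1, 3, 1), (1, 6, 1, 4)),
  ((2, 6, 2, 1), (1, 2, 6, 2), (5, 3, 1, 6), (4, 5, 1, 1)),
  ((3, 0, 1, 4), (0, 4, 4, 6), (2, 6, 6, 3), (6, 5, 3, 1)),
  ((5, 2, 5, 4), (2, 2, 4, 2), (6, 5, 2, 1), (5, 1, 1, 5)),
  ((1, 1, 5, 1), (1, 6, 1, 2), (5, 2, 5, 5), (2, 2, 5, 2)),
  ((1, 4, 2, 6), (4, 6, 6, 5), (1, 4, 4, 0), (4, 6, 0, 3)),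
  ((4, 6, 3, 1), (6, 3, 1, 4), (3, 1, 3, 1), (1, 4, 1, 4)),
  ((0, 2, 6, 2), (5, 0, 5, 6), (0, 2, 6, 5), (5, 0, 2, 6)),
  ((2, 1, 5, 0), (6, 2, 0, 5), (1, 5, 6, 6), (2, 1, 1, 6)),
  ((6, 2, 5, 1), (2, 1, 1, 2), (6, 5, 3, 1), (5, 1, 1, 4)),
  ((6, 0, 0, 4), (0, 1, 4, 0), (0, 1, 6, 5), (1, 0, 5, 1)),
  ((0, 6, 0, 2), (1, 0, 5, 0), (4, 0, 6, 1), (0, 4, 6, 6)),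
  ((4, 6, 6, 5), (6, 3, 5, 1), (5, 1, 1, 5), (1, 2, 5, 6)),
  ((0, 3, 3, 1), (3, 0, 1, 4), (4, 6, 1, 1), (6, 3, 1, 6)),
  ((2, 5, 2, 3), (5, 5, 3, 5), (1, 2, 5, 6), (2, 6, 6, 2)),
  ((2, 1, 1, 5), (6, 2, 2, 1), (5, 0, 6, 6), (0, 5, 1, 6)),
  ((6, 1, 5, 3), (6, 6, 4, 5), (2, 1, 5, 1), (6, 2, 6, 5)),
  ((0, 1, 3, 5), (6, 0, 2, 3), (0, 0, 0, 6), (0, 0, 1, 0)),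
  ((1, 6, 3, 0), (6, 6, 0, 4), (4, 5, 0, 3), (5, 3, 3, 0)),
  ((2, 0, 2, 0), (0, 2, 0, 2), (1, 0, 5, 0), (0, 1, 0, 5)),
  ((1, 4, 4, 0), (4, 6, 0, 3), (6, 3, 5, 1), (3, 1, 1, 2)),
  ((5, 4, 6, 0), (3, 5, 0, 6), (3, 5, 2, 3), (2, 3, 4, 2)),
  ((6, 5, 3, 2), (2, 6, 5, 3), (2, 2, 1, 2), (5, 2, 5, 1)),
  ((6, 3, 1, 6), (3, 1, 6, 6), (3, 5, 2, 2), (5, 4, 2, 5)),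
  ((1, 0, 5, 4), (0, 1, 3, 5), (5, 4, 3, 5), (3, 5, 2, 3)),
  ((0, 4, 6, 0), (3, 0, 0, 6), (6, 0, 0, 3), (0, 6, 4, 0)),
  ((3, 5, 0, 0), (5, 4, 0, 0), (6, 2, 3, 5), (2, 1, 5, 4)),
  ((1, 1, 3, 2), (6, 1, 5, 3), (0, 4, 6, 6), (3, 0, 1, 6)),
  ((5, 1, 2, 5), (6, 5, 2, 2), (5, 0, 2, 6), (0, 5, 1, 2)),
  ((4, 2, 5, 5), (2, 3, 5, 2), (6, 3, 1, 6), (3, 1, 6, 6)),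
  ((2, 4, 6, 1), (3, 2, 6, 6), (2, 6, 2, 1), (1, 2, 6, 2)),
  ((6, 1, 6, 3), (1, 1, 3, 1), (5, 5, 3, 5), (5, 2, 5, 4)),
  ((1, 2, 0, 1), (2, 6, 1, 0), (0, 4, 1, 0), (4, 0, 0, 6)),
  ((0, 0, 6, 0), (0, 0, 0, 6), (1, 0, 0, 0), (0, 1, 0, 0)),
  ((6, 6, 0, 3), (1, 6, 4, 0), (4, 5, 1, 1), (2, 4, 6, 1)),
  ((0, 2, 0, 2), (5, 0, 5, 0), (6, 2, 6, 5), (5, 6, 2, 6)),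
  ((4, 6, 0, 3), (6, 3, 3, 0), (6, 6, 4, 6), (6, 1, 6, 3)),
  ((3, 5, 0, 6), (2, 3, 1, 0), (0, 6, 0, 0), (1, 0, 0, 0)),
  ((2, 6, 2, 0), (1, 2, 0, 2), (5, 2, 5, 1), (5, 5, 6, 5)),
  ((2, 0, 1, 0), (0, 2, 0, 1), (2, 0, 5, 0), (0, 2, 0, 5)),
  ((4, 2, 0, 1), (5, 4, 6, 0), (0, 1, 0, 0), (6, 0, 0, 0)),
  ((1, 2, 5, 5), (5, 1, 2, 5), (4, 5, 6, 5), (2, 4, 2, 6)),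
  ((0, 3, 1, 0), (4, 0, 0, 1), (1, 0, 0, 4), (0, 1, 3, 0)),
  ((5, 0, 6, 0), (0, 5, 0, 6), (5, 0, 2, 0), (0, 5, 0, 2)),
  ((6, 0, 0, 3), (0, 6, 4, 0), (0, 3, 1, 0), (4, 0, 0, 1)),
  ((6, 2, 3, 5), (2, 1, 5, 4), (4, 2, 0, 0), (2, 3, 0, 0)),
  ((4, 6, 1, 1), (6, 3, 1, 6), (0, 4, 4, 6), (4, 0, 6, 3)),
  ((5, 0, 5, 0), (0, 5, 0, 5), (6, 0, 2, 0), (0, 6, 0, 2)),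
  ((2, 6, 6, 2), (6, 5, 2, 1), (4, 6, 6, 5), (6, 3, 5, 1)),
  ((5, 4, 3, 5), (3, 5, 2, 3), (6, 0, 2, 3), (0, 6, 4, 2)),
  ((1, 0, 0, 3), (0, 6, 3, 0), (0, 6, 1, 2), (6, 0, 2, 6)),
  ((0, 4, 1, 1), (4, 0, 1, 6), (6, 6, 0, 4), (6, 1, 4, 0)),
  ((4, 2, 6, 2), (2, 3, 2, 1), (0, 0, 4, 2), (0, 0, 2, 3)),
  ((4, 0, 6, 1), (0, 4, 6, 6), (0, 1, 0, 5), (6, 0, 2, 0)),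
  ((5, 1, 1, 5), (1, 2, 5, 6), (3, 1, 1, 2), (1, 4, 2, 6)),
  ((3, 5, 1, 4), (5, 4, 4, 6), (0, 6, 3, 0), (6, 0, 0, 4)),
  ((5, 5, 3, 5), (5, 2, 5, 4), (1, 6, 1, 4), (6, 6, 4, 6)),
  ((2, 6, 1, 1), (6, 5, 1, 6), (2, 2, 5, 2), (2, 5, 2, 2)),
  ((4, 5, 0, 3), (5, 3, 3, 0), (6, 1, 4, 0), (1, 1, 0, 3)),
  ((3, 0, 6, 1), (0, 4, 1, 1), (0, 3, 3, 2), (3, 0, 2, 4)),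
  ((5, 1, 5, 0), (6, 5, 0, 5), (2, 5, 2, 6), (2, 2, 1, 2)),
  ((3, 5, 1, 5), (5, 4, 5, 6), (0, 0, 3, 5), (0, 0, 5, 4)),
  ((2, 6, 5, 3), (1, 2, 4, 5), (2, 1, 1, 6), (6, 2, 1, 1)),
  ((6, 2, 2, 1), (5, 6, 6, 2), (1, 1, 5, 0), (6, 1, 0, 5)),
  ((1, 6, 1, 2), (6, 6, 2, 6), (6, 3, 1, 4), (3, 1, 4, 6)),
  ((1, 1, 0, 3), (1, 6, 3, 0), (0, 4, 1, 1), (4, 0, 1, 6)),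
  ((0, 0, 5, 4), (0, 0, 4, 2), (5, 4, 4, 6), (4, 2, 6, 3)),
  ((0, 1, 3, 0), (6, 0, 0, 3), (0, 5, 1, 6), (2, 0, 1, 1)),
  ((5, 1, 1, 4), (1, 2, 4, 6), (3, 0, 1, 4), (0, 4, 4, 6)),
  ((6, 1, 2, 1), (6, 6, 6, 2), (5, 3, 5, 1), (4, 5, 6, 5)),
  ((3, 0, 2, 4), (0, 4, 4, 5), (1, 6, 6, 6), (6, 6, 6, 1)),
  ((5, 6, 2, 3), (6, 2, 3, 5), (2, 6, 1, 0), (6, 5, 0, 6)),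
  ((6, 1, 1, 1), (1, 1, 1, 6), (3, 0, 2, 4), (0, 4, 4, 5)),
  ((6, 3, 3, 5), (3, 1, 5, 4), (4, 0, 0, 6), (0, 3, 6, 0)),
  ((1, 0, 5, 1), (0, 6, 1, 2), (5, 4, 5, 6), (4, 2, 6, 2)),
  ((0, 0, 0, 6), (0, 0, 1, 0), (0, 6, 4, 2), (1, 0, 5, 4)),
  ((5, 6, 2, 0), (1, 5, 0, 2), (6, 2, 1, 1), (5, 6, 6, 1)),
  ((6, 5, 1, 5), (2, 6, 2, 1), (0, 5, 0, 2), (2, 0, 5, 0)),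
  ((0, 1, 0, 0), (6, 0, 0, 0), (3, 5, 0, 6), (2, 3, 1, 0)),
  ((0, 0, 3, 5), (0, 0, 5, 4), (4, 2, 6, 2), (2, 3, 2, 1)),
  ((1, 0, 0, 4), (0, 1, 3, 0), (0, 4, 6, 0), (3, 0, 0, 6)),
  ((1, 1, 1, 5), (6, 1, 2, 1), (5, 0, 5, 6), (0, 5, 1, 5)),
  ((6, 6, 4, 5), (1, 6, 2, 4), (0, 3, 1, 1), (4, 0, 6, 1)),
  ((0, 6, 0, 0), (1, 0, 0, 0), (4, 2, 0, 1), (5, 4, 6, 0)),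
  ((0, 4, 6, 6), (3, 0, 1, 6), (6, 6, 4, 5), (1, 6, 2, 4)),
  ((2, 6, 1, 0), (6, 5, 0, 6), (2, 1, 5, 4), (1, 5, 4, 2)),
  ((0, 3, 3, 2), (3, 0, 2, 4), (4, 0, 1, 6), (0, 3, 6, 6)),
  ((5, 0, 6, 6), (0, 5, 1, 6), (5, 6, 6, 2), (1, 5, 5, 6)),
  ((5, 0, 2, 0), (0, 5, 0, 2), (2, 0, 1, 0), (0, 2, 0, 1)),
  ((1, 2, 4, 5), (5, 1, 2, 4), (5, 5, 6, 5), (2, 5, 2, 6)),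
  ((1, 1, 0, 4), (6, 1, 3, 0), (3, 2, 6, 6), (5, 3, 1, 6)),
  ((6, 3, 1, 4), (3, 1, 4, 6), (6, 1, 6, 5), (1, 1, 5, 1)),
  ((5, 5, 2, 5), (5, 2, 5, 5), (2, 6, 1, 1), (6, 5, 1, 6)),
  ((0, 5, 0, 6), (2, 0, 1, 0), (1, 6, 4, 0), (1, 1, 0, 4)),
  ((1, 2, 5, 6), (2, 6, 6, 2), (5, 2, 5, 4), (2, 2, 4, 2)),
  ((2, 2, 1, 2), (5, 2, 5, 1), (1, 2, 4, 5), (5, 1, 2, 4)),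
  ((0, 5, 1, 2), (2, 0, 5, 1), (0, 2, 6, 2), (5, 0, 5, 6)),
  ((6, 2, 1, 1), (5, 6, 6, 1), (2, 1, 5, 0), (6, 2, 0, 5)),
  ((1, 4, 1, 4), (4, 6, 4, 6), (6, 5, 1, 6), (5, 1, 6, 6)),
  ((2, 3, 0, 0), (3, 5, 0, 0), (3, 1, 5, 4), (1, 4, 4, 2)),
  ((5, 4, 2, 5), (4, 2, 5, 5), (2, 1, 1, 2), (1, 5, 2, 6)),
  ((1, 1, 5, 0), (6, 1, 0, 5), (1, 5, 5, 6), (2, 1, 1, 5)),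
  ((4, 5, 1, 1), (2, 4, 6, 1), (1, 1, 0, 4), (6, 1, 3, 0)),
  ((0, 4, 1, 0), (4, 0, 0, 6), (6, 5, 0, 6), (5, 1, 6, 0)),
  ((1, 0, 5, 0), (0, 1, 0, 5), (5, 0, 5, 0), (0, 5, 0, 5)),
  ((4, 5, 6, 5), (2, 4, 2, 6), (6, 5, 2, 2), (2, 6, 5, 2)),
  ((6, 2, 6, 5), (5, 6, 2, 6), (0, 5, 0, 5), (2, 0, 2, 0))]

end CfsgLib.Recognition.BinaryS5
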