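import Mathlib
import Cfsg.Agent.Lib.Recognition.BinaryS5Table

/-!
A group `K` of 4 × 4 matrices over `F₇` of shape `2.S₅` with a single involution, acting without
fixed vectors, with element orders `1, 2, 3, 4, 5, 6, 8, 10, 12`.
-/

namespace CfsgLib.Recognition.BinaryS5

open Matrix

/-- Product of a row with an array, reduced modulo 7. -/
def rowMul (r : Row) (b : M4) : Row :=
  ((r.1 * b.1.1 + r.2.1 * b.2.1.1 + r.2.2.1 * b.2.2.1.1 + r.2.2.2 * b.2.2.2.1) % 7,
   (r.1 * b.1.2.1 + r.2.1 * b.2.1.2.1 + r.2.2.1 * b.2.2.1.2.1 + r.2.2.2 * b.2.2.2.2.1) % 7,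
   (r.1 * b.1.2.2.1 + r.2.1 * b.2.1.2.2.1 + r.2.2.1 * b.2.2.1.2.2.1 + r.2.2.2 * b.2.2.2.2.2.1) % 7,
   (r.1 * b.1.2.2.2 + r.2.1 * b.2.1.2.2.2 + r.2.2.1 * b.2.2.1.2.2.2 + r.2.2.2 * b.2.2.2.2.2.2) % 7)

/-- Product of two arrays, reduced modulo 7. -/
def mul' (a b : M4) : M4 := (rowMul a.1 b, rowMul a.2.1 b, rowMul a.2.2.1 b, rowMul a.2.2.2 b)

/-- Sum of two rows, reduced modulo 7. -/
def rowAdd (r s : Row) : Row :=
  ((r.1 + s.1) % 7, (r.2.1 + s.2.1) % 7, (r.2.2.1 + s.2.2.1) % 7, (r.2.2.2 + s.2.2.2) % 7)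

/-- Sum of two arrays, reduced modulo 7. -/
def add' (a b : M4) : M4 :=
  (rowAdd a.1 b.1, rowAdd a.2.1 b.2.1, rowAdd a.2.2.1 b.2.2.1, rowAdd a.2.2.2 b.2.2.2)

/-- The identity array. -/
def one' : M4 := ((1, 0, 0, 0), (0, 1, 0, 0), (0, 0, 1, 0), (0, 0, 0, 1))

/-- Minus the identity. -/
def neg' : M4 := ((6, 0, 0, 0), (0, 6, 0, 0), (0, 0, 6, 0), (0, 0, 0, 6))

/-- The zero array. -/
def zero' : M4 := ((0, 0, 0, 0), (0, 0, 0, 0), (0, 0, 0, 0), (0, 0, 0, 0))

/-- The matrix of an array. -/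
def toMat (a : M4) : Matrix (Fin 4) (Fin 4) (ZMod 7) :=
  !![(a.1.1 : ZMod 7), a.1.2.1, a.1.2.2.1, a.1.2.2.2;
     a.2.1.1, a.2.1.2.1, a.2.1.2.2.1, a.2.1.2.2.2;
     a.2.2.1.1, a.2.2.1.2.1, a.2.2.1.2.2.1, a.2.2.1.2.2.2;
     a.2.2.2.1, a.2.2.2.2.1, a.2.2.2.2.2.1, a.2.2.2.2.2.2]

theorem toMat_mul (a b : M4) : toMat (mul' a b) = toMat a * toMat b := by
  ext i j
  fin_cases i <;> fin_cases j <;>
    simp [toMat, mul', rowMul, Matrix.mul_apply, Fin.sum_univ_four, ZMod.natCast_mod]

theorem toMat_add (a b : M4) : toMat (add' a b) = toMat a + toMat b := by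
  ext i j
  fin_cases i <;> fin_cases j <;> simp [toMat, add', rowAdd, ZMod.natCast_mod]

theorem toMat_one : toMat one' = 1 := by
  ext i j
  fin_cases i <;> fin_cases j <;> simp [toMat, one']

theorem toMat_zero : toMat zero' = 0 := by
  ext i j
  fin_cases i <;> fin_cases j <;> simp [toMat, zero']

theorem toMat_neg : toMat neg' = -1 := by
  ext i j
  fin_cases i <;> fin_cases j <;> simp [toMat, neg'] <;> decide

/-- Read an array off a matrix. -/
def fromMat (m : Matrix (Fin 4) (Fin 4) (ZMod 7)) : M4 :=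
  (((m 0 0).val, (m 0 1).val, (m 0 2).val, (m 0 3).val), ((m 1 0).val, (m 1 1).val, (m 1 2).val, (m 1 3).val),
   ((m 2 0).val, (m 2 1).val, (m 2 2).val, (m 2 3).val), ((m 3 0).val, (m 3 1).val, (m 3 2).val, (m 3 3).val))

/-- Reduce all entries modulo 7. -/
def reduce (a : M4) : M4 :=
  ((a.1.1 % 7, a.1.2.1 % 7, a.1.2.2.1 % 7, a.1.2.2.2 % 7),
   (a.2.1.1 % 7, a.2.1.2.1 % 7, a.2.1.2.2.1 % 7, a.2.1.2.2.2 % 7),
   (a.2.2.1.1 % 7, a.2.2.1.2.1 % 7, a.2.2.1.2.2.1 % 7, a.2.2.1.2.2.2 % 7),
   (a.2.2.2.1 % 7, a.2.2.2.2.1 % 7, a.2.2.2.2.2.1 % 7, a.2.2.2.2.2.2 % 7))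

theorem fromMat_toMat (a : M4) : fromMat (toMat a) = reduce a := by
  simp [fromMat, toMat, reduce, ZMod.val_natCast]

theorem fromMat_toMat_mul (a b : M4) : fromMat (toMat (mul' a b)) = mul' a b := by
  rw [fromMat_toMat]
  simp [reduce, mul', rowMul, Nat.mod_mod]

instance decEqRow : DecidableEq Row := inferInstance

instance decEqM4 : DecidableEq M4 := inferInstance

theorem eq_one_of_toMat {a b : M4} (h : toMat (mul' a b) = 1) : mul' a b = one' := by
  rw [← fromMat_toMat_mul, h]; decide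

/-- Powers used in the checks. -/
def isRegular (a : M4) : Prop :=
  let a2 := mul' a a
  let a3 := mul' a2 a
  let a4 := mul' a2 a2
  let a5 := mul' a4 a
  let a8 := mul' a4 a4
  (a8 = one' ∨ mul' a8 a2 = one' ∨ mul' a8 a4 = one') ∧
  (a2 = one' → a = one' ∨ a = neg') ∧
  (a3 = one' → a = one' ∨ add' (add' a2 a) one' = zero') ∧
  (a5 = one' → a = one' ∨ add' (add' (add' (add' a4 a3) a2) a) one' = zero')

instance decIsRegular (a : M4) : Decidable (isRegular a) := by dsimp only [isRegular]; infer_instance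

set_option maxRecDepth 100000 in
set_option synthInstance.maxSize 2000 in
theorem one_mem_elements : one' ∈ elements := by decide +kernel

set_option maxRecDepth 100000 in
set_option synthInstance.maxSize 2000 in
theorem closed_elements : ∀ a ∈ elements, mul' a genA ∈ elements ∧ mul' a genB ∈ elements := by decide +kernel

set_option maxRecDepth 100000 in
set_option synthInstance.maxSize 2000 in
theorem regular_elements : ∀ a ∈ elements, isRegular a := by decide +kernel

theorem genA_pow : toMat genA ^ 12 = 1 := by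
  have h : mul' (mul' (mul' (mul' genA genA) (mul' genA genA)) (mul' (mul' genA genA) (mul' genA genA)))
      (mul' (mul' genA genA) (mul' genA genA)) = one' := by decide +kernel
  rw [← toMat_one, ← h]
  simp only [toMat_mul, pow_succ, pow_zero, one_mul, mul_assoc]

theorem genB_pow : toMat genB ^ 10 = 1 := by
  have h : mul' (mul' (mul' (mul' genB genB) (mul' genB genB)) (mul' (mul' genB genB) (mul' genB genB)))
      (mul' genB genB) = one' := by decide +kernel
  rw [← toMat_one, ← h]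
  simp only [toMat_mul, pow_succ, pow_zero, one_mul, mul_assoc]

/-- The first generator as a unit. -/
noncomputable def unitA : (Matrix (Fin 4) (Fin 4) (ZMod 7))ˣ :=
  Units.ofPowEqOne (toMat genA) 12 genA_pow (by norm_num)

/-- The second generator as a unit. -/
noncomputable def unitB : (Matrix (Fin 4) (Fin 4) (ZMod 7))ˣ :=
  Units.ofPowEqOne (toMat genB) 10 genB_pow (by norm_num)

/-- The group `2.S₅`. -/
noncomputable def K : Subgroup (Matrix (Fin 4) (Fin 4) (ZMod 7))ˣ := Subgroup.closure {unitA, unitB}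

theorem exists_elt (k : K) : ∃ a ∈ elements, toMat a = ((k : (Matrix (Fin 4) (Fin 4) (ZMod 7))ˣ) : Matrix (Fin 4) (Fin 4) (ZMod 7)) := by
  obtain ⟨g, hg⟩ := k
  change ∃ a ∈ elements, toMat a = (g : Matrix (Fin 4) (Fin 4) (ZMod 7))
  have hg' : g ∈ Submonoid.closure ({unitA, unitB} : Set (Matrix (Fin 4) (Fin 4) (ZMod 7))ˣ) := by
    rw [← Subgroup.closure_toSubmonoid_of_finite]; exact hg
  clear hg
  induction hg' using Submonoid.closure_induction_right with
  | one => exact ⟨one', one_mem_elements, by rw [toMat_one, Units.val_one]⟩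
  | mul_right x _ y hy ih =>
    obtain ⟨a, ha, hax⟩ := ih
    rcases hy with rfl | rfl
    · exact ⟨_, (closed_elements a ha).1, by rw [toMat_mul, hax, Units.val_mul]; rfl⟩
    · exact ⟨_, (closed_elements a ha).2, by rw [toMat_mul, hax, Units.val_mul]; rfl⟩

/-- The inclusion into matrices. -/
noncomputable def val : K →* Matrix (Fin 4) (Fin 4) (ZMod 7) :=
  (Units.coeHom _).comp K.subtype

theorem val_injective : Function.Injective val := fun _ _ h => Subtype.ext (Units.ext h)

theorem exists_val (k : K) : ∃ a ∈ elements, toMat a = val k := exists_elt k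

/-- A word in the generators. -/
noncomputable def gA : K := ⟨unitA, Subgroup.subset_closure (Or.inl rfl)⟩

/-- A word in the generators. -/
noncomputable def gB : K := ⟨unitB, Subgroup.subset_closure (Or.inr rfl)⟩

theorem val_gA : val gA = toMat genA := rfl

theorem val_gB : val gB = toMat genB := rfl

/-- The central involution. -/
noncomputable def z : K := gA ^ 6

theorem val_z : val z = -1 := by
  have h : mul' (mul' (mul' genA genA) (mul' genA genA)) (mul' genA genA) = neg' := by decide +kernel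
  rw [z, map_pow, val_gA]
  simp only [pow_succ, pow_zero, one_mul]
  rw [← toMat_neg, ← h]
  simp only [toMat_mul, mul_assoc]

theorem z_comm (k : K) : z * k = k * z := by
  apply val_injective
  rw [map_mul, map_mul, val_z, neg_one_mul, mul_neg_one]

theorem z_ne_one : z ≠ 1 := by
  intro h
  have := congrArg val h
  rw [val_z, map_one] at this
  have := congrFun (congrFun this 0) 0
  simp at this
  revert this; decide

theorem z_sq : z * z = 1 := by
  apply val_injective
  rw [map_mul, val_z, map_one, neg_one_mul, neg_neg]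

theorem pow_cases (k : K) : k ^ 8 = 1 ∨ k ^ 10 = 1 ∨ k ^ 12 = 1 := by
  obtain ⟨a, ha, hak⟩ := exists_val k
  rcases (regular_elements a ha).1 with h | h | h
  · left; apply val_injective
    rw [map_pow, map_one, ← hak, ← toMat_one, ← h]
    simp only [toMat_mul, pow_succ, pow_zero, one_mul, mul_assoc]
  · right; left; apply val_injective
    rw [map_pow, map_one, ← hak, ← toMat_one, ← h]
    simp only [toMat_mul, pow_succ, pow_zero, one_mul, mul_assoc]
  · right; right; apply val_injective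
    rw [map_pow, map_one, ← hak, ← toMat_one, ← h]
    simp only [toMat_mul, pow_succ, pow_zero, one_mul, mul_assoc]

theorem eq_z_of_sq (k : K) (hk : k ^ 2 = 1) : k = 1 ∨ k = z := by
  obtain ⟨a, ha, hak⟩ := exists_val k
  have h : mul' a a = one' := by
    apply eq_one_of_toMat
    rw [toMat_mul, hak, ← map_mul, ← pow_two, hk, map_one]
  rcases (regular_elements a ha).2.1 h with h | h
  · left; apply val_injective; rw [← hak, h, toMat_one, map_one]
  · right; apply val_injective; rw [← hak, h, toMat_neg, val_z]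

theorem fixed_of_prime (k : K) (q : ℕ) (hq : q = 2 ∨ q = 3 ∨ q = 5) (hk : k ^ q = 1) (hk1 : k ≠ 1)
    (v : Fin 4 → ZMod 7) (hv : val k *ᵥ v = v) : v = 0 := by
  obtain ⟨a, ha, hak⟩ := exists_val k
  have hne : a ≠ one' := fun h => hk1 (val_injective (by rw [← hak, h, toMat_one, map_one]))
  have cancel : ∀ c : ZMod 7, c ≠ 0 → c • v = 0 → v = 0 := fun c hc h => by
    haveI : Fact (Nat.Prime 7) := ⟨by norm_num⟩
    exact (smul_eq_zero.mp h).resolve_left hc
  rcases hq with rfl | rfl | rfl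
  · rcases eq_z_of_sq k hk with rfl | rfl
    · exact absurd rfl hk1
    · rw [val_z, Matrix.neg_mulVec, Matrix.one_mulVec] at hv
      apply cancel 2 (by decide)
      rw [two_smul]
      exact (congrArg (· + v) hv).symm.trans (neg_add_cancel v)
  · have h3 : mul' (mul' a a) a = one' := by
      apply eq_one_of_toMat
      rw [toMat_mul, toMat_mul, hak, ← map_mul, ← map_mul, ← pow_two, ← pow_succ, hk, map_one]
    have h := congrArg toMat (((regular_elements a ha).2.2.1 h3).resolve_left hne)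
    simp only [toMat_add, toMat_mul, toMat_one, toMat_zero, hak] at h
    have hh := congrArg (fun M => M *ᵥ v) h
    simp only [Matrix.add_mulVec, ← Matrix.mulVec_mulVec, hv, Matrix.one_mulVec, Matrix.zero_mulVec] at hh
    apply cancel 3 (by decide)
    rw [← hh]; module
  · have h5 : mul' (mul' (mul' a a) (mul' a a)) a = one' := by
      apply eq_one_of_toMat
      rw [toMat_mul, toMat_mul, toMat_mul, hak, ← map_mul, ← map_mul, ← map_mul, ← pow_two, ← pow_two, ← pow_mul,
        ← pow_succ, hk, map_one]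
    have h := congrArg toMat (((regular_elements a ha).2.2.2 h5).resolve_left hne)
    simp only [toMat_add, toMat_mul, toMat_one, toMat_zero, hak] at h
    have hh := congrArg (fun M => M *ᵥ v) h
    simp only [Matrix.add_mulVec, ← Matrix.mulVec_mulVec, hv, Matrix.one_mulVec, Matrix.zero_mulVec] at hh
    apply cancel 5 (by decide)
    rw [← hh]; module

theorem orderOf_dvd_cases (k : K) : orderOf k ∣ 8 ∨ orderOf k ∣ 10 ∨ orderOf k ∣ 12 := by
  rcases pow_cases k with h | h | h
  · exact Or.inl (orderOf_dvd_of_pow_eq_one h)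
  · exact Or.inr (Or.inl (orderOf_dvd_of_pow_eq_one h))
  · exact Or.inr (Or.inr (orderOf_dvd_of_pow_eq_one h))

/-- Elements of `K` fix no nonzero vector. -/
theorem eq_zero_of_fixed (k : K) (hk : k ≠ 1) (v : Fin 4 → ZMod 7) (hv : val k *ᵥ v = v) : v = 0 := by
  have hfix : ∀ j : ℕ, val (k ^ j) *ᵥ v = v := by
    intro j
    induction j with
    | zero => simp
    | succ j ih => rw [pow_succ, map_mul, ← Matrix.mulVec_mulVec, hv, ih]
  obtain ⟨q, hq, hqd⟩ := Nat.exists_prime_and_dvd (n := orderOf k) (fun h => hk (orderOf_eq_one_iff.mp h))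
  have hne : orderOf k ≠ 0 := by
    rcases orderOf_dvd_cases k with h | h | h <;> intro h0 <;> rw [h0] at h <;> simp at h
  have ho : orderOf (k ^ (orderOf k / q)) = q := orderOf_pow_orderOf_div hne hqd
  refine fixed_of_prime (k ^ (orderOf k / q)) q ?_ ?_ ?_ v (hfix _)
  · rcases orderOf_dvd_cases k with h | h | h
    · left
      have := (hq.dvd_of_dvd_pow (n := 3) (m := 2) (by norm_num; exact hqd.trans h))
      exact (Nat.prime_dvd_prime_iff_eq hq Nat.prime_two).mp this
    · rcases hq.dvd_mul.mp (show q ∣ 2 * 5 from hqd.trans h) with h' | h'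
      · exact Or.inl ((Nat.prime_dvd_prime_iff_eq hq Nat.prime_two).mp h')
      · exact Or.inr (Or.inr ((Nat.prime_dvd_prime_iff_eq hq (by norm_num)).mp h'))
    · rcases hq.dvd_mul.mp (show q ∣ 2 ^ 2 * 3 from hqd.trans h) with h' | h'
      · exact Or.inl ((Nat.prime_dvd_prime_iff_eq hq Nat.prime_two).mp (hq.dvd_of_dvd_pow h'))
      · exact Or.inr (Or.inl ((Nat.prime_dvd_prime_iff_eq hq (by norm_num)).mp h'))
  · nth_rewrite 2 [← ho]; exact pow_orderOf_eq_one _
  · intro h; rw [h, orderOf_one] at ho; exact hq.ne_one ho.symm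

theorem orderOf_gA : orderOf gA = 12 := by
  have h4 : mul' (mul' genA genA) (mul' genA genA) ≠ one' := by decide +kernel
  have h12 : gA ^ 12 = 1 := by
    rw [show (12 : ℕ) = 6 * 2 from rfl, pow_mul, pow_two]; exact z_sq
  have hd := orderOf_dvd_of_pow_eq_one h12
  have hn6 : ¬ orderOf gA ∣ 6 := fun h => z_ne_one (orderOf_dvd_iff_pow_eq_one.mp h)
  have hn4 : ¬ orderOf gA ∣ 4 := by
    intro h
    apply h4
    apply eq_one_of_toMat
    rw [toMat_mul, toMat_mul, ← val_gA, ← map_mul, ← map_mul, ← pow_two, ← pow_two, ← pow_mul,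
      orderOf_dvd_iff_pow_eq_one.mp h, map_one]
  have hm : orderOf gA ∈ Nat.divisors 12 := Nat.mem_divisors.mpr ⟨hd, by norm_num⟩
  generalize orderOf gA = n at hm hn4 hn6
  revert hm hn4 hn6
  revert n
  decide

theorem orderOf_gB : orderOf gB = 10 := by
  have h2 : mul' genB genB ≠ one' := by decide +kernel
  have h5 : mul' (mul' (mul' genB genB) (mul' genB genB)) genB ≠ one' := by decide +kernel
  have h10 : gB ^ 10 = 1 := val_injective (by rw [map_pow, val_gB, genB_pow, map_one])
  have hn2 : ¬ orderOf gB ∣ 2 := by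
    intro h
    apply h2
    apply eq_one_of_toMat
    rw [toMat_mul, ← val_gB, ← map_mul, ← pow_two, orderOf_dvd_iff_pow_eq_one.mp h, map_one]
  have hn5 : ¬ orderOf gB ∣ 5 := by
    intro h
    apply h5
    apply eq_one_of_toMat
    rw [toMat_mul, toMat_mul, toMat_mul, ← val_gB, ← map_mul, ← map_mul, ← map_mul, ← pow_two, ← pow_two, ← pow_mul,
      ← pow_succ, orderOf_dvd_iff_pow_eq_one.mp h, map_one]
  have hm : orderOf gB ∈ Nat.divisors 10 := Nat.mem_divisors.mpr ⟨orderOf_dvd_of_pow_eq_one h10, by norm_num⟩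
  generalize orderOf gB = n at hm hn2 hn5
  revert hm hn2 hn5
  revert n
  decide

theorem orderOf_gABB : orderOf (gA * gB * gB) = 8 := by
  have h4 : mul' (mul' (mul' (mul' genA genB) genB) (mul' (mul' genA genB) genB))
      (mul' (mul' (mul' genA genB) genB) (mul' (mul' genA genB) genB)) = neg' := by decide +kernel
  have hz : (gA * gB * gB) ^ 4 = z := by
    apply val_injective
    rw [map_pow, map_mul, map_mul, val_gA, val_gB, val_z, ← toMat_neg, ← h4]
    simp only [toMat_mul, pow_succ, pow_zero, one_mul, mul_assoc]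
  have : Fact (Nat.Prime 2) := ⟨Nat.prime_two⟩
  rw [show (8 : ℕ) = 2 ^ (2 + 1) by norm_num]
  refine orderOf_eq_prime_pow (by rw [show (2 : ℕ) ^ 2 = 4 by norm_num, hz]; exact z_ne_one) ?_
  rw [show (2 : ℕ) ^ (2 + 1) = 4 * 2 by norm_num, pow_mul, hz, pow_two, z_sq]

/-- Every element order of a group of shape `2.S₅` occurs. -/
theorem exists_orderOf {n : ℕ} (hn : n ∈ ({1, 2, 3, 4, 5, 6, 8, 10, 12} : Finset ℕ)) :
    ∃ k : K, orderOf k = n := by
  simp only [Finset.mem_insert, Finset.mem_singleton] at hn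
  rcases hn with rfl | rfl | rfl | rfl | rfl | rfl | rfl | rfl | rfl
  · exact ⟨1, orderOf_one⟩
  all_goals first
    | exact ⟨_, orderOf_gABB⟩
    | exact ⟨_, orderOf_gB⟩
    | exact ⟨_, orderOf_gA⟩
    | exact ⟨gA ^ 6, by rw [orderOf_pow' _ (by norm_num), orderOf_gA]; rfl⟩
    | exact ⟨gA ^ 4, by rw [orderOf_pow' _ (by norm_num), orderOf_gA]; rfl⟩
    | exact ⟨gA ^ 3, by rw [orderOf_pow' _ (by norm_num), orderOf_gA]; rfl⟩
    | exact ⟨gA ^ 2, by rw [orderOf_pow' _ (by norm_num), orderOf_gA]; rfl⟩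
    | exact ⟨gB ^ 2, by rw [orderOf_pow' _ (by norm_num), orderOf_gB]; rfl⟩

end CfsgLib.Recognition.BinaryS5
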