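import Mathlib
import Cfsg.Agent.Lib.KnownC.PSLOrders
import Cfsg.Agent.Lib.Recognition.TwoByTwo
import Cfsg.Agent.Lib.Recognition.FibrePower

/-!
The module of cuspidal `F₂`-valued functions on `PSL₂(p)` and the group it gives with the element
orders of `PGL₂(p)`.
-/

namespace CfsgLib.Recognition.CuspidalTwo

open Matrix TwoByTwo

variable (F : Type*) [Field F]

/-- The group `PSL₂`. -/
local notation "P" => Matrix.ProjectiveSpecialLinearGroup (Fin 2) F
local notation "SL2" => Matrix.SpecialLinearGroup (Fin 2) F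

/-- Nonzero nilpotent matrices. -/
def Nil : Type _ := {N : Matrix (Fin 2) (Fin 2) F // N.trace = 0 ∧ N.det = 0 ∧ N ≠ 0}

variable {F}

/-- The element `1 + aN`. -/
def unip (N : Nil F) (a : F) : SL2 := ⟨1 + a • N.1, by
  have h1 := N.2.1
  have h2 := N.2.2.1
  rw [Matrix.trace_fin_two] at h1
  rw [Matrix.det_fin_two] at h2
  simp only [Matrix.det_fin_two, Matrix.add_apply, Matrix.smul_apply, Matrix.one_apply_eq, smul_eq_mul,
    Matrix.one_apply_ne (show (0 : Fin 2) ≠ 1 by decide), Matrix.one_apply_ne (show (1 : Fin 2) ≠ 0 by decide)]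
  linear_combination a * h1 + a ^ 2 * h2⟩

theorem unip_add (N : Nil F) (a b : F) : unip N (a + b) = unip N a * unip N b := by
  apply Subtype.ext
  have hN : N.1 * N.1 = 0 := by rw [sq_eq, N.2.1, N.2.2.1, zero_smul, zero_smul, sub_zero]
  change 1 + (a + b) • N.1 = (1 + a • N.1) * (1 + b • N.1)
  rw [mul_add, mul_one, add_mul, one_mul, smul_mul_smul_comm, hN, smul_zero, add_zero, add_smul, add_assoc]

variable (F) [Fintype F]

/-- The cuspidal functions. -/
noncomputable def W : AddSubgroup (P → ZMod 2) where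
  carrier := {f | ∀ (N : Nil F) (z : P), ∑ a : F, f (QuotientGroup.mk (unip N a) * z) = 0}
  zero_mem' := fun _ _ => by simp
  add_mem' := fun {f g} hf hg N z => by simp only [Pi.add_apply, Finset.sum_add_distrib, hf N z, hg N z, add_zero]
  neg_mem' := fun {f} hf N z => by simp only [Pi.neg_apply, Finset.sum_neg_distrib, hf N z, neg_zero]

variable {F}

/-- The action by left translation. -/
noncomputable def act (g : P) : W F →+ W F where
  toFun w := ⟨fun x => w.1 (g⁻¹ * x), fun N z => by
    obtain ⟨A, rfl⟩ := QuotientGroup.mk_surjective g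
    have hN : ((A⁻¹ : SL2) : Matrix (Fin 2) (Fin 2) F) * N.1 * (A : Matrix (Fin 2) (Fin 2) F) ≠ 0 := by
      intro h
      apply N.2.2.2
      have := congrArg (fun M => (A : Matrix (Fin 2) (Fin 2) F) * M * ((A⁻¹ : SL2) : Matrix (Fin 2) (Fin 2) F)) h
      simp only [← mul_assoc, ← Matrix.SpecialLinearGroup.coe_mul, mul_inv_cancel, mul_zero, zero_mul] at this
      rwa [Matrix.SpecialLinearGroup.coe_one, one_mul, mul_assoc, ← Matrix.SpecialLinearGroup.coe_mul, mul_inv_cancel,
        Matrix.SpecialLinearGroup.coe_one, mul_one] at this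
    let N' : Nil F := ⟨((A⁻¹ : SL2) : Matrix (Fin 2) (Fin 2) F) * N.1 * (A : Matrix (Fin 2) (Fin 2) F), by
      rw [Matrix.trace_mul_comm, ← mul_assoc, ← Matrix.SpecialLinearGroup.coe_mul, mul_inv_cancel,
        Matrix.SpecialLinearGroup.coe_one, one_mul, N.2.1], by
      rw [Matrix.det_mul, Matrix.det_mul, N.2.2.1, mul_zero, zero_mul], hN⟩
    rw [← w.2 N' (QuotientGroup.mk A⁻¹ * z)]
    refine Finset.sum_congr rfl fun a _ => congrArg w.1 ?_
    rw [← QuotientGroup.mk_inv, ← mul_assoc, ← mul_assoc, ← QuotientGroup.mk_mul, ← QuotientGroup.mk_mul]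
    congr 2
    apply Subtype.ext
    change ((A⁻¹ : SL2) : Matrix (Fin 2) (Fin 2) F) * (1 + a • N.1) = (1 + a • N'.1) * ((A⁻¹ : SL2) : Matrix (Fin 2) (Fin 2) F)
    rw [mul_add, add_mul, mul_one, one_mul, Matrix.mul_smul, Matrix.smul_mul]
    change _ = _ + a • (_ * N.1 * _ * _)
    rw [mul_assoc (_ * N.1), ← Matrix.SpecialLinearGroup.coe_mul, mul_inv_cancel, Matrix.SpecialLinearGroup.coe_one,
      mul_one]⟩
  map_zero' := Subtype.ext rfl
  map_add' _ _ := Subtype.ext rfl

theorem act_apply (g : P) (w : W F) (x : P) : (act g w).1 x = w.1 (g⁻¹ * x) := rfl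

theorem act_one (w : W F) : act 1 w = w := by
  apply Subtype.ext; funext x; rw [act_apply, inv_one, one_mul]

theorem act_mul (g h : P) (w : W F) : act (g * h) w = act g (act h w) := by
  apply Subtype.ext; funext x; simp only [act_apply, _root_.mul_inv_rev, mul_assoc]

/-- The action as a homomorphism. -/
noncomputable def actHom : P →* MulAut (Multiplicative (W F)) where
  toFun g :=
    { toFun := fun w => Multiplicative.ofAdd (act g w.toAdd)
      invFun := fun w => Multiplicative.ofAdd (act g⁻¹ w.toAdd)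
      left_inv := fun w => by
        change Multiplicative.ofAdd (act g⁻¹ (act g w.toAdd)) = w
        rw [← act_mul, inv_mul_cancel, act_one, ofAdd_toAdd]
      right_inv := fun w => by
        change Multiplicative.ofAdd (act g (act g⁻¹ w.toAdd)) = w
        rw [← act_mul, mul_inv_cancel, act_one, ofAdd_toAdd]
      map_mul' := fun a b => by simp only [toAdd_mul, map_add, ofAdd_add] }
  map_one' := MulEquiv.ext fun w => congrArg Multiplicative.ofAdd (act_one w.toAdd)
  map_mul' g h := MulEquiv.ext fun w => congrArg Multiplicative.ofAdd (act_mul g h w.toAdd)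

/-- The translation part of the `j`-th power of `(w, g)`. -/
noncomputable def S (w : W F) (g : P) (j : ℕ) : W F := ∑ i ∈ Finset.range j, act (g ^ i) w

theorem pow_eq (w : W F) (g : P) (j : ℕ) :
    (⟨Multiplicative.ofAdd w, g⟩ : Multiplicative (W F) ⋊[actHom] P) ^ j =
      ⟨Multiplicative.ofAdd (S w g j), g ^ j⟩ := by
  induction j with
  | zero => simp [S]
  | succ j ih =>
    rw [pow_succ, ih, SemidirectProduct.mul_def]
    refine SemidirectProduct.ext ?_ (pow_succ g j).symm
    change Multiplicative.ofAdd (S w g j) * Multiplicative.ofAdd (act (g ^ j) w) = _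
    rw [S, S, Finset.sum_range_succ, ofAdd_add]

theorem act_S (w : W F) (g : P) {n : ℕ} (hn : g ^ n = 1) : act g (S w g n) = S w g n := by
  rw [S, map_sum]
  have h := Finset.sum_range_succ' (fun i => act (g ^ i) w) n
  rw [Finset.sum_range_succ, hn, pow_zero, add_left_inj] at h
  rw [h]
  exact Finset.sum_congr rfl fun i _ => by rw [← act_mul, ← pow_succ']

theorem smul_two (w : W F) : 2 • w = 0 := by
  apply Subtype.ext
  funext x
  change 2 • w.1 x = 0
  rw [nsmul_eq_mul, show ((2 : ℕ) : ZMod 2) = 0 from ZMod.natCast_self 2, zero_mul]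

variable (p : ℕ) [Fact p.Prime] [CharP F p]

omit [Fintype F] in
theorem psl_scalar_of_sq (hp : p ≠ 2) (B : SL2) (hB : B * B = 1) : (QuotientGroup.mk B : P) = 1 := by
  have h2 := two_ne_zero_of_odd p hp (F := F)
  have h := sq_eq (B : Matrix (Fin 2) (Fin 2) F)
  rw [← Matrix.SpecialLinearGroup.coe_mul, hB, Matrix.SpecialLinearGroup.coe_one, B.2, one_smul] at h
  have h' : (B : Matrix (Fin 2) (Fin 2) F).trace • (B : Matrix (Fin 2) (Fin 2) F) = (2 : F) • 1 := by
    rw [two_smul]; exact eq_add_of_sub_eq h.symm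
  have ht : (B : Matrix (Fin 2) (Fin 2) F).trace ≠ 0 := by
    intro h0
    rw [h0, zero_smul] at h'
    have := congrFun (congrFun h' 0) 0
    simp at this
    exact h2 this.symm
  rw [QuotientGroup.eq_one_iff]
  refine CfsgLib.KnownC.PSLOrders.mem_center_of_eq_smul_one (t := 2 / (B : Matrix (Fin 2) (Fin 2) F).trace) ?_
  rw [div_eq_inv_mul, mul_smul, ← h', smul_smul, inv_mul_cancel₀ ht, one_smul]

variable {p}

theorem two_mul_half (hp : p ≠ 2) : 2 * ((p - 1) / 2) = p - 1 ∧ 2 * ((p + 1) / 2) = p + 1 := by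
  rcases Nat.Prime.eq_two_or_odd (Fact.out : p.Prime) with h | h <;> omega

/-- Trichotomy for elements of `PSL₂(p)`. -/
theorem psl_cases (hp : p ≠ 2) (hcard : Fintype.card F = p) (A : SL2) :
    (disc (A : Matrix (Fin 2) (Fin 2) F) = 0 ∧ (QuotientGroup.mk A : P) ^ p = 1) ∨
      (disc (A : Matrix (Fin 2) (Fin 2) F) ≠ 0 ∧
        ((QuotientGroup.mk A : P) ^ ((p - 1) / 2) = 1 ∨ (QuotientGroup.mk A : P) ^ ((p + 1) / 2) = 1)) := by
  by_cases hd : disc (A : Matrix (Fin 2) (Fin 2) F) = 0
  · left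
    refine ⟨hd, ?_⟩
    rw [CfsgLib.KnownC.PSLOrders.mk_pow_eq_one_iff]
    exact ⟨_, pow_char_of_disc_zero p hp _ hd⟩
  right
  refine ⟨hd, ?_⟩
  rcases pow_card_cases p hp _ hd with h | h <;> rw [hcard] at h
  · left
    rw [← QuotientGroup.mk_pow]
    apply psl_scalar_of_sq p hp
    rw [← pow_add, ← two_mul, (two_mul_half hp).1]
    apply mul_right_cancel (b := A)
    rw [one_mul, ← pow_succ, Nat.sub_add_cancel (Fact.out : p.Prime).one_le]
    exact Subtype.ext (by rw [Matrix.SpecialLinearGroup.coe_pow, h])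
  · right
    rw [← QuotientGroup.mk_pow]
    apply psl_scalar_of_sq p hp
    rw [← pow_add, ← two_mul, (two_mul_half hp).2]
    exact Subtype.ext (by rw [Matrix.SpecialLinearGroup.coe_pow, h, A.2, one_smul, Matrix.SpecialLinearGroup.coe_one])

theorem natCast_surjective (hcard : Fintype.card F = p) (a : F) : ∃ k : ℕ, (k : F) = a := by
  classical
  haveI : NeZero p := ⟨(Fact.out : p.Prime).ne_zero⟩
  obtain ⟨x, hx⟩ := ((Fintype.bijective_iff_injective_and_card (ZMod.castHom (dvd_refl p) F)).mpr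
    ⟨(ZMod.castHom (dvd_refl p) F).injective, by rw [ZMod.card, hcard]⟩).surjective a
  exact ⟨x.val, by rw [← hx, ZMod.castHom_apply, ZMod.natCast_val]⟩

theorem S_eq_zero_of_order_p (hp : p ≠ 2) (hcard : Fintype.card F = p) (w : W F) (g : P) (hg : orderOf g = p) :
    S w g p = 0 := by
  obtain ⟨A, rfl⟩ := QuotientGroup.mk_surjective g
  have hd : disc (A : Matrix (Fin 2) (Fin 2) F) = 0 := by
    rcases psl_cases hp hcard A with h | ⟨-, h | h⟩
    · exact h.1
    all_goals
      exfalso
      have h1 := orderOf_dvd_of_pow_eq_one h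
      rw [hg] at h1
      have h2 := Nat.le_of_dvd (by have := (Fact.out : p.Prime).two_le; omega) h1
      have := (Fact.out : p.Prime).two_le
      omega
  have h2 := two_ne_zero_of_odd p hp (F := F)
  set c := (A : Matrix (Fin 2) (Fin 2) F).trace / 2 with hc
  have hc1 : c * c = 1 := by
    have hd' := hd
    rw [disc, A.2, mul_one, sub_eq_zero] at hd'
    rw [hc, div_mul_div_comm, ← pow_two, hd', show (2 : F) * 2 = 4 by norm_num, div_self]
    rw [show (4 : F) = 2 * 2 by norm_num]; exact mul_ne_zero h2 h2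
  have hN : c • nilPart (A : Matrix (Fin 2) (Fin 2) F) ≠ 0 := by
    intro h0
    have hA : (A : Matrix (Fin 2) (Fin 2) F) = c • 1 := by
      rcases smul_eq_zero.mp h0 with h1 | h1
      · rw [h1, mul_zero] at hc1; exact absurd hc1 zero_ne_one
      · exact sub_eq_zero.mp h1
    have : (QuotientGroup.mk A : P) = 1 := (QuotientGroup.eq_one_iff _).mpr
      (CfsgLib.KnownC.PSLOrders.mem_center_of_eq_smul_one hA)
    rw [this, orderOf_one] at hg
    exact (Fact.out : p.Prime).ne_one hg.symm
  let N : Nil F := ⟨c • nilPart (A : Matrix (Fin 2) (Fin 2) F), by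
    rw [Matrix.trace_smul, nilPart, Matrix.trace_sub, Matrix.trace_smul, Matrix.trace_one, Fintype.card_fin,
      smul_eq_mul, smul_eq_mul, Nat.cast_ofNat, div_mul_cancel₀ _ h2, sub_self, mul_zero], by
    have hsq := congrArg Matrix.det (nilPart_mul_self h2 (A : Matrix (Fin 2) (Fin 2) F))
    rw [hd, zero_div, zero_smul, Matrix.det_zero, Matrix.det_mul, mul_self_eq_zero] at hsq
    rw [Matrix.det_smul, hsq, mul_zero], hN⟩
  have hu : (QuotientGroup.mk (unip N 1) : P) = QuotientGroup.mk A := by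
    rw [QuotientGroup.eq]
    refine CfsgLib.KnownC.PSLOrders.mem_center_of_eq_smul_one (t := c) ?_
    have : c • ((unip N 1 : SL2) : Matrix (Fin 2) (Fin 2) F) = (A : Matrix (Fin 2) (Fin 2) F) := by
      change c • (1 + (1 : F) • c • nilPart (A : Matrix (Fin 2) (Fin 2) F)) = _
      rw [one_smul, smul_add, smul_smul, hc1, one_smul, nilPart, add_sub_cancel]
    rw [Matrix.SpecialLinearGroup.coe_mul, ← this, Matrix.mul_smul, ← Matrix.SpecialLinearGroup.coe_mul,
      inv_mul_cancel, Matrix.SpecialLinearGroup.coe_one]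
  set T := S w (QuotientGroup.mk A : P) p
  have hfix : act (QuotientGroup.mk A : P) T = T := act_S w _ (hg ▸ pow_orderOf_eq_one _)
  apply Subtype.ext
  funext y
  have hk : ∀ k : ℕ, T.1 (QuotientGroup.mk (unip N (k : F)) * y) = T.1 y := by
    intro k
    induction k with
    | zero =>
      have : unip N (0 : F) = 1 := Subtype.ext (by simp [unip])
      rw [Nat.cast_zero, this, QuotientGroup.mk_one, one_mul]
    | succ k ih =>
      rw [Nat.cast_succ, add_comm, unip_add, QuotientGroup.mk_mul, hu, mul_assoc]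
      conv_lhs => rw [← hfix]
      rw [act_apply, inv_mul_cancel_left, ih]
  have := T.2 N y
  rw [Finset.sum_congr rfl (g := fun _ => T.1 y) (fun a _ => by
    obtain ⟨k, rfl⟩ := natCast_surjective hcard a; exact hk k), Finset.sum_const, Finset.card_univ, hcard] at this
  obtain ⟨m, hm⟩ : ∃ m, p = 2 * m + 1 := ⟨p / 2, by rcases Nat.Prime.eq_two_or_odd (Fact.out : p.Prime) with h | h <;> omega⟩
  rw [hm, nsmul_eq_mul, Nat.cast_add, Nat.cast_mul, show ((2 : ℕ) : ZMod 2) = 0 from ZMod.natCast_self 2,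
    zero_mul, zero_add, Nat.cast_one, one_mul] at this
  exact this

theorem orderOf_cases (hp : p ≠ 2) (hcard : Fintype.card F = p) (x : Multiplicative (W F) ⋊[actHom] P) :
    orderOf x ∣ p ∨ orderOf x ∣ p - 1 ∨ orderOf x ∣ p + 1 := by
  obtain ⟨w, g⟩ := x
  obtain ⟨A, hA⟩ := QuotientGroup.mk_surjective g
  have hsmul : ∀ n : ℕ, g ^ n = 1 → (⟨w, g⟩ : Multiplicative (W F) ⋊[actHom] P) ^ (n * 2) = 1 := by
    intro n hn
    rw [pow_mul, show w = Multiplicative.ofAdd w.toAdd from rfl, pow_eq, hn, pow_eq]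
    refine SemidirectProduct.ext ?_ (one_pow _)
    change Multiplicative.ofAdd (S (S w.toAdd g n) 1 2) = 1
    rw [show S (S w.toAdd g n) 1 2 = 0 by
      rw [← smul_two (S w.toAdd g n)]
      show ∑ i ∈ Finset.range 2, act (1 ^ i) (S w.toAdd g n) = _
      simp only [one_pow, act_one, Finset.sum_const, Finset.card_range]]
    rfl
  rcases psl_cases hp hcard A with ⟨-, h⟩ | ⟨-, h | h⟩ <;> rw [hA] at h
  · by_cases hg : g = 1
    · right; left
      have h2 := orderOf_dvd_of_pow_eq_one (hsmul 1 (by rw [hg, one_pow]))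
      exact h2.trans ⟨(p - 1) / 2, by rw [one_mul, (two_mul_half hp).1]⟩
    left
    apply orderOf_dvd_of_pow_eq_one
    rw [show w = Multiplicative.ofAdd w.toAdd from rfl, pow_eq, h,
      S_eq_zero_of_order_p hp hcard _ g (orderOf_eq_prime h hg)]
    rfl
  · right; left
    have := orderOf_dvd_of_pow_eq_one (hsmul _ h)
    rwa [mul_comm, (two_mul_half hp).1] at this
  · right; right
    have := orderOf_dvd_of_pow_eq_one (hsmul _ h)
    rwa [mul_comm, (two_mul_half hp).2] at this

omit [Fintype F] in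
/-- Binary trace-zero element with prescribed determinant orthogonal to `A`. -/
theorem exists_traceless [Finite F] (h2 : (2 : F) ≠ 0) (A : Matrix (Fin 2) (Fin 2) F) (hd : disc A ≠ 0) (w0 : F) :
    ∃ Z : Matrix (Fin 2) (Fin 2) F, Z.trace = 0 ∧ (A * Z).trace = 0 ∧ Z.det = w0 := by
  haveI := Fintype.ofFinite F
  simp only [disc, Matrix.trace_fin_two, Matrix.det_fin_two] at hd
  by_cases hb : A 0 1 = 0
  · have hne : A 0 0 - A 1 1 ≠ 0 := by
      intro h; apply hd; rw [hb]; linear_combination (A 0 0 - A 1 1) * h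
    refine ⟨!![-A 1 0 / (A 0 0 - A 1 1), 1; -w0 - (-A 1 0 / (A 0 0 - A 1 1)) ^ 2, A 1 0 / (A 0 0 - A 1 1)], ?_, ?_, ?_⟩
    · simp [Matrix.trace_fin_two]; ring
    · simp [Matrix.trace_fin_two, Matrix.mul_apply, Fin.sum_univ_two, hb]; field_simp; ring
    · simp [Matrix.det_fin_two]; ring
  · set D := (A 0 0 - A 1 1) ^ 2 + 4 * (A 0 1 * A 1 0) with hD
    have hD0 : D ≠ 0 := by intro h; apply hd; rw [← h, hD]; ring
    have h4 : (4 : F) ≠ 0 := by rw [show (4 : F) = 2 * 2 by norm_num]; exact mul_ne_zero h2 h2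
    have hk : D / (4 * A 0 1 ^ 2) ≠ 0 := div_ne_zero hD0 (mul_ne_zero h4 (pow_ne_zero _ hb))
    have h2' : ringChar F ≠ 2 := by
      intro h
      apply h2
      have h0 := ringChar.Nat.cast_ringChar (R := F)
      rw [h] at h0
      exact_mod_cast h0
    have hcard : Fintype.card F % 2 = 1 :=
      FiniteField.odd_card_of_char_ne_two h2'
    obtain ⟨u, v, huv⟩ := FiniteField.exists_root_sum_quadratic
      (f := Polynomial.C (-1 : F) * Polynomial.X ^ 2 + Polynomial.C (-w0))
      (g := Polynomial.C (D / (4 * A 0 1 ^ 2)) * Polynomial.X ^ 2)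
      (by rw [Polynomial.degree_add_eq_left_of_degree_lt] <;>
          rw [Polynomial.degree_C_mul_X_pow 2 (neg_ne_zero.mpr one_ne_zero)]
          · rfl
          exact lt_of_le_of_lt Polynomial.degree_C_le (by decide))
      (by rw [Polynomial.degree_C_mul_X_pow 2 hk]; rfl) hcard
    simp only [Polynomial.eval_add, Polynomial.eval_mul, Polynomial.eval_C, Polynomial.eval_pow,
      Polynomial.eval_X] at huv
    set x := u + (A 0 0 - A 1 1) * v / (2 * A 0 1) with hx
    refine ⟨!![x, v; -(x * (A 0 0 - A 1 1) + A 1 0 * v) / A 0 1, -x], ?_, ?_, ?_⟩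
    · simp [Matrix.trace_fin_two]
    · simp [Matrix.trace_fin_two, Matrix.mul_apply, Fin.sum_univ_two]; field_simp; ring
    · rw [Matrix.det_fin_two_of]
      have key : -u ^ 2 + D / (4 * A 0 1 ^ 2) * v ^ 2 = w0 := by linear_combination huv
      rw [← key, hx, hD]
      field_simp
      ring

open scoped Classical in
/-- The indicator of trace `±t`. -/
noncomputable def ind (t : F) : P → ZMod 2 :=
  fun x => if ∃ A : SL2, QuotientGroup.mk A = x ∧ (A : Matrix (Fin 2) (Fin 2) F).trace ^ 2 = t ^ 2 then 1 else 0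

open scoped Classical in
theorem ind_mk (t : F) (A : SL2) :
    ind t (QuotientGroup.mk A) = if (A : Matrix (Fin 2) (Fin 2) F).trace ^ 2 = t ^ 2 then 1 else 0 := by
  unfold ind
  refine if_congr ⟨?_, fun h => ⟨A, rfl, h⟩⟩ rfl rfl
  rintro ⟨B, hB, h⟩
  obtain ⟨r, hr, hc⟩ := CfsgLib.KnownC.PSLOrders.eq_smul_one_of_mem_center (QuotientGroup.eq.mp hB)
  have hA : (A : Matrix (Fin 2) (Fin 2) F) = r • (B : Matrix (Fin 2) (Fin 2) F) := by
    calc (A : Matrix (Fin 2) (Fin 2) F) = (B : Matrix (Fin 2) (Fin 2) F) * ((B⁻¹ * A : SL2) : Matrix (Fin 2) (Fin 2) F) := by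
          rw [← Matrix.SpecialLinearGroup.coe_mul, mul_inv_cancel_left]
      _ = _ := by rw [hc, Matrix.mul_smul, mul_one]
  rw [hA, Matrix.trace_smul, smul_eq_mul, mul_pow, hr, one_mul, h]

theorem ind_mem (h2 : (2 : F) ≠ 0) {t : F} (ht : t ≠ 0)
    (hns : ¬ IsSquare (t ^ 2 - 4)) : ind t ∈ W F := by
  classical
  intro N z
  obtain ⟨B, rfl⟩ := QuotientGroup.mk_surjective z
  simp only [← QuotientGroup.mk_mul, ind_mk]
  have htr : ∀ a : F, ((unip N a * B : SL2) : Matrix (Fin 2) (Fin 2) F).trace =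
      (B : Matrix (Fin 2) (Fin 2) F).trace + a * (N.1 * (B : Matrix (Fin 2) (Fin 2) F)).trace := by
    intro a
    change ((1 + a • N.1) * (B : Matrix (Fin 2) (Fin 2) F)).trace = _
    rw [add_mul, one_mul, Matrix.smul_mul, Matrix.trace_add, Matrix.trace_smul, smul_eq_mul]
  simp only [htr]
  set c := (N.1 * (B : Matrix (Fin 2) (Fin 2) F)).trace with hc
  by_cases hc0 : c = 0
  · have hne : (B : Matrix (Fin 2) (Fin 2) F).trace ^ 2 ≠ t ^ 2 := by
      intro h
      apply hns
      have h1 := N.2.1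
      have h3 := N.2.2.1
      have hB := B.2
      rw [hc, Matrix.trace_fin_two] at hc0
      simp only [Matrix.mul_apply, Fin.sum_univ_two] at hc0
      rw [Matrix.trace_fin_two] at h1 h
      rw [Matrix.det_fin_two] at h3 hB
      rw [← h]
      have e1 : N.1 1 1 = -N.1 0 0 := by linear_combination h1
      rw [e1] at hc0 h3
      by_cases hb : N.1 0 1 = 0
      · have ha : N.1 0 0 = 0 := by
          rw [hb] at h3
          exact mul_self_eq_zero.mp (by linear_combination -h3)
        have hne0 : N.1 1 0 ≠ 0 := by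
          intro h0
          apply N.2.2.2
          ext i j; fin_cases i <;> fin_cases j <;> simp [ha, hb, h0, e1]
        rw [ha, hb] at hc0
        have h01 : (B : Matrix (Fin 2) (Fin 2) F) 0 1 = 0 :=
          (mul_eq_zero.mp (show N.1 1 0 * _ = 0 by linear_combination hc0)).resolve_left hne0
        refine ⟨(B : Matrix (Fin 2) (Fin 2) F) 0 0 - (B : Matrix (Fin 2) (Fin 2) F) 1 1, ?_⟩
        rw [h01] at hB
        linear_combination 4 * hB
      · refine ⟨(B : Matrix (Fin 2) (Fin 2) F) 0 0 - (B : Matrix (Fin 2) (Fin 2) F) 1 1 -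
          2 * N.1 0 0 * (B : Matrix (Fin 2) (Fin 2) F) 0 1 / N.1 0 1, ?_⟩
        have e2 : N.1 1 0 = -(N.1 0 0 * N.1 0 0) / N.1 0 1 := by
          rw [eq_div_iff hb]; linear_combination -h3
        rw [e2] at hc0
        field_simp at hc0 ⊢
        linear_combination 4 * N.1 0 1 ^ 2 * hB + 4 * (B : Matrix (Fin 2) (Fin 2) F) 0 1 * hc0
    simp only [hc0, mul_zero, add_zero, if_neg hne, Finset.sum_const_zero]
  · rw [Finset.sum_boole]
    have hset : (Finset.univ.filter fun a : F => ((B : Matrix (Fin 2) (Fin 2) F).trace + a * c) ^ 2 = t ^ 2) =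
        {(t - (B : Matrix (Fin 2) (Fin 2) F).trace) / c, (-t - (B : Matrix (Fin 2) (Fin 2) F).trace) / c} := by
      ext a
      simp only [Finset.mem_filter, Finset.mem_univ, true_and, Finset.mem_insert, Finset.mem_singleton,
        sq_eq_sq_iff_eq_or_eq_neg, eq_div_iff hc0]
      constructor <;> rintro (h | h)
      · exact Or.inl (by linear_combination h)
      · exact Or.inr (by linear_combination h)
      · exact Or.inl (by linear_combination h)
      · exact Or.inr (by linear_combination h)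
    rw [hset, Finset.card_pair]
    · exact ZMod.natCast_self 2
    · rw [Ne, div_left_inj' hc0, sub_left_inj]
      intro h
      exact ht ((mul_eq_zero.mp (show 2 * t = 0 by linear_combination h)).resolve_left h2)

theorem exists_order_double (hp : p ≠ 2) (hcard : Fintype.card F = p) {t : F} (ht : t ≠ 0)
    (hns : ¬ IsSquare (t ^ 2 - 4)) (g : P) (hg1 : g ≠ 1) (hgp : ¬ p ∣ orderOf g) :
    ∃ x : Multiplicative (W F) ⋊[actHom] P, orderOf x = 2 * orderOf g := by
  classical
  have h2 := two_ne_zero_of_odd p hp (F := F)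
  have h4 : (4 : F) ≠ 0 := by rw [show (4 : F) = 2 * 2 by norm_num]; exact mul_ne_zero h2 h2
  obtain ⟨A, hA⟩ := QuotientGroup.mk_surjective g⁻¹
  have hd : disc (A : Matrix (Fin 2) (Fin 2) F) ≠ 0 := by
    rcases psl_cases hp hcard A with ⟨-, h⟩ | ⟨h, -⟩
    · exfalso
      rw [hA, inv_pow, inv_eq_one] at h
      exact hgp (dvd_of_eq (orderOf_eq_prime h hg1).symm)
    · exact h
  obtain ⟨Z, hZ1, hZ2, hZ3⟩ := exists_traceless h2 (A : Matrix (Fin 2) (Fin 2) F) hd (1 - t ^ 2 / 4)
  let B : SL2 := ⟨(t / 2) • 1 + Z, by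
    rw [Matrix.trace_fin_two] at hZ1
    rw [Matrix.det_fin_two] at hZ3
    simp only [Matrix.det_fin_two, Matrix.add_apply, Matrix.smul_apply, Matrix.one_apply_eq, smul_eq_mul,
      Matrix.one_apply_ne (show (0 : Fin 2) ≠ 1 by decide), Matrix.one_apply_ne (show (1 : Fin 2) ≠ 0 by decide)]
    field_simp at hZ3 ⊢
    linear_combination hZ3 + 2 * t * hZ1⟩
  let w : W F := ⟨ind t, ind_mem h2 ht hns⟩
  set n := orderOf g with hn
  have hBA : ∀ i : ℕ, 2 * ((A : Matrix (Fin 2) (Fin 2) F) ^ i * (B : Matrix (Fin 2) (Fin 2) F)).trace =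
      t * ((A : Matrix (Fin 2) (Fin 2) F) ^ i).trace := by
    intro i
    induction i using Nat.strong_induction_on with
    | _ i ih =>
      match i with
      | 0 =>
        rw [pow_zero, one_mul]
        change 2 * ((t / 2) • 1 + Z).trace = _
        rw [Matrix.trace_add, Matrix.trace_smul, hZ1, Matrix.trace_one, Fintype.card_fin, smul_eq_mul]
        field_simp
        ring
      | 1 =>
        rw [pow_one]
        change 2 * ((A : Matrix (Fin 2) (Fin 2) F) * ((t / 2) • 1 + Z)).trace = _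
        rw [mul_add, Matrix.mul_smul, mul_one, Matrix.trace_add, Matrix.trace_smul, hZ2, smul_eq_mul]
        field_simp
        ring
      | j + 2 =>
        have hA2 : (A : Matrix (Fin 2) (Fin 2) F) ^ (j + 2) =
            (A : Matrix (Fin 2) (Fin 2) F).trace • (A : Matrix (Fin 2) (Fin 2) F) ^ (j + 1) -
              (A : Matrix (Fin 2) (Fin 2) F) ^ j := by
          rw [pow_add, pow_two, sq_eq, A.2, one_smul, mul_sub, mul_one, Matrix.mul_smul, ← pow_succ]
        have i1 := ih j (by omega)
        have i2 := ih (j + 1) (by omega)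
        rw [hA2, sub_mul, Matrix.smul_mul, Matrix.trace_sub, Matrix.trace_sub, Matrix.trace_smul, Matrix.trace_smul,
          smul_eq_mul, smul_eq_mul]
        linear_combination (A : Matrix (Fin 2) (Fin 2) F).trace * i2 - i1
  have hval : (S w g n).1 (QuotientGroup.mk B) = 1 := by
    simp only [S, AddSubgroup.val_finsetSum, Finset.sum_apply, act_apply]
    have hterm : ∀ i, w.1 ((g ^ i)⁻¹ * QuotientGroup.mk B) =
        if ((A : Matrix (Fin 2) (Fin 2) F) ^ i).trace ^ 2 = 4 then 1 else 0 := by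
      intro i
      rw [← inv_pow, ← hA, ← QuotientGroup.mk_pow, ← QuotientGroup.mk_mul]
      change ind t _ = _
      rw [ind_mk, Matrix.SpecialLinearGroup.coe_mul, Matrix.SpecialLinearGroup.coe_pow]
      have e := hBA i
      refine if_congr ⟨fun h => ?_, fun h => ?_⟩ rfl rfl
      · apply mul_left_cancel₀ (pow_ne_zero 2 ht)
        rw [← mul_pow, ← e, mul_pow, h]; ring
      · apply mul_left_cancel₀ h4
        calc _ = (2 * ((A : Matrix (Fin 2) (Fin 2) F) ^ i * (B : Matrix (Fin 2) (Fin 2) F)).trace) ^ 2 := by ring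
          _ = _ := by rw [e, mul_pow, h]; ring
    rw [Finset.sum_congr rfl fun i _ => hterm i, Finset.sum_eq_single 0]
    · rw [if_pos]
      rw [pow_zero, Matrix.trace_one, Fintype.card_fin]
      norm_num
    · intro i hi hi0
      rw [if_neg]
      intro h
      have hdi : disc ((A ^ i : SL2) : Matrix (Fin 2) (Fin 2) F) = 0 := by
        rw [disc, (A ^ i).2, Matrix.SpecialLinearGroup.coe_pow, h, mul_one, sub_self]
      rcases psl_cases hp hcard (A ^ i) with ⟨-, h'⟩ | ⟨h', -⟩
      swap
      · exact h' hdi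
      rw [QuotientGroup.mk_pow, hA, inv_pow, inv_pow, inv_eq_one, ← pow_mul] at h'
      have hdvd := orderOf_dvd_of_pow_eq_one h'
      rw [← hn] at hdvd
      have hcop : Nat.Coprime n p := ((Fact.out : p.Prime).coprime_iff_not_dvd.mpr hgp).symm
      exact absurd (Nat.le_of_dvd (Nat.pos_of_ne_zero hi0) (hcop.dvd_of_dvd_mul_right hdvd))
        (by rw [Finset.mem_range] at hi; omega)
    · intro h0
      exact absurd (Finset.mem_range.mpr (orderOf_pos g)) h0
  set x : Multiplicative (W F) ⋊[actHom] P := ⟨Multiplicative.ofAdd w, g⟩ with hx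
  refine ⟨x, ?_⟩
  obtain ⟨d, hd'⟩ : n ∣ orderOf x := orderOf_map_dvd SemidirectProduct.rightHom x
  have hxn : x ^ n = ⟨Multiplicative.ofAdd (S w g n), 1⟩ := by rw [hx, pow_eq, pow_orderOf_eq_one]
  have hne : d ≠ 1 := by
    intro h
    have := pow_orderOf_eq_one x
    rw [hd', h, mul_one, hxn] at this
    have h0 : S w g n = 0 := congrArg (fun x : Multiplicative (W F) ⋊[actHom] P => x.left.toAdd) this
    rw [h0] at hval
    exact zero_ne_one hval
  have hdvd : orderOf x ∣ n * 2 := by
    apply orderOf_dvd_of_pow_eq_one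
    rw [pow_mul, hxn, pow_eq]
    refine SemidirectProduct.ext ?_ (one_pow _)
    change Multiplicative.ofAdd (S (S w g n) 1 2) = 1
    rw [show S (S w g n) 1 2 = 0 by
      rw [← smul_two (S w g n)]
      show ∑ i ∈ Finset.range 2, act (1 ^ i) (S w g n) = _
      simp only [one_pow, act_one, Finset.sum_const, Finset.card_range]]
    rfl
  rw [hd'] at hdvd ⊢
  rcases (Nat.dvd_prime Nat.prime_two).mp ((Nat.mul_dvd_mul_iff_left (orderOf_pos g)).mp hdvd) with h | h
  · exact absurd h hne
  · rw [h, mul_comm]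

omit [CharP F p] in
theorem exists_divisor_order {G : Type*} [Group G] [Finite G] {m n : ℕ} (x : G) (hx : orderOf x = m) (h : n ∣ m) :
    ∃ y : G, orderOf y = n :=
  ⟨x ^ (m / n), by subst hx; exact orderOf_pow_orderOf_div (orderOf_pos x).ne' h⟩

omit [Fintype F] in
theorem orderOf_psl_pow (B : SL2) {k : ℕ} (h : (QuotientGroup.mk B : P) ^ k = 1) : B ^ (2 * k) = 1 := by
  rw [← QuotientGroup.mk_pow, QuotientGroup.eq_one_iff] at h
  obtain ⟨r, hr, hc⟩ := CfsgLib.KnownC.PSLOrders.eq_smul_one_of_mem_center h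
  apply Subtype.ext
  rw [Matrix.SpecialLinearGroup.coe_pow] at hc ⊢
  rw [mul_comm, pow_mul, hc, _root_.smul_pow, hr, one_pow, one_smul, Matrix.SpecialLinearGroup.coe_one]

theorem exists_plus_elt (hp5 : 5 ≤ p) (hcard : Fintype.card F = p) :
    ∃ B : SL2, (∀ k, (QuotientGroup.mk B : P) ^ k = 1 → p + 1 ∣ 2 * k) ∧
      (B : Matrix (Fin 2) (Fin 2) F).trace ≠ 0 ∧
      ¬ IsSquare ((B : Matrix (Fin 2) (Fin 2) F).trace ^ 2 - 4) := by
  have hp : p ≠ 2 := by omega
  obtain ⟨A, hA⟩ := exists_singer p (F := F)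
  rw [hcard] at hA
  have hdet : ((A ^ (p - 1) : GL (Fin 2) F) : Matrix (Fin 2) (Fin 2) F).det = 1 := by
    rw [Units.val_pow_eq_pow_val, Matrix.det_pow, ← hcard]
    exact FiniteField.pow_card_sub_one_eq_one _ ((Matrix.isUnit_iff_isUnit_det _).mp A.isUnit).ne_zero
  let B : SL2 := ⟨_, hdet⟩
  have hmul : (p + 1) * (p - 1) = p ^ 2 - 1 := by rw [← Nat.sq_sub_sq, one_pow]
  have hB : ∀ k, B ^ k = 1 → p + 1 ∣ k := by
    intro k hk
    have h : A ^ ((p - 1) * k) = 1 := by
      rw [pow_mul]
      apply Units.ext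
      rw [Units.val_pow_eq_pow_val, Units.val_one]
      exact (Matrix.SpecialLinearGroup.coe_pow B k).symm.trans (congrArg Subtype.val hk)
    have h' := orderOf_dvd_of_pow_eq_one h
    rw [hA, ← hmul, mul_comm] at h'
    exact Nat.dvd_of_mul_dvd_mul_left (by omega) h'
  refine ⟨B, fun k hk => hB _ (orderOf_psl_pow B hk), ?_, ?_⟩
  · intro h0
    have h : B ^ 4 = 1 := by
      apply Subtype.ext
      have hsq := sq_eq (B : Matrix (Fin 2) (Fin 2) F)
      rw [h0, B.2, zero_smul, one_smul, zero_sub] at hsq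
      rw [Matrix.SpecialLinearGroup.coe_pow, show 4 = 2 * 2 from rfl, pow_mul, pow_two (B : Matrix (Fin 2) (Fin 2) F),
        hsq, neg_one_sq, Matrix.SpecialLinearGroup.coe_one]
    have := Nat.le_of_dvd (by norm_num) (hB 4 h)
    omega
  · intro hsq
    have hsq' : IsSquare (disc (B : Matrix (Fin 2) (Fin 2) F)) := by rwa [disc, B.2, mul_one]
    rcases psl_cases hp hcard B with ⟨-, h⟩ | ⟨hd, -⟩
    · have h1 := hB _ (orderOf_psl_pow B h)
      have h2 : Nat.Coprime (p + 1) p := by simp
      have := Nat.le_of_dvd (by norm_num) (h2.dvd_of_dvd_mul_right h1)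
      omega
    · have h := pow_card_of_isSquare p hp _ hd hsq'
      rw [hcard] at h
      have h' : B ^ (p - 1) = 1 := by
        apply mul_right_cancel (b := B)
        rw [one_mul, ← pow_succ, Nat.sub_add_cancel (Fact.out : p.Prime).one_le]
        exact Subtype.ext (by rw [Matrix.SpecialLinearGroup.coe_pow, h])
      have := Nat.le_of_dvd (by omega) (hB _ h')
      omega

theorem exists_orderOf (hp5 : 5 ≤ p) (hcard : Fintype.card F = p) :
    (∃ x : Multiplicative (W F) ⋊[actHom] P, orderOf x = p) ∧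
    (∃ x : Multiplicative (W F) ⋊[actHom] P, orderOf x = p - 1) ∧
    (∃ x : Multiplicative (W F) ⋊[actHom] P, orderOf x = p + 1) := by
  classical
  have hp : p ≠ 2 := by omega
  obtain ⟨B, hB, htr, hns⟩ := exists_plus_elt hp5 hcard
  obtain ⟨hh1, hh2⟩ := two_mul_half hp
  have key : ∀ (C : SL2) (m : ℕ), 2 * m = p - 1 ∨ 2 * m = p + 1 →
      (∀ k, (QuotientGroup.mk C : P) ^ k = 1 → 2 * m ∣ 2 * k) →
      ∃ x : Multiplicative (W F) ⋊[actHom] P, orderOf x = 2 * m := by
    intro C m hm hC
    have hmdvd : m ∣ orderOf (QuotientGroup.mk C : P) :=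
      Nat.dvd_of_mul_dvd_mul_left (by norm_num) (hC _ (pow_orderOf_eq_one _))
    have hord : orderOf (QuotientGroup.mk C : P) = m := by
      refine Nat.dvd_antisymm ?_ hmdvd
      rcases psl_cases hp hcard C with ⟨-, h⟩ | ⟨-, h | h⟩
      · have h1 := Nat.le_of_dvd (by omega) (hmdvd.trans (orderOf_dvd_of_pow_eq_one h))
        rcases (Nat.dvd_prime (Fact.out : p.Prime)).mp (hmdvd.trans (orderOf_dvd_of_pow_eq_one h)) with h2 | h2 <;> omega
      all_goals
        have h1 := orderOf_dvd_of_pow_eq_one h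
        rcases hm with hm | hm
      · rwa [show (p - 1) / 2 = m by omega] at h1
      · have h2 := Nat.le_of_dvd (by omega) (hmdvd.trans h1); omega
      · exfalso
        have h2 : m ∣ (p + 1) / 2 := hmdvd.trans h1
        rw [show (p + 1) / 2 = m + 1 by omega, Nat.dvd_add_self_left] at h2
        have := Nat.le_of_dvd (by norm_num) h2
        omega
      · rwa [show (p + 1) / 2 = m by omega] at h1
    rw [← hord]
    refine exists_order_double hp hcard htr hns (QuotientGroup.mk C : P) ?_ ?_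
    · intro h; rw [h, orderOf_one] at hord; omega
    · rw [hord]
      intro h
      have := Nat.le_of_dvd (by omega) h
      omega
  refine ⟨?_, ?_, ?_⟩
  · let N : Nil F := ⟨!![0, 1; 0, 0], by simp [Matrix.trace_fin_two], by simp [Matrix.det_fin_two], fun h => by
      have := congrFun (congrFun h 0) 1
      simp at this⟩
    refine ⟨SemidirectProduct.inr (QuotientGroup.mk (unip N 1)), ?_⟩
    rw [orderOf_injective _ SemidirectProduct.inr_injective]
    refine orderOf_eq_prime ?_ ?_
    · rw [← QuotientGroup.mk_pow]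
      have : ∀ k : ℕ, unip N 1 ^ k = unip N (k : F) := by
        intro k
        induction k with
        | zero => rw [pow_zero, Nat.cast_zero]; exact (Subtype.ext (by simp [unip])).symm
        | succ k ih => rw [pow_succ, ih, Nat.cast_succ, unip_add]
      rw [this, CharP.cast_eq_zero, show unip N (0 : F) = 1 from Subtype.ext (by simp [unip]), QuotientGroup.mk_one]
    · intro h
      obtain ⟨r, -, hr⟩ := CfsgLib.KnownC.PSLOrders.eq_smul_one_of_mem_center ((QuotientGroup.eq_one_iff _).mp h)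
      have := congrFun (congrFun hr 0) 1
      simp [unip, N] at this
  · obtain ⟨ζ, hζ⟩ := IsCyclic.exists_ofOrder_eq_natCard (α := Fˣ)
    rw [Nat.card_units, Nat.card_eq_fintype_card, hcard] at hζ
    let C : SL2 := ⟨Matrix.diagonal ![(ζ : F), (ζ : F)⁻¹], by
      rw [Matrix.det_diagonal, Fin.prod_univ_two]; simp⟩
    rw [← hh1]
    refine key C _ (Or.inl hh1) fun k hk => ?_
    rw [hh1, ← hζ]
    apply orderOf_dvd_of_pow_eq_one
    have := congrArg (fun M : SL2 => (M : Matrix (Fin 2) (Fin 2) F) 0 0) (orderOf_psl_pow C hk)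
    simp only [Matrix.SpecialLinearGroup.coe_pow, Matrix.SpecialLinearGroup.coe_one, Matrix.one_apply_eq] at this
    change (Matrix.diagonal ![(ζ : F), (ζ : F)⁻¹] ^ (2 * k)) 0 0 = 1 at this
    rw [Matrix.diagonal_pow, Matrix.diagonal_apply_eq] at this
    apply Units.ext
    rw [Units.val_pow_eq_pow_val, Units.val_one]
    exact this
  · rw [← hh2]
    exact key B _ (Or.inr hh2) fun k hk => by rw [hh2]; exact hB k hk

/-- `PGL₂(p)` shares its element orders with groups of arbitrarily large order. -/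
theorem exists_large (hp5 : 5 ≤ p) (hcard : Fintype.card F = p) (M : ℕ) :
    ∃ (H : Type) (_ : Group H) (_ : Fintype H), M < Fintype.card H ∧
      Set.range (orderOf : H → ℕ) = Set.range (orderOf :
        Matrix.GeneralLinearGroup (Fin 2) F ⧸ Subgroup.center (Matrix.GeneralLinearGroup (Fin 2) F) → ℕ) := by
  classical
  have hp : p ≠ 2 := by omega
  haveI : Finite (W F) := Finite.of_injective _ Subtype.val_injective
  haveI : Finite (Multiplicative (W F) ⋊[actHom] P) := Finite.of_equiv _ SemidirectProduct.equivProd.symm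
  let K : Subgroup (Multiplicative (W F) ⋊[actHom] P) :=
    (SemidirectProduct.inl : Multiplicative (W F) →* Multiplicative (W F) ⋊[actHom] P).range
  haveI : K.Normal := by
    simp only [K, SemidirectProduct.range_inl_eq_ker_rightHom]
    exact MonoidHom.normal_ker _
  haveI : Group.IsSolvable K := Group.isSolvable_of_surjective
    (MonoidHom.rangeRestrict_surjective (SemidirectProduct.inl : Multiplicative (W F) →* Multiplicative (W F) ⋊[actHom] P))
  obtain ⟨B, -, htr, hns⟩ := exists_plus_elt hp5 hcard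
  have hK : K ≠ ⊥ := by
    intro h
    let w : W F := ⟨ind _, ind_mem (two_ne_zero_of_odd p hp) htr hns⟩
    have hm : (SemidirectProduct.inl (Multiplicative.ofAdd w) : Multiplicative (W F) ⋊[actHom] P) ∈ K := ⟨_, rfl⟩
    rw [h, Subgroup.mem_bot] at hm
    have h1 := congrArg (fun x : Multiplicative (W F) ⋊[actHom] P => x.left.toAdd.1 (QuotientGroup.mk B)) hm
    change ind _ _ = (0 : ZMod 2) at h1
    rw [ind_mk, if_pos rfl] at h1
    exact one_ne_zero h1
  obtain ⟨H, i1, i2, hlt, hspec⟩ := FibrePower.exists_large_of_solvable_normal K hK M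
  refine ⟨H, i1, i2, hlt, hspec.trans (Set.ext fun n => ⟨?_, ?_⟩)⟩
  · rintro ⟨x, rfl⟩
    rcases orderOf_cases hp hcard x with h | h | h
    · obtain ⟨y, hy⟩ := pgl_exists_char p (F := F); exact exists_divisor_order y hy h
    · obtain ⟨y, hy⟩ := pgl_exists_minus (F := F); rw [Nat.card_eq_fintype_card, hcard] at hy
      exact exists_divisor_order y hy h
    · obtain ⟨y, hy⟩ := pgl_exists_plus p (F := F) hp; rw [hcard] at hy
      exact exists_divisor_order y hy h
  · rintro ⟨x, rfl⟩
    obtain ⟨⟨a, ha⟩, ⟨b, hb⟩, ⟨c, hc⟩⟩ := exists_orderOf hp5 hcard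
    rcases pgl_orderOf_dvd p hp x with h | h | h
    · exact exists_divisor_order a ha h
    · rw [hcard] at h; exact exists_divisor_order b hb h
    · rw [hcard] at h; exact exists_divisor_order c hc h

end CfsgLib.Recognition.CuspidalTwo
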