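import Mathlib

/-!
Extremely primitive groups: point stabilisers act faithfully on their nontrivial orbits.
-/

namespace CfsgLib.Recognition.ExtremelyPrimitive

open MulAction

variable {G : Type*} [Group G] {Ω : Type*} [MulAction G Ω]

/-- The orbital relation of a pair. -/
def Rel (G : Type*) [Group G] {Ω : Type*} [MulAction G Ω] (α β a b : Ω) : Prop :=
  ∃ g : G, g • α = a ∧ g • β = b

theorem rel_smul {α β a b : Ω} (h : Rel G α β a b) (g : G) : Rel G α β (g • a) (g • b) := by
  obtain ⟨x, h1, h2⟩ := h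
  exact ⟨g * x, by rw [mul_smul, h1], by rw [mul_smul, h2]⟩

/-- Out-neighbours and in-neighbours are equally many. -/
theorem card_in_eq_card_out [Finite Ω] [IsPretransitive G Ω] (α β c d : Ω) :
    Nat.card {b : Ω // Rel G α β c b} = Nat.card {a : Ω // Rel G α β a d} := by
  have hout : ∀ a : Ω, Nat.card {b : Ω // Rel G α β a b} = Nat.card {b : Ω // Rel G α β c b} := by
    intro a
    obtain ⟨g, rfl⟩ := exists_smul_eq G c a
    refine Nat.card_congr (Equiv.subtypeEquiv (MulAction.toPerm g⁻¹) fun b => ⟨fun h => ?_, fun h => ?_⟩)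
    · have := rel_smul h g⁻¹
      rwa [inv_smul_smul] at this
    · have := rel_smul h g
      rwa [MulAction.toPerm_apply, smul_inv_smul] at this
  have hin : ∀ b : Ω, Nat.card {a : Ω // Rel G α β a b} = Nat.card {a : Ω // Rel G α β a d} := by
    intro b
    obtain ⟨g, rfl⟩ := exists_smul_eq G d b
    refine Nat.card_congr (Equiv.subtypeEquiv (MulAction.toPerm g⁻¹) fun a => ⟨fun h => ?_, fun h => ?_⟩)
    · have := rel_smul h g⁻¹
      rwa [inv_smul_smul] at this
    · have := rel_smul h g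
      rwa [MulAction.toPerm_apply, smul_inv_smul] at this
  haveI := Fintype.ofFinite Ω
  have e : (Σ a : Ω, {b : Ω // Rel G α β a b}) ≃ (Σ b : Ω, {a : Ω // Rel G α β a b}) :=
    { toFun := fun x => ⟨x.2.1, x.1, x.2.2⟩
      invFun := fun x => ⟨x.2.1, x.1, x.2.2⟩
      left_inv := fun _ => rfl
      right_inv := fun _ => rfl }
  have h := Nat.card_congr e
  rw [Nat.card_sigma, Nat.card_sigma] at h
  simp only [hout, hin, Finset.sum_const, Finset.card_univ, smul_eq_mul] at h
  exact Nat.eq_of_mul_eq_mul_left (Fintype.card_pos_iff.mpr ⟨c⟩) h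

/-- Manning's theorem on extremely primitive groups. -/
theorem faithful_on_orbits [Finite G] [Finite Ω] [FaithfulSMul G Ω] [IsPreprimitive G Ω]
    (hep : ∀ (α : Ω) (ω : Ω), IsPreprimitive (stabilizer G α) (orbit (stabilizer G α) ω))
    {α β : Ω} (hne : β ≠ α) {h : G} (hh : h ∈ stabilizer G α) (hfix : ∀ x ∈ orbit (stabilizer G α) β, h • x = x) :
    h = 1 := by
  haveI : Nontrivial Ω := ⟨⟨β, α, hne⟩⟩
  set H := stabilizer G α with hH
  set Γ : Set Ω := orbit H β with hΓ
  set K : Subgroup G := fixingSubgroup G Γ ⊓ H with hK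
  have hco : IsCoatom H := IsPreprimitive.isCoatom_stabilizer_of_isPreprimitive G α
  have hinv : ∀ g ∈ H, ∀ x ∈ Γ, g • x ∈ Γ := fun g hg x hx => by
    have h1 := MulAction.mem_orbit_of_mem_orbit (⟨g, hg⟩ : H) hx
    exact h1
  have hKn : ∀ g ∈ H, ∀ k ∈ K, g * k * g⁻¹ ∈ K := by
    intro g hg k hk
    refine ⟨(mem_fixingSubgroup_iff G).mpr fun x hx => ?_, H.mul_mem (H.mul_mem hg hk.2) (H.inv_mem hg)⟩
    rw [mul_smul, mul_smul, (mem_fixingSubgroup_iff G).mp hk.1 _ (hinv _ (H.inv_mem hg) _ hx), smul_inv_smul]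
  have hrelΓ : ∀ x, Rel G α β α x ↔ x ∈ Γ := fun x =>
    ⟨fun ⟨g, h1, h2⟩ => ⟨⟨g, h1⟩, h2⟩, fun ⟨g, hg⟩ => ⟨g, g.2, hg⟩⟩
  -- the out-neighbours of the orbit are fixed
  have key : ∀ γ ∈ Γ, ∀ δ, Rel G α β γ δ → ∀ k ∈ K, k • δ = δ := by
    intro γ0 hγ0 δ hδ k0 hk0
    by_contra hmove
    haveI : IsPreprimitive H (orbit H δ) := hep α δ
    haveI hKN : (K.subgroupOf H).Normal :=
      ⟨fun k hk g => hKn g g.2 k hk⟩
    haveI : IsPretransitive (K.subgroupOf H) (orbit H δ) := by
      refine IsQuasiPreprimitive.isPretransitive_of_normal fun he => hmove ?_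
      have h1 : (⟨δ, mem_orbit_self δ⟩ : orbit H δ) ∈ fixedPoints (K.subgroupOf H) (orbit H δ) :=
        he ▸ Set.mem_univ _
      exact congrArg Subtype.val (h1 ⟨⟨k0, hk0.2⟩, hk0⟩)
    have hsub : ∀ γ ∈ Γ, Rel G α β γ δ := by
      intro γ hγ
      obtain ⟨g, hg⟩ : γ ∈ orbit H γ0 := by
        rw [MulAction.orbit_eq_iff.mpr hγ0]; exact hγ
      obtain ⟨k, hk⟩ := exists_smul_eq (K.subgroupOf H) (⟨g • δ, mem_orbit δ g⟩ : orbit H δ) ⟨δ, mem_orbit_self δ⟩
      have h1 := rel_smul (rel_smul hδ (g : G)) ((k : H) : G)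
      have h2 : ((k : H) : G) • (g : G) • δ = δ := congrArg Subtype.val hk
      have h3 : ((k : H) : G) • (g : G) • γ0 = γ := by
        have : (g : G) • γ0 = γ := hg
        rw [this]
        exact (mem_fixingSubgroup_iff G).mp k.2.1 _ hγ
      rwa [h2, h3] at h1
    have hcard : Nat.card Γ = Nat.card {a : Ω // Rel G α β a δ} := by
      rw [← card_in_eq_card_out α β α δ]
      exact Nat.card_congr (Equiv.subtypeEquivRight fun x => (hrelΓ x).symm)
    have heq : {a : Ω | Rel G α β a δ} = Γ :=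
      (Set.eq_of_subset_of_ncard_le (s := Γ) (t := {a : Ω | Rel G α β a δ}) hsub (by
        rw [← Nat.card_coe_set_eq, ← Nat.card_coe_set_eq]; exact hcard.ge) (Set.toFinite _)).symm
    -- the set stabiliser of the orbit
    let S : Subgroup G :=
      { carrier := {g | (∀ x ∈ Γ, g • x ∈ Γ) ∧ ∀ x ∈ Γ, g⁻¹ • x ∈ Γ}
        one_mem' := ⟨fun x hx => by rwa [one_smul], fun x hx => by rwa [inv_one, one_smul]⟩
        mul_mem' := fun {a b} ha hb => ⟨fun x hx => by rw [mul_smul]; exact ha.1 _ (hb.1 _ hx),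
          fun x hx => by rw [mul_inv_rev, mul_smul]; exact hb.2 _ (ha.2 _ hx)⟩
        inv_mem' := fun {a} ha => ⟨ha.2, fun x hx => by rw [inv_inv]; exact ha.1 _ hx⟩ }
    have hHS : H ≤ S := fun g hg => ⟨hinv g hg, hinv g⁻¹ (H.inv_mem hg)⟩
    have hSne : S ≠ ⊤ := by
      intro hS
      obtain ⟨g, hg⟩ := exists_smul_eq G β α
      have hα : α ∈ Γ := hg ▸ (hS ▸ Subgroup.mem_top g : g ∈ S).1 β (mem_orbit_self β)
      obtain ⟨⟨g', hg'⟩, e⟩ := hα
      have e' : g' • β = α := e
      exact hne (MulAction.injective g' (e'.trans (mem_stabilizer_iff.mp hg').symm))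
    have hδS : stabilizer G δ ≤ S := by
      have h1 : ∀ g ∈ stabilizer G δ, ∀ x ∈ Γ, g • x ∈ Γ := by
        intro g hg x hx
        rw [← heq] at hx ⊢
        have := rel_smul hx g
        rwa [mem_stabilizer_iff.mp hg] at this
      exact fun g hg => ⟨h1 g hg, h1 g⁻¹ (inv_mem hg)⟩
    have hSH : S = H := (hco.le_iff.mp hHS).resolve_left hSne
    have hδH : stabilizer G δ = H :=
      (((IsPreprimitive.isCoatom_stabilizer_of_isPreprimitive G δ).le_iff.mp (hδS.trans hSH.le)).resolve_left hco.1).symm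
    have hk0H : k0 ∈ stabilizer G δ := hδH.symm ▸ hk0.2
    exact hmove hk0H
  obtain ⟨g, hg⟩ := exists_smul_eq G α β
  have hgconj : ∀ k ∈ K, g⁻¹ * k * g ∈ K := by
    intro k hk
    refine ⟨(mem_fixingSubgroup_iff G).mpr fun x hx => ?_, ?_⟩
    · have h1 := rel_smul ((hrelΓ x).mpr hx) g
      rw [hg] at h1
      rw [mul_smul, mul_smul, key β (mem_orbit_self β) _ h1 k hk, inv_smul_smul]
    · show (g⁻¹ * k * g) • α = α
      rw [mul_smul, mul_smul, hg, (mem_fixingSubgroup_iff G).mp hk.1 _ (mem_orbit_self β), ← hg,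
        inv_smul_smul]
  have hnorm : Subgroup.normalizer (K : Set G) = ⊤ := by
    have hfin : ∀ x : G, (∀ k ∈ K, x * k * x⁻¹ ∈ K) → x ∈ Subgroup.normalizer (K : Set G) := fun x hx => by
      refine Subgroup.mem_normalizer_fintype ?_
      exact hx
    have h1 : H ≤ Subgroup.normalizer (K : Set G) := fun x hx => hfin x (hKn x hx)
    have h2 : g⁻¹ ∈ Subgroup.normalizer (K : Set G) := hfin _ (fun k hk => by rw [inv_inv]; exact hgconj k hk)
    refine (hco.le_iff.mp h1).resolve_right fun e => ?_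
    rw [e, Subgroup.inv_mem_iff, hH, mem_stabilizer_iff, hg] at h2
    exact hne h2
  haveI : K.Normal := Subgroup.normalizer_eq_top_iff.mp hnorm
  have hhK : h ∈ K := ⟨(mem_fixingSubgroup_iff G).mpr hfix, hh⟩
  refine eq_of_smul_eq_smul fun x : Ω => ?_
  obtain ⟨y, rfl⟩ := exists_smul_eq G α x
  have h1 : y⁻¹ * h * y ∈ K := by
    have := (inferInstance : K.Normal).conj_mem h hhK y⁻¹
    rwa [inv_inv] at this
  have h2 : (y⁻¹ * h * y) • α = α := h1.2
  rw [mul_smul, mul_smul, inv_smul_eq_iff] at h2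
  rw [one_smul]
  exact h2

section FaithfulPrimitive

variable {A : Type*} [Group A] {X : Type*} [MulAction A X] [FaithfulSMul A X] [IsPreprimitive A X]

theorem normal_transitive (N : Subgroup A) [N.Normal] (hN : N ≠ ⊥) : IsPretransitive N X := by
  refine IsQuasiPreprimitive.isPretransitive_of_normal fun he => hN ?_
  refine (Subgroup.eq_bot_iff_forall _).mpr fun n hn => eq_of_smul_eq_smul fun x : X => ?_
  rw [one_smul]
  exact (he ▸ Set.mem_univ x : x ∈ fixedPoints N X) ⟨n, hn⟩

/-- An element centralising a nontrivial normal subgroup has no fixed points unless trivial. -/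
theorem eq_one_of_centralizes (N : Subgroup A) [N.Normal] (hN : N ≠ ⊥) {c : A}
    (hc : c ∈ Subgroup.centralizer (N : Set A)) {x : X} (hx : c • x = x) : c = 1 := by
  haveI := normal_transitive (X := X) N hN
  refine eq_of_smul_eq_smul fun y : X => ?_
  obtain ⟨n, hn⟩ := exists_smul_eq N x y
  have hn' : (n : A) • x = y := hn
  rw [one_smul, ← hn', ← mul_smul, ← Subgroup.mem_centralizer_iff.mp hc n n.2, mul_smul, hx]

theorem regular_of_comm (N : Subgroup A) [N.Normal] (hN : N ≠ ⊥) (hc : ∀ a ∈ N, ∀ b ∈ N, a * b = b * a)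
    [Nonempty X] : (∀ n ∈ N, ∀ x : X, n • x = x → n = 1) ∧ Subgroup.centralizer (N : Set A) = N ∧
      Nat.card N = Nat.card X := by
  have hsemi : ∀ n ∈ N, ∀ x : X, n • x = x → n = 1 := fun n hn x hx =>
    eq_one_of_centralizes N hN (Subgroup.mem_centralizer_iff.mpr fun m hm => hc m hm n hn) hx
  haveI := normal_transitive (X := X) N hN
  refine ⟨hsemi, ?_, ?_⟩
  · refine le_antisymm (fun c hcc => ?_) (fun n hn => Subgroup.mem_centralizer_iff.mpr fun m hm => hc m hm n hn)
    obtain ⟨x⟩ := ‹Nonempty X›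
    obtain ⟨n, hn⟩ := exists_smul_eq N x (c • x)
    have hn' : (n : A) • x = c • x := hn
    have hnc : (n : A) ∈ Subgroup.centralizer (N : Set A) :=
      Subgroup.mem_centralizer_iff.mpr fun m hm => hc m hm n n.2
    have h1 : (n : A)⁻¹ * c = 1 := eq_one_of_centralizes N hN (mul_mem (inv_mem hnc) hcc)
      (by rw [mul_smul, ← hn', inv_smul_smul] : ((n : A)⁻¹ * c) • x = x)
    rw [← eq_of_inv_mul_eq_one h1]
    exact n.2
  · obtain ⟨x⟩ := ‹Nonempty X›
    refine Nat.card_congr (Equiv.ofBijective (fun n : N => (n : A) • x) ⟨fun a b h => ?_, fun y => ?_⟩)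
    · have h' : (a : A) • x = (b : A) • x := h
      have h1 := hsemi _ (N.mul_mem (N.inv_mem b.2) a.2) x (by rw [mul_smul, h', inv_smul_smul])
      exact Subtype.ext (eq_of_inv_mul_eq_one h1).symm
    · exact exists_smul_eq N x y

theorem center_eq_bot [Finite A] [Nontrivial X] (hp : ¬ (Nat.card A).Prime) : Subgroup.center A = ⊥ := by
  by_contra hne
  have hcc : ∀ a ∈ Subgroup.center A, ∀ b ∈ Subgroup.center A, a * b = b * a := fun a _ b hb =>
    Subgroup.mem_center_iff.mp hb a
  obtain ⟨hsemi, hcent, -⟩ := regular_of_comm (X := X) (Subgroup.center A) hne hcc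
  have htop : ∀ a : A, a ∈ Subgroup.center A := fun a => by
    rw [← hcent]
    exact Subgroup.mem_centralizer_iff.mpr fun m hm => (Subgroup.mem_center_iff.mp hm a).symm
  obtain ⟨x⟩ := (inferInstance : Nonempty X)
  have hbot : stabilizer A x = ⊥ := (Subgroup.eq_bot_iff_forall _).mpr fun a ha => hsemi a (htop a) x ha
  have hco : IsCoatom (stabilizer A x) := IsPreprimitive.isCoatom_stabilizer_of_isPreprimitive A x
  rw [hbot] at hco
  haveI : Nontrivial A := by
    by_contra h
    rw [not_nontrivial_iff_subsingleton] at h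
    exact hco.1 (Subsingleton.elim _ _)
  haveI : IsSimpleGroup A := ⟨fun N _ => by
    rcases eq_or_ne N ⊥ with h | h
    · exact Or.inl h
    · exact Or.inr (hco.2 N (bot_lt_iff_ne_bot.mpr h))⟩
  letI : CommGroup A := { (inferInstance : Group A) with mul_comm := fun a b => Subgroup.mem_center_iff.mp (htop b) a }
  exact hp IsSimpleGroup.prime_card

/-- A nilpotent normal subgroup of a faithful primitive group is abelian of prime exponent. -/
theorem nilpotent_normal [Finite A] [Nonempty X] (F : Subgroup A) [F.Normal] [Group.IsNilpotent F] (hF : F ≠ ⊥) :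
    (∀ a ∈ F, ∀ b ∈ F, a * b = b * a) ∧ ∃ p e : ℕ, p.Prime ∧ Nat.card F = p ^ e ∧ ∀ a ∈ F, a ^ p = 1 := by
  haveI : Nontrivial F := (Subgroup.nontrivial_iff_ne_bot F).mpr hF
  set Z := (Subgroup.center F).map F.subtype with hZ
  have hZne : Z ≠ ⊥ := by
    rw [hZ, Ne, Subgroup.map_eq_bot_iff_of_injective _ F.subtype_injective]
    exact Group.IsNilpotent.center_ne_bot _
  have hZc : ∀ a ∈ Z, ∀ b ∈ F, a * b = b * a := by
    rintro _ ⟨a, ha, rfl⟩ b hb
    exact congrArg Subtype.val (Subgroup.mem_center_iff.mp ha ⟨b, hb⟩).symm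
  have hZF : Z ≤ F := Subgroup.map_subtype_le _
  obtain ⟨-, hcent, -⟩ := regular_of_comm (X := X) Z hZne fun a ha b hb => hZc a ha b (hZF hb)
  have hFZ : F ≤ Z := hcent ▸ fun b hb => Subgroup.mem_centralizer_iff.mpr fun a ha => hZc a ha b hb
  have hcomm : ∀ a ∈ F, ∀ b ∈ F, a * b = b * a := fun a ha b hb => hZc a (hFZ ha) b hb
  obtain ⟨p, hp, hdvd⟩ := Nat.exists_prime_and_dvd (Finite.one_lt_card (α := F)).ne'
  haveI := Fact.mk hp
  let O : Subgroup A :=
    { carrier := {a | a ∈ F ∧ a ^ p = 1}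
      one_mem' := ⟨F.one_mem, one_pow p⟩
      mul_mem' := fun {a b} ha hb => ⟨F.mul_mem ha.1 hb.1, by
        rw [(show Commute a b from hcomm a ha.1 b hb.1).mul_pow, ha.2, hb.2, one_mul]⟩
      inv_mem' := fun {a} ha => ⟨F.inv_mem ha.1, by rw [inv_pow, ha.2, inv_one]⟩ }
  haveI : O.Normal := ⟨fun a ha g => ⟨(inferInstance : F.Normal).conj_mem a ha.1 g, by
    rw [conj_pow, ha.2, mul_one, mul_inv_cancel]⟩⟩
  have hOne : O ≠ ⊥ := by
    obtain ⟨a, ha⟩ := exists_prime_orderOf_dvd_card' p hdvd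
    intro h
    have h1 : (a : A) ∈ O := ⟨a.2, by rw [← Subgroup.coe_pow, ← ha, pow_orderOf_eq_one, Subgroup.coe_one]⟩
    rw [h, Subgroup.mem_bot] at h1
    rw [show a = 1 from Subtype.ext h1, orderOf_one] at ha
    exact hp.ne_one ha.symm
  obtain ⟨-, hcO, -⟩ := regular_of_comm (X := X) O hOne fun a ha b hb => hcomm a ha.1 b hb.1
  have hexp : ∀ a ∈ F, a ^ p = 1 := fun a ha => by
    have h1 : a ∈ Subgroup.centralizer (O : Set A) := Subgroup.mem_centralizer_iff.mpr fun m hm => hcomm m hm.1 a ha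
    rw [hcO] at h1
    exact h1.2
  obtain ⟨e, he⟩ := IsPGroup.iff_card.mp
    (fun a : F => ⟨1, Subtype.ext (by rw [pow_one, Subgroup.coe_pow, hexp a a.2, Subgroup.coe_one])⟩ : IsPGroup p F)
  exact ⟨hcomm, p, e, hp, he, hexp⟩

end FaithfulPrimitive

section Orbits

variable [Finite G] [Finite Ω] [FaithfulSMul G Ω] [IsPreprimitive G Ω]

/-- The orbits of a point stabiliser are faithful primitive sets. -/
theorem orbit_facts
    (hep : ∀ (α : Ω) (ω : Ω), IsPreprimitive (stabilizer G α) (orbit (stabilizer G α) ω))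
    {α ω : Ω} (hne : ω ≠ α) (hH : stabilizer G α ≠ ⊥) :
    FaithfulSMul (stabilizer G α) (orbit (stabilizer G α) ω) ∧ Nontrivial (orbit (stabilizer G α) ω) := by
  refine ⟨⟨fun {a b} hab => ?_⟩, ?_⟩
  · apply Subtype.ext
    apply eq_of_inv_mul_eq_one
    have h1 : (a⁻¹ * b : stabilizer G α) = 1 := Subtype.ext (faithful_on_orbits hep hne (a⁻¹ * b).2 fun x hx => by
      have h2 := congrArg Subtype.val (hab ⟨x, hx⟩)
      have h3 : (a : G) • x = (b : G) • x := h2
      show ((a : G)⁻¹ * b) • x = x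
      rw [mul_smul, ← h3, inv_smul_smul])
    exact congrArg Subtype.val h1
  · by_contra hnt
    rw [not_nontrivial_iff_subsingleton] at hnt
    refine hH ((Subgroup.eq_bot_iff_forall _).mpr fun g hg => faithful_on_orbits hep hne hg fun x hx => ?_)
    exact congrArg Subtype.val (Subsingleton.elim (⟨g • x, MulAction.mem_orbit_of_mem_orbit (⟨g, hg⟩ : stabilizer G α) hx⟩ :
      orbit (stabilizer G α) ω) ⟨x, hx⟩)

/-- A semiregular subgroup on the points other than the fixed one has order dividing `n - 1`. -/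
theorem card_dvd_pred (hep : ∀ (α : Ω) (ω : Ω), IsPreprimitive (stabilizer G α) (orbit (stabilizer G α) ω))
    (α : Ω) (hH : stabilizer G α ≠ ⊥) (F : Subgroup (stabilizer G α)) [F.Normal] (hF : F ≠ ⊥)
    (hc : ∀ a ∈ F, ∀ b ∈ F, a * b = b * a) : Nat.card F ∣ Nat.card Ω - 1 := by
  classical
  let S : SubMulAction F Ω :=
    { carrier := {x | x ≠ α}
      smul_mem' := fun f x hx h => hx (by
        have h1 : ((f : stabilizer G α) : G) • α = α := (f : stabilizer G α).2
        exact MulAction.injective ((f : stabilizer G α) : G) ((h : ((f : stabilizer G α) : G) • x = α).trans h1.symm)) }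
  have hfree : ∀ b : S, MulAction.stabilizer F b = ⊥ := by
    intro b
    refine (Subgroup.eq_bot_iff_forall _).mpr fun f hf => ?_
    obtain ⟨hf1, hf2⟩ := orbit_facts hep b.2 hH
    haveI := hep α b
    have h1 : ((f : stabilizer G α) : G) • (b : Ω) = b := congrArg Subtype.val hf
    exact Subtype.ext ((regular_of_comm (X := orbit (stabilizer G α) (b : Ω)) F hF hc).1 f f.2
      ⟨b, mem_orbit_self (b : Ω)⟩ (Subtype.ext h1))
  have h1 := Nat.card_congr (MulAction.selfEquivOrbitsQuotientProd hfree)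
  rw [Nat.card_prod] at h1
  have h2 : Nat.card S = Nat.card Ω - 1 := by
    haveI := Fintype.ofFinite Ω
    show Nat.card {x : Ω // x ≠ α} = _
    rw [Nat.card_eq_fintype_card, Nat.card_eq_fintype_card, Fintype.card_subtype_compl, Fintype.card_subtype_eq]
  exact ⟨Nat.card (Quotient (MulAction.orbitRel F S)), by rw [← h2, h1, mul_comm]⟩

end Orbits

/-- A linear action on a finite space of known order in coordinates. -/
theorem exists_hom_GL_of_action {A : Type*} [Group A] {W : Type*} [AddCommGroup W] [Finite W] (p e : ℕ) [Fact p.Prime]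
    [Module (ZMod p) W] (hcard : Nat.card W = p ^ e) (f : A →* AddMonoid.End W) :
    ∃ φ : A →* GL (Fin e) (ZMod p), ∀ a, φ a = 1 ↔ ∀ w, f a w = w := by
  have hrank : Module.finrank (ZMod p) W = e := by
    have h := Module.natCard_eq_pow_finrank (K := ZMod p) (V := W)
    rw [hcard, Nat.card_zmod] at h
    exact (Nat.pow_right_injective (Fact.out : p.Prime).two_le h).symm
  let b := Module.finBasisOfFinrankEq (ZMod p) W hrank
  let cj : A →* Module.End (ZMod p) W :=
    { toFun := fun a => AddMonoidHom.toZModLinearMap p (f a)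
      map_one' := LinearMap.ext fun w => by
        show f 1 w = w
        rw [map_one]; rfl
      map_mul' := fun a c => LinearMap.ext fun w => by
        show f (a * c) w = f a (f c w)
        rw [map_mul]; rfl }
  let T : Module.End (ZMod p) W →* Matrix (Fin e) (Fin e) (ZMod p) :=
    (LinearMap.toMatrixAlgEquiv b).toAlgHom.toRingHom.toMonoidHom
  refine ⟨MonoidHom.toHomUnits (T.comp cj), fun a => ⟨fun h w => ?_, fun h => Units.ext ?_⟩⟩
  · have h1 : cj a = 1 := (LinearMap.toMatrixAlgEquiv b).injective (by rw [map_one]; exact congrArg Units.val h)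
    exact LinearMap.congr_fun h1 w
  · show T (cj a) = 1
    rw [show cj a = 1 from LinearMap.ext fun w => h w, map_one]

/-- The action on an elementary abelian normal subgroup in coordinates. -/
theorem exists_hom_GL {A : Type*} [Group A] [Finite A] (F : Subgroup A) [F.Normal] (p e : ℕ) [Fact p.Prime]
    (hcard : Nat.card F = p ^ e) (hc : ∀ a ∈ F, ∀ b ∈ F, a * b = b * a) (hexp : ∀ a ∈ F, a ^ p = 1) :
    ∃ φ : A →* GL (Fin e) (ZMod p), φ.ker = Subgroup.centralizer (F : Set A) := by
  classical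
  letI : CommGroup F := { (inferInstance : Group F) with mul_comm := fun a b => Subtype.ext (hc a a.2 b b.2) }
  have hz : ∀ a : Additive F, p • a = 0 := fun a => by
    apply Additive.toMul.injective
    exact Subtype.ext (hexp _ (Additive.toMul a : F).2)
  let f : A →* AddMonoid.End (Additive F) :=
    { toFun := fun a => MonoidHom.toAdditive (MulAut.conjNormal a : MulAut F).toMonoidHom
      map_one' := AddMonoidHom.ext fun v => Additive.toMul.injective (by
        show (MulAut.conjNormal (1 : A) : MulAut F) v.toMul = v.toMul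
        rw [map_one]; rfl)
      map_mul' := fun a c => AddMonoidHom.ext fun v => Additive.toMul.injective (by
        show (MulAut.conjNormal (a * c) : MulAut F) v.toMul =
          (MulAut.conjNormal a : MulAut F) ((MulAut.conjNormal c : MulAut F) v.toMul)
        rw [map_mul]; rfl) }
  obtain ⟨φ, hφ⟩ := @exists_hom_GL_of_action A _ (Additive F) _ _ p e _ (AddCommGroup.zmodModule hz)
    (by rw [Nat.card_congr Additive.toMul, hcard]) f
  refine ⟨φ, ?_⟩
  ext a
  rw [MonoidHom.mem_ker, hφ, Subgroup.mem_centralizer_iff]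
  constructor
  · intro h v hv
    have h3 : a * v * a⁻¹ = v := by
      have := congrArg (fun x : Additive F => ((x.toMul : F) : A)) (h (Additive.ofMul ⟨v, hv⟩))
      exact this
    exact (mul_inv_eq_iff_eq_mul.mp h3).symm
  · intro h v
    apply Additive.toMul.injective
    refine Subtype.ext ?_
    show a * ((v.toMul : F) : A) * a⁻¹ = _
    rw [← h _ (Additive.toMul v : F).2, mul_inv_cancel_right]

end CfsgLib.Recognition.ExtremelyPrimitive
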