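import Cfsg.Agent.Lib.Recognition.SymEightSpectrum

/-!
# Extensions of powers of the six-dimensional binary module by the alternating group of degree 8
-/

set_option autoImplicit false

namespace CfsgLib.Recognition.HeartEight

open CfsgLib.Recognition.SymEightSpectrum (spec)

/-- Vectors of even weight vanishing at the last point. -/
def V1 : AddSubgroup (Fin 8 → ZMod 2) where
  carrier := {f | ∑ i, f i = 0 ∧ f 7 = 0}
  zero_mem' := ⟨by simp, rfl⟩
  add_mem' := by
    rintro f g ⟨a, b⟩ ⟨c, d⟩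
    exact ⟨by simp [Finset.sum_add_distrib, a, c], by simp [b, d]⟩
  neg_mem' := by
    rintro f ⟨a, b⟩
    exact ⟨by simp [a], by simp [b]⟩

/-- The twisted action on functions. -/
def act (σ : Equiv.Perm (Fin 8)) (f : Fin 8 → ZMod 2) : Fin 8 → ZMod 2 :=
  fun p => f (σ⁻¹ p) - f (σ⁻¹ 7)

theorem act_mem (σ : Equiv.Perm (Fin 8)) {f : Fin 8 → ZMod 2} (hf : f ∈ V1) : act σ f ∈ V1 := by
  refine ⟨?_, sub_self _⟩
  simp only [act, Finset.sum_sub_distrib, Equiv.sum_comp σ⁻¹ f, hf.1, Finset.sum_const, Finset.card_univ,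
    Fintype.card_fin, nsmul_eq_mul]
  rw [show ((8 : ℕ) : ZMod 2) = 0 from rfl, zero_mul, sub_zero]

theorem act_mul (σ τ : Equiv.Perm (Fin 8)) (f : Fin 8 → ZMod 2) : act (σ * τ) f = act σ (act τ f) := by
  funext p; simp only [act, mul_inv_rev, Equiv.Perm.mul_apply]; abel

theorem act_one {f : Fin 8 → ZMod 2} (hf : f ∈ V1) : act 1 f = f := by
  funext p; simp [act, hf.2]

/-- Tuples of module elements. -/
abbrev M (k : ℕ) : Type := Fin k → V1

/-- The action on tuples as automorphisms. -/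
def actAut (k : ℕ) : alternatingGroup (Fin 8) →* MulAut (Multiplicative (M k)) :=
  MonoidHom.mk'
    (fun σ =>
      { toFun := fun v => Multiplicative.ofAdd fun j => ⟨act σ (v.toAdd j : Fin 8 → ZMod 2), act_mem σ (v.toAdd j).2⟩
        invFun := fun v => Multiplicative.ofAdd fun j =>
          ⟨act ((σ : Equiv.Perm (Fin 8))⁻¹) (v.toAdd j : Fin 8 → ZMod 2), act_mem _ (v.toAdd j).2⟩
        left_inv := fun v => by
          refine Multiplicative.toAdd.injective (funext fun j => Subtype.ext ?_)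
          show act _ (act _ _) = _
          rw [← act_mul, inv_mul_cancel, act_one (v.toAdd j).2]
        right_inv := fun v => by
          refine Multiplicative.toAdd.injective (funext fun j => Subtype.ext ?_)
          show act _ (act _ _) = _
          rw [← act_mul, mul_inv_cancel, act_one (v.toAdd j).2]
        map_mul' := fun v w => by
          refine Multiplicative.toAdd.injective (funext fun j => Subtype.ext ?_)
          show act _ ((v.toAdd j : Fin 8 → ZMod 2) + w.toAdd j) = act _ _ + act _ _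
          funext p; simp only [act, Pi.add_apply]; abel })
    fun σ τ => MulEquiv.ext fun v => Multiplicative.toAdd.injective (funext fun j => Subtype.ext (act_mul _ _ _))

/-- The extension. -/
abbrev Ext (k : ℕ) : Type := SemidirectProduct (Multiplicative (M k)) (alternatingGroup (Fin 8)) (actAut k)

theorem pow_left_apply (k : ℕ) (x : Ext k) (n : ℕ) (j : Fin k) :
    (((x ^ n).left.toAdd j : V1) : Fin 8 → ZMod 2) =
      ∑ i ∈ Finset.range n, act ((x.right : Equiv.Perm (Fin 8)) ^ i) (x.left.toAdd j : Fin 8 → ZMod 2) := by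
  induction n with
  | zero => simp
  | succ n ih =>
    rw [pow_succ, SemidirectProduct.mul_left, Finset.sum_range_succ, ← ih]
    show _ + act _ _ = _
    rw [show (x ^ n).right = x.right ^ n from map_pow (SemidirectProduct.rightHom) x n, SubgroupClass.coe_pow]

theorem pow_eq_one_iff {k : ℕ} (x : Ext k) {m : ℕ} (hm : x.right ^ m = 1) :
    x ^ m = 1 ↔ ∀ j, ∑ i ∈ Finset.range m, act ((x.right : Equiv.Perm (Fin 8)) ^ i)
      (x.left.toAdd j : Fin 8 → ZMod 2) = 0 := by
  have hr : (x ^ m).right = 1 := (map_pow (SemidirectProduct.rightHom) x m).trans hm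
  constructor
  · intro h j
    rw [← pow_left_apply, h]; rfl
  · intro h
    refine SemidirectProduct.ext (Multiplicative.toAdd.injective (funext fun j => Subtype.ext ?_)) hr
    rw [pow_left_apply, h j]; rfl

/-- Parity-constrained search over lists of parts. -/
def checkAlt : ℕ → ℕ → ℕ → ℕ → Bool
  | 0, _, l, s => decide (s % 2 = 0 → l ∈ [1, 2, 3, 4, 5, 6, 7, 15])
  | f + 1, b, l, s => decide (s % 2 = 0 → l ∈ [1, 2, 3, 4, 5, 6, 7, 15]) &&
      (List.range (b + 1)).all (fun a => decide (a < 2) || checkAlt f (b - a) (Nat.lcm a l) (s + a + 1))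

theorem checkAlt_eight : checkAlt 4 8 1 0 = true := by decide +kernel

theorem lcm_mem_of_checkAlt (m : Multiset ℕ) : ∀ f b l s, checkAlt f b l s = true → m.sum ≤ b →
    Multiset.card m ≤ f → (∀ a ∈ m, 2 ≤ a) → (s + m.sum + Multiset.card m) % 2 = 0 →
      Nat.lcm m.lcm l ∈ [1, 2, 3, 4, 5, 6, 7, 15] := by
  induction m using Multiset.induction_on with
  | empty =>
    intro f b l s h _ _ _ hpar
    rw [Multiset.lcm_zero, Nat.lcm_one_left]
    simp only [Multiset.sum_zero, Multiset.card_zero, add_zero] at hpar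
    cases f <;> simp only [checkAlt, Bool.and_eq_true, decide_eq_true_eq] at h
    · exact h hpar
    · exact h.1 hpar
  | cons a m ih =>
    intro f b l s h hb hf h2 hpar
    rw [Multiset.sum_cons] at hb hpar
    rw [Multiset.card_cons] at hf hpar
    obtain ⟨f, rfl⟩ : ∃ g, f = g + 1 := ⟨f - 1, by omega⟩
    simp only [checkAlt, Bool.and_eq_true, List.all_eq_true, List.mem_range, Bool.or_eq_true,
      decide_eq_true_eq] at h
    have ha : 2 ≤ a := h2 a (Multiset.mem_cons_self a m)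
    have := ih f (b - a) (Nat.lcm a l) (s + a + 1) ((h.2 a (by omega)).resolve_left (by omega))
      (by omega) (by omega) (fun x hx => h2 x (Multiset.mem_cons_of_mem hx)) (by omega)
    rw [Multiset.lcm_cons]
    change Nat.lcm (Nat.lcm a m.lcm) l ∈ _
    rwa [Nat.lcm_comm a m.lcm, Nat.lcm_assoc]

theorem orderOf_alt (g : alternatingGroup (Fin 8)) : orderOf g ∈ [1, 2, 3, 4, 5, 6, 7, 15] := by
  rw [← Subgroup.orderOf_coe, ← Equiv.Perm.lcm_cycleType]
  have h := Equiv.Perm.mem_alternatingGroup.mp g.2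
  rw [Equiv.Perm.sign_of_cycleType, neg_one_pow_eq_one_iff_even (by decide)] at h
  have h2 : ∀ a ∈ (g : Equiv.Perm (Fin 8)).cycleType, 2 ≤ a := fun a ha =>
    Equiv.Perm.two_le_of_mem_cycleType ha
  have hs : (g : Equiv.Perm (Fin 8)).cycleType.sum ≤ 8 := by
    rw [Equiv.Perm.sum_cycleType]
    exact (Finset.card_le_univ _).trans (Fintype.card_fin 8).le
  have hc := Multiset.card_nsmul_le_sum h2
  rw [smul_eq_mul] at hc
  have := lcm_mem_of_checkAlt _ 4 8 1 0 checkAlt_eight hs (by omega) h2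
    (by rw [zero_add]; exact Nat.even_iff.mp h)
  rwa [Nat.lcm_one_right] at this

theorem cycleType_of_orderOf {σ : Equiv.Perm (Fin 8)} :
    (orderOf σ = 7 → σ.cycleType = {7}) ∧ (orderOf σ = 15 → σ.cycleType = {5, 3}) := by
  have h2 : ∀ a ∈ σ.cycleType, 2 ≤ a := fun a ha => Equiv.Perm.two_le_of_mem_cycleType ha
  have hs : σ.cycleType.sum ≤ 8 := by
    rw [Equiv.Perm.sum_cycleType]
    exact (Finset.card_le_univ _).trans (Fintype.card_fin 8).le
  rw [← Equiv.Perm.lcm_cycleType]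
  generalize σ.cycleType = m at h2 hs
  have small : ∀ r : Multiset ℕ, (∀ a ∈ r, 2 ≤ a) → r.sum ≤ 1 → r = 0 := fun r hr hsum =>
    Multiset.eq_zero_of_forall_notMem fun a ha => by
      have := Multiset.le_sum_of_mem ha
      have := hr a ha
      omega
  constructor
  · intro h
    have h7 : 7 ∈ m := by
      by_contra hne
      have : m.lcm ∣ 1 := Multiset.lcm_dvd.mpr fun a ha => by
        have hd : a ∣ 7 := h ▸ Multiset.dvd_lcm ha
        rcases (Nat.dvd_prime (by norm_num)).mp hd with rfl | rfl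
        · exact dvd_rfl
        · exact absurd ha hne
      rw [h] at this; norm_num at this
    obtain ⟨r, rfl⟩ := Multiset.exists_cons_of_mem h7
    rw [Multiset.sum_cons] at hs
    rw [small r (fun a ha => h2 a (Multiset.mem_cons_of_mem ha)) (by omega)]
    rfl
  · intro h
    have hd : ∀ a ∈ m, a = 3 ∨ a = 5 := fun a ha => by
      have hd : a ∣ 15 := h ▸ Multiset.dvd_lcm ha
      have h1 := h2 a ha
      have h8 : a ≤ 8 := (Multiset.le_sum_of_mem ha).trans hs
      interval_cases a <;> omega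
    have h5 : 5 ∈ m := by
      by_contra hne
      have : m.lcm ∣ 3 := Multiset.lcm_dvd.mpr fun a ha => by
        rcases hd a ha with rfl | rfl
        · exact dvd_rfl
        · exact absurd ha hne
      rw [h] at this; norm_num at this
    have h3 : 3 ∈ m := by
      by_contra hne
      have : m.lcm ∣ 5 := Multiset.lcm_dvd.mpr fun a ha => by
        rcases hd a ha with rfl | rfl
        · exact absurd ha hne
        · exact dvd_rfl
      rw [h] at this; norm_num at this
    obtain ⟨r, rfl⟩ := Multiset.exists_cons_of_mem h5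
    obtain ⟨t, rfl⟩ := Multiset.exists_cons_of_mem ((Multiset.mem_cons.mp h3).resolve_left (by norm_num))
    rw [Multiset.sum_cons, Multiset.sum_cons] at hs
    rw [small t (fun a ha => h2 a (Multiset.mem_cons_of_mem (Multiset.mem_cons_of_mem ha))) (by omega)]
    rfl

/-- A seven-cycle. -/
def seven : Equiv.Perm (Fin 8) := List.formPerm [0, 1, 2, 3, 4, 5, 6]
/-- An element of order fifteen. -/
def fifteen : Equiv.Perm (Fin 8) := List.formPerm [0, 1, 2, 3, 4] * List.formPerm [5, 6, 7]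

theorem reps_ok : seven.cycleType = {7} ∧ fifteen.cycleType = {5, 3} ∧
    (∀ f : Fin 8 → ZMod 2, ∑ i, f i = 0 → ∀ p, ∑ i ∈ Finset.range 7, f ((seven ^ i) p) =
      ∑ i ∈ Finset.range 7, f ((seven ^ i) 0)) ∧
    (∀ f : Fin 8 → ZMod 2, ∑ i, f i = 0 → ∀ p, ∑ i ∈ Finset.range 15, f ((fifteen ^ i) p) =
      ∑ i ∈ Finset.range 15, f ((fifteen ^ i) 0)) := by decide +kernel

theorem const_conj {σ τ π : Equiv.Perm (Fin 8)} (h : π * τ * π⁻¹ = σ) {m : ℕ}
    (hτ : ∀ f : Fin 8 → ZMod 2, ∑ i, f i = 0 → ∀ p, ∑ i ∈ Finset.range m, f ((τ ^ i) p) =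
      ∑ i ∈ Finset.range m, f ((τ ^ i) 0))
    {f : Fin 8 → ZMod 2} (hf : ∑ i, f i = 0) (p q : Fin 8) :
    ∑ i ∈ Finset.range m, f ((σ ^ i) p) = ∑ i ∈ Finset.range m, f ((σ ^ i) q) := by
  have key : ∀ x, ∑ i ∈ Finset.range m, f ((σ ^ i) x) = ∑ i ∈ Finset.range m, (f ∘ π) ((τ ^ i) (π⁻¹ x)) := fun x => by
    refine Finset.sum_congr rfl fun i _ => ?_
    rw [← h, conj_pow]; rfl
  have hg : ∑ i, (f ∘ π) i = 0 := by rw [← hf]; exact Equiv.sum_comp π f
  rw [key, key, hτ _ hg, hτ _ hg (π⁻¹ q)]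

theorem sum_act_eq_zero {σ : Equiv.Perm (Fin 8)} {m : ℕ} (hm : orderOf σ = m) (h : m = 7 ∨ m = 15)
    {f : Fin 8 → ZMod 2} (hf : f ∈ V1) : ∑ i ∈ Finset.range m, act (σ ^ i) f = 0 := by
  funext p
  simp only [Finset.sum_apply, act, Finset.sum_sub_distrib, Pi.zero_apply, sub_eq_zero, ← inv_pow]
  obtain ⟨h7, h15⟩ := cycleType_of_orderOf (σ := σ⁻¹)
  rw [orderOf_inv, hm] at h7 h15
  obtain ⟨c7, c15, s7, s15⟩ := reps_ok
  rcases h with rfl | rfl
  · obtain ⟨π, hπ⟩ := isConj_iff.mp (Equiv.Perm.isConj_iff_cycleType_eq.mpr (c7.trans (h7 rfl).symm))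
    exact const_conj hπ s7 hf.1 p 7
  · obtain ⟨π, hπ⟩ := isConj_iff.mp (Equiv.Perm.isConj_iff_cycleType_eq.mpr (c15.trans (h15 rfl).symm))
    exact const_conj hπ s15 hf.1 p 7

theorem two_torsion {k : ℕ} (v : Multiplicative (M k)) : v * v = 1 :=
  Multiplicative.toAdd.injective (funext fun j => Subtype.ext (funext fun p => by
    show (v.toAdd j : Fin 8 → ZMod 2) p + (v.toAdd j : Fin 8 → ZMod 2) p = 0
    exact CharTwo.add_self_eq_zero _))

theorem orderOf_ext_mem {k : ℕ} (x : Ext k) : orderOf x ∈ spec := by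
  obtain ⟨m, hm⟩ : ∃ m, orderOf x.right = m := ⟨_, rfl⟩
  have hr : x.right ^ m = 1 := hm ▸ pow_orderOf_eq_one _
  have hd : m ∣ orderOf x := hm ▸ orderOf_map_dvd (SemidirectProduct.rightHom : Ext k →* _) x
  have hmem := orderOf_alt x.right
  rw [hm] at hmem
  by_cases h : m = 7 ∨ m = 15
  · have : orderOf x = m := Nat.dvd_antisymm (orderOf_dvd_of_pow_eq_one ((pow_eq_one_iff x hr).mpr fun j =>
      sum_act_eq_zero (by rw [Subgroup.orderOf_coe, hm]) h (x.left.toAdd j).2)) hd
    rcases h with rfl | rfl <;> rw [this] <;> decide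
  · have hr' : (x ^ m).right = 1 := (map_pow (SemidirectProduct.rightHom : Ext k →* _) x m).trans hr
    have h2 : x ^ (2 * m) = 1 := by
      rw [two_mul, pow_add]
      refine SemidirectProduct.ext ?_ (by rw [SemidirectProduct.mul_right, hr', one_mul]; rfl)
      rw [SemidirectProduct.mul_left, hr', map_one, MulAut.one_apply, two_torsion]; rfl
    obtain ⟨c, hc⟩ := hd
    have hc2 : c ∣ 2 := by
      have h3 := orderOf_dvd_of_pow_eq_one h2
      rw [hc, mul_comm 2 m] at h3
      exact Nat.dvd_of_mul_dvd_mul_left (hm ▸ orderOf_pos x.right) h3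
    rw [hc]
    rcases (Nat.dvd_prime Nat.prime_two).mp hc2 with rfl | rfl <;>
      (simp only [List.mem_cons, List.not_mem_nil, or_false] at hmem
       rcases hmem with rfl | rfl | rfl | rfl | rfl | rfl | rfl | rfl <;> simp [spec] at h ⊢)

/-- A test vector. -/
def probe (a b : Fin 8) : Fin 8 → ZMod 2 := fun p => if p = a ∨ p = b then 1 else 0

theorem exists_lifted {k : ℕ} (hk : 0 < k) (σ : alternatingGroup (Fin 8)) (m : ℕ) (hm : orderOf σ = m)
    (v : Fin 8 → ZMod 2) (hv : v ∈ V1) (hne : ∑ i ∈ Finset.range m, act ((σ : Equiv.Perm (Fin 8)) ^ i) v ≠ 0) :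
    ∃ x : Ext k, orderOf x = 2 * m := by
  let x : Ext k := ⟨Multiplicative.ofAdd fun _ => ⟨v, hv⟩, σ⟩
  refine ⟨x, ?_⟩
  have hr : x.right ^ m = 1 := by show σ ^ m = 1; rw [← hm]; exact pow_orderOf_eq_one σ
  have hd : m ∣ orderOf x := by
    have := orderOf_map_dvd (SemidirectProduct.rightHom : Ext k →* _) x
    rwa [show (SemidirectProduct.rightHom : Ext k →* _) x = σ from rfl, hm] at this
  have hr' : (x ^ m).right = 1 := (map_pow (SemidirectProduct.rightHom : Ext k →* _) x m).trans hr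
  have h2 : x ^ (2 * m) = 1 := by
    rw [two_mul, pow_add]
    refine SemidirectProduct.ext ?_ (by rw [SemidirectProduct.mul_right, hr', one_mul]; rfl)
    rw [SemidirectProduct.mul_left, hr', map_one, MulAut.one_apply, two_torsion]; rfl
  have hne' : x ^ m ≠ 1 := fun h => hne ((pow_eq_one_iff x hr).mp h ⟨0, hk⟩)
  obtain ⟨c, hc⟩ := hd
  have hc2 : c ∣ 2 := by
    have h3 := orderOf_dvd_of_pow_eq_one h2
    rw [hc, mul_comm 2 m] at h3
    exact Nat.dvd_of_mul_dvd_mul_left (hm ▸ orderOf_pos σ) h3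
  rcases (Nat.dvd_prime Nat.prime_two).mp hc2 with rfl | rfl
  · rw [mul_one] at hc
    exact absurd (hc ▸ pow_orderOf_eq_one x) hne'
  · rw [hc, mul_comm]

/-- Even permutations of orders four, five and six. -/
def four : Equiv.Perm (Fin 8) := List.formPerm [0, 1, 2, 3] * List.formPerm [4, 5]
/-- An element of order five. -/
def five : Equiv.Perm (Fin 8) := List.formPerm [0, 1, 2, 3, 4]
/-- An element of order six. -/
def six : Equiv.Perm (Fin 8) := List.formPerm [0, 1, 2] * List.formPerm [3, 4] * List.formPerm [5, 6]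

theorem wit_ok : (four.cycleType = {4, 2} ∧ five.cycleType = {5} ∧ six.cycleType = {3, 2, 2}) ∧
    (Equiv.Perm.sign four = 1 ∧ Equiv.Perm.sign five = 1 ∧ Equiv.Perm.sign six = 1) ∧
    ((∃ f : Fin 8 → ZMod 2, (∑ i, f i = 0 ∧ f 7 = 0) ∧ ∑ i ∈ Finset.range 4, act (four ^ i) f ≠ 0) ∧
    (∃ f : Fin 8 → ZMod 2, (∑ i, f i = 0 ∧ f 7 = 0) ∧ ∑ i ∈ Finset.range 5, act (five ^ i) f ≠ 0) ∧
    ∃ f : Fin 8 → ZMod 2, (∑ i, f i = 0 ∧ f 7 = 0) ∧ ∑ i ∈ Finset.range 6, act (six ^ i) f ≠ 0) := by
  decide +kernel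

theorem exists_alt (m : List ℕ) (hm : m.sum ≤ 8) (h2 : ∀ a ∈ m, 2 ≤ a) (hpar : Even (m.sum + m.length)) :
    ∃ g : alternatingGroup (Fin 8), orderOf g = (m : Multiset ℕ).lcm := by
  obtain ⟨σ, hσ⟩ := (Equiv.Perm.exists_with_cycleType_iff (α := Fin 8) (m := (m : Multiset ℕ))).mpr
    ⟨by simpa using hm, fun a ha => h2 a (Multiset.mem_coe.mp ha)⟩
  refine ⟨⟨σ, ?_⟩, ?_⟩
  · rw [Equiv.Perm.mem_alternatingGroup, Equiv.Perm.sign_of_cycleType, hσ]
    exact Even.neg_one_pow (by simpa using hpar)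
  · rw [Subgroup.orderOf_mk, ← Equiv.Perm.lcm_cycleType, hσ]

theorem range_ext {k : ℕ} (hk : 0 < k) : Set.range (orderOf : Ext k → ℕ) = ↑spec := by
  ext n
  refine ⟨fun ⟨x, hx⟩ => hx ▸ orderOf_ext_mem x, fun hn => ?_⟩
  have inr : ∀ m : List ℕ, m.sum ≤ 8 → (∀ a ∈ m, 2 ≤ a) → Even (m.sum + m.length) →
      ∃ x : Ext k, orderOf x = (m : Multiset ℕ).lcm := fun m a b c => by
    obtain ⟨g, hg⟩ := exists_alt m a b c
    exact ⟨SemidirectProduct.inr g, by rw [orderOf_injective _ SemidirectProduct.inr_injective, hg]⟩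
  obtain ⟨⟨c4, c5, c6⟩, ⟨s4, s5, s6⟩, ⟨f4, hf4, n4⟩, ⟨f5, hf5, n5⟩, f6, hf6, n6⟩ := wit_ok
  simp only [spec, Finset.mem_coe, Finset.mem_insert, Finset.mem_singleton] at hn
  rcases hn with rfl | rfl | rfl | rfl | rfl | rfl | rfl | rfl | rfl | rfl | rfl
  · exact inr [] (by decide) (by decide) (by decide)
  · exact inr [2, 2] (by decide) (by decide) (by decide)
  · exact inr [3] (by decide) (by decide) (by decide)
  · exact inr [4, 2] (by decide) (by decide) (by decide)
  · exact inr [5] (by decide) (by decide) (by decide)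
  · exact inr [3, 2, 2] (by decide) (by decide) (by decide)
  · exact inr [7] (by decide) (by decide) (by decide)
  · exact exists_lifted hk ⟨four, Equiv.Perm.mem_alternatingGroup.mpr s4⟩ 4
      (by rw [Subgroup.orderOf_mk, ← Equiv.Perm.lcm_cycleType, c4]; decide) f4 hf4 n4
  · exact exists_lifted hk ⟨five, Equiv.Perm.mem_alternatingGroup.mpr s5⟩ 5
      (by rw [Subgroup.orderOf_mk, ← Equiv.Perm.lcm_cycleType, c5]; decide) f5 hf5 n5
  · exact exists_lifted hk ⟨six, Equiv.Perm.mem_alternatingGroup.mpr s6⟩ 6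
      (by rw [Subgroup.orderOf_mk, ← Equiv.Perm.lcm_cycleType, c6]; decide) f6 hf6 n6
  · exact inr [5, 3] (by decide) (by decide) (by decide)

theorem nontrivial_V1 : ∃ v : V1, v ≠ 0 :=
  ⟨⟨probe 0 1, show (∑ i, probe 0 1 i = 0) ∧ probe 0 1 7 = 0 by decide⟩,
    fun h => by simpa [probe] using congrFun (congrArg Subtype.val h) 0⟩

/-- The extension is finite. -/
@[instance] theorem finite_ext (k : ℕ) : Finite (Ext k) :=
  Finite.of_equiv _ SemidirectProduct.equivProd.symm

theorem exists_large (N : ℕ) : ∃ (H : Type) (_ : Group H) (_ : Fintype H),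
    N < Fintype.card H ∧ Set.range (orderOf : H → ℕ) = ↑spec := by
  classical
  haveI := finite_ext (N + 1)
  letI := Fintype.ofFinite (Ext (N + 1))
  refine ⟨Ext (N + 1), inferInstance, inferInstance, ?_, range_ext N.succ_pos⟩
  rw [← Nat.card_eq_fintype_card, Nat.card_congr SemidirectProduct.equivProd, Nat.card_prod]
  obtain ⟨v, hv⟩ := nontrivial_V1
  have h1 : N + 1 ≤ Nat.card (Multiplicative (M (N + 1))) := by
    refine le_trans (Nat.card_fin (N + 1)).ge (Nat.card_le_card_of_injective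
      (fun i => Multiplicative.ofAdd (Pi.single i v : M (N + 1))) fun i j e => ?_)
    by_contra hne
    have := congrFun (Multiplicative.ofAdd.injective e) i
    rw [Pi.single_eq_same, Pi.single_eq_of_ne hne] at this
    exact hv this
  exact lt_of_lt_of_le (Nat.lt_succ_self N) (le_trans h1 (Nat.le_mul_of_pos_right _ Nat.card_pos))

end CfsgLib.Recognition.HeartEight
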