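import Mathlib
import Cfsg.Agent.Lib.Recognition.ExtremelyPrimitive
import Cfsg.Agent.Lib.Solvable.Cores
import Cfsg.Agent.Lib.FrobRealize.FixedPointFree

/-!
Solvable extremely primitive groups.
-/

namespace CfsgLib.Recognition.SolvableExtremelyPrimitive

open MulAction

/-- The fixed points of a power of the Frobenius form a small subring. -/
theorem le_of_frobenius_fixed {R : Type*} [CommRing R] [IsDomain R] [Finite R] {p d q : ℕ} [Fact p.Prime] [CharP R p]
    (hR : Nat.card R = p ^ d) (T : R) (hT : ∀ S : Subring R, T ∈ S → ∀ a : R, a ∈ S) (hTq : T ^ q = 1) (i : ℕ)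
    (hi : 0 < i) (hdvd : q ∣ p ^ i - 1) : d ≤ i := by
  obtain ⟨c, hc⟩ := hdvd
  have hp := (Fact.out : p.Prime)
  have h1 : T ∈ (iterateFrobenius R p i).eqLocus (RingHom.id R) := by
    show iterateFrobenius R p i T = T
    rw [iterateFrobenius_def, show p ^ i = q * c + 1 by have := Nat.one_le_pow i p hp.pos; omega, pow_succ, pow_mul, hTq,
      one_pow, one_mul]
  have hfix : ∀ a : R, a ^ p ^ i = a := fun a => by
    have := hT _ h1 a
    exact (iterateFrobenius_def p i a).symm.trans this
  haveI := Fintype.ofFinite R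
  classical
  have hne : (Polynomial.X ^ p ^ i - Polynomial.X : Polynomial R) ≠ 0 := by
    intro h0
    have := congrArg (fun f : Polynomial R => f.coeff (p ^ i)) h0
    have h2 : 1 < p ^ i := Nat.one_lt_pow hi.ne' hp.one_lt
    simp [Polynomial.coeff_X, h2.ne] at this
  have hsub : (Finset.univ : Finset R) ⊆ (Polynomial.X ^ p ^ i - Polynomial.X : Polynomial R).roots.toFinset := by
    intro a _
    rw [Multiset.mem_toFinset, Polynomial.mem_roots hne, Polynomial.IsRoot, Polynomial.eval_sub, Polynomial.eval_pow,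
      Polynomial.eval_X, hfix, sub_self]
  have h2 := (Finset.card_le_card hsub).trans ((Multiset.toFinset_card_le _).trans
    ((Polynomial.card_roots' _).trans ((Polynomial.natDegree_sub_le _ _).trans (le_of_eq (b := max (p ^ i) 1) (by simp)))))
  rw [Finset.card_univ, ← Nat.card_eq_fintype_card, hR] at h2
  rcases le_max_iff.mp h2 with h | h
  · exact (Nat.pow_le_pow_iff_right hp.one_lt).mp h
  · have : d = 0 := by
      by_contra hd
      exact absurd (Nat.one_lt_pow hd hp.one_lt) (by omega)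
    omega

/-- A group of semilinear automorphisms of a finite field. -/
theorem galois_bound {R : Type*} [CommRing R] [IsDomain R] [Finite R] {p d q : ℕ} [Fact p.Prime] [CharP R p]
    (hR : Nat.card R = p ^ d) {L : Type*} [Group L] (σ : L → (R →+* R))
    (hσ : ∀ h k a, σ (h * k) a = σ h (σ k a)) (M : Subgroup L) (hM : Nat.card M = q)
    (hker : ∀ h, (∀ a, σ h a = a) ↔ h ∈ M) :
    Nat.card L ∣ q * d ∧ ∃ h : L, M ⊔ Subgroup.zpowers h = ⊤ := by
  classical
  haveI := Fintype.ofFinite R
  letI : Field R := Fintype.fieldOfDomain R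
  letI : Algebra (ZMod p) R := ZMod.algebra R p
  let g : L → (R ≃ₐ[ZMod p] R) := fun h =>
    AlgEquiv.ofBijective (AlgHom.mk (σ h) fun r => RingHom.congr_fun (RingHom.ext_zmod ((σ h).comp (algebraMap (ZMod p) R)) (algebraMap (ZMod p) R)) r)
      (Finite.injective_iff_bijective.mp (σ h).injective)
  have hg : ∀ h k : L, g (h * k) = g h * g k := fun h k => AlgEquiv.ext fun a => hσ h k a
  let G0 : L →* (R ≃ₐ[ZMod p] R) := MonoidHom.mk' g hg
  have hk : G0.ker = M := by
    ext h
    rw [MonoidHom.mem_ker, ← hker]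
    exact ⟨fun e a => AlgEquiv.congr_fun e a, fun e => AlgEquiv.ext e⟩
  have hfin : Module.finrank (ZMod p) R = d := by
    have h := Module.natCard_eq_pow_finrank (K := ZMod p) (V := R)
    rw [hR, Nat.card_zmod] at h
    exact (Nat.pow_right_injective (Fact.out : p.Prime).two_le h).symm
  have hgal : Nat.card (R ≃ₐ[ZMod p] R) = d := by rw [← hfin]; exact IsGalois.card_aut_eq_finrank (ZMod p) R
  refine ⟨?_, ?_⟩
  · rw [← G0.ker.card_mul_index, Subgroup.index_ker, hk, hM, ← hgal]
    exact mul_dvd_mul_left q G0.range.card_subgroup_dvd_card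
  · obtain ⟨⟨y, hy⟩, hygen⟩ := IsCyclic.exists_generator (α := G0.range)
    obtain ⟨h, rfl⟩ := hy
    refine ⟨h, eq_top_iff.mpr fun x _ => ?_⟩
    obtain ⟨s, hs⟩ := Subgroup.mem_zpowers_iff.mp (hygen ⟨G0 x, x, rfl⟩)
    have hs' : G0 h ^ s = G0 x := congrArg Subtype.val hs
    have h1 : x * (h ^ s)⁻¹ ∈ M := by
      rw [← hk, MonoidHom.mem_ker, map_mul, map_inv, map_zpow, hs', mul_inv_cancel]
    rw [show x = (x * (h ^ s)⁻¹) * h ^ s by group]
    exact mul_mem (Subgroup.mem_sup_left h1) (Subgroup.mem_sup_right (Subgroup.zpow_mem _ (Subgroup.mem_zpowers h) s))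

/-- An irreducible cyclic group of prime order on a finite module generates a field. -/
theorem field_facts {W : Type*} [AddCommGroup W] [Finite W] [Nontrivial W] {p d : ℕ} [Fact p.Prime]
    (hW : Nat.card W = p ^ d) (hp : ∀ w : W, p • w = 0) {L : Type*} [Group L] [Finite L]
    (f : L →* AddMonoid.End W) {q : ℕ} (t : L) (ht : t ^ q = 1)
    (hirr : ∀ U : AddSubgroup W, U ≠ ⊥ → (∀ u ∈ U, f t u ∈ U) → U = ⊤) :
    (∀ i, 0 < i → q ∣ p ^ i - 1 → d ≤ i) ∧
    ∀ M : Subgroup L, Nat.card M = q → t ∈ M → (∀ h : L, ∃ s : ℕ, h * t * h⁻¹ = t ^ s) →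
      (∀ h : L, f h * f t = f t * f h → h ∈ M) → (∀ h ∈ M, f h * f t = f t * f h) →
      Nat.card L ∣ q * d ∧ ∃ h : L, M ⊔ Subgroup.zpowers h = ⊤ := by
  classical
  set T := f t with hT
  set K : Subring (AddMonoid.End W) := Subring.closure {T} with hK
  haveI : Finite (AddMonoid.End W) := Finite.of_injective (fun g : AddMonoid.End W => (g : W → W)) DFunLike.coe_injective
  have hTK : T ∈ K := Subring.subset_closure rfl
  have hcomm : ∀ a ∈ K, ∀ b ∈ K, a * b = b * a := by
    have h1 : ∀ a ∈ K, a * T = T * a := fun a ha => by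
      have hle : K ≤ Subring.centralizer {T} := Subring.closure_le.mpr fun x hx => by
        rw [Set.mem_singleton_iff] at hx
        subst hx
        exact Subring.mem_centralizer_iff.mpr fun g hg => by rw [Set.mem_singleton_iff] at hg; rw [hg]
      exact (Subring.mem_centralizer_iff.mp (hle ha) T rfl).symm
    intro a ha b hb
    have hle : K ≤ Subring.centralizer {a} := Subring.closure_le.mpr fun x hx => by
      rw [Set.mem_singleton_iff] at hx
      subst hx
      exact Subring.mem_centralizer_iff.mpr fun g hg => by rw [Set.mem_singleton_iff] at hg; rw [hg, h1 a ha]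
    exact Subring.mem_centralizer_iff.mp (hle hb) a rfl
  have hinj : ∀ a ∈ K, a ≠ 0 → ∀ w : W, a w = 0 → w = 0 := by
    intro a ha hne w hw
    by_contra hw0
    have hker : a.ker = ⊤ := by
      refine hirr _ (fun hb => hw0 ?_) fun u hu => ?_
      · have h1 : w ∈ a.ker := hw
        rw [hb] at h1
        exact h1
      · show a (T u) = 0
        have h2 : (a * T) u = (T * a) u := by rw [hcomm a ha T hTK]
        show (a * T) u = 0
        rw [h2]
        show T (a u) = 0
        rw [show a u = 0 from hu, map_zero]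
    exact hne (AddMonoidHom.ext fun u => (hker ▸ AddSubgroup.mem_top u : u ∈ a.ker))
  obtain ⟨v0, hv0⟩ := exists_ne (0 : W)
  let ev : K →+ W :=
    { toFun := fun a => (a : AddMonoid.End W) v0
      map_zero' := rfl
      map_add' := fun _ _ => rfl }
  have hev : Function.Bijective ev := by
    refine ⟨?_, ?_⟩
    · rw [injective_iff_map_eq_zero]
      intro a ha
      by_contra hne
      exact hv0 (hinj _ a.2 (fun h => hne (Subtype.ext h)) v0 ha)
    · have htop : ev.range = ⊤ := hirr _ (fun hb => hv0 (by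
          have h1 : v0 ∈ ev.range := ⟨1, rfl⟩
          rw [hb] at h1
          exact h1)) (fun u hu => by
          obtain ⟨a, rfl⟩ := hu
          exact ⟨⟨T, hTK⟩ * a, rfl⟩)
      exact fun w => (htop ▸ AddSubgroup.mem_top w : w ∈ ev.range)
  letI : CommRing K := { (inferInstance : Ring K) with mul_comm := fun a b => Subtype.ext (hcomm a a.2 b b.2) }
  haveI : Nontrivial K := ⟨⟨0, 1, fun h => hv0 (congrArg (fun a : K => (a : AddMonoid.End W) v0) h).symm⟩⟩
  haveI : NoZeroDivisors K := ⟨fun {a b} hab => by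
    by_contra h
    push_neg at h
    apply h.2
    refine hev.1 ?_
    rw [map_zero]
    exact hinj _ a.2 (fun e => h.1 (Subtype.ext e)) _ (congrArg (fun x : K => (x : AddMonoid.End W) v0) hab)⟩
  haveI : IsDomain K := NoZeroDivisors.to_isDomain K
  have hp0 : (p : K) = 0 := by
    refine hev.1 ?_
    rw [map_zero, ← nsmul_one, map_nsmul]
    exact hp _
  haveI : CharP K p := (CharP.charP_iff_prime_eq_zero Fact.out).mpr hp0
  have hKcard : Nat.card K = p ^ d := by rw [Nat.card_congr (Equiv.ofBijective ev hev), hW]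
  have hTq : (⟨T, hTK⟩ : K) ^ q = 1 := Subtype.ext (by
    show T ^ q = 1
    rw [hT, ← map_pow, ht, map_one])
  have hclos : ∀ S : Subring K, (⟨T, hTK⟩ : K) ∈ S → ∀ a : K, a ∈ S := by
    intro S hS a
    have hle : K ≤ S.map K.subtype := Subring.closure_le.mpr fun x hx => by
      rw [Set.mem_singleton_iff] at hx
      exact ⟨⟨T, hTK⟩, hS, hx.symm⟩
    obtain ⟨b, hb, e⟩ := hle a.2
    rwa [show a = b from Subtype.ext e.symm]
  refine ⟨fun i hi hdvd => le_of_frobenius_fixed (R := K) hKcard ⟨T, hTK⟩ hclos hTq i hi hdvd, ?_⟩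
  intro M hM htM hnorm hcent hcM
  have hfu : ∀ h : L, f h * f h⁻¹ = 1 ∧ f h⁻¹ * f h = 1 := fun h => by
    rw [← map_mul, ← map_mul, mul_inv_cancel, inv_mul_cancel, map_one]; exact ⟨rfl, rfl⟩
  have hmem : ∀ h : L, ∀ a ∈ K, f h * a * f h⁻¹ ∈ K := by
    intro h a ha
    induction ha using Subring.closure_induction with
    | mem x hx =>
      rw [Set.mem_singleton_iff] at hx
      subst hx
      obtain ⟨s, hs⟩ := hnorm h
      rw [hT, ← map_mul, ← map_mul, hs, map_pow]
      exact pow_mem hTK s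
    | zero => rw [mul_zero, zero_mul]; exact zero_mem _
    | one => rw [mul_one, (hfu h).1]; exact one_mem _
    | add x y _ _ ihx ihy => rw [mul_add, add_mul]; exact add_mem ihx ihy
    | neg x _ ihx => rw [mul_neg, neg_mul]; exact neg_mem ihx
    | mul x y _ _ ihx ihy =>
      rw [show f h * (x * y) * f h⁻¹ = (f h * x * f h⁻¹) * (f h * y * f h⁻¹) by
        simp only [mul_assoc]; rw [← mul_assoc (f h⁻¹) (f h), (hfu h).2, one_mul]]
      exact mul_mem ihx ihy
  let σ : L → (K →+* K) := fun h =>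
    { toFun := fun a => ⟨f h * a * f h⁻¹, hmem h a a.2⟩
      map_zero' := Subtype.ext (by simp)
      map_one' := Subtype.ext (by
        show f h * 1 * f h⁻¹ = 1
        rw [mul_one, (hfu h).1])
      map_add' := fun a b => Subtype.ext (by
        show f h * ((a : AddMonoid.End W) + b) * f h⁻¹ = _
        rw [mul_add, add_mul]; rfl)
      map_mul' := fun a b => Subtype.ext (by
        show f h * ((a : AddMonoid.End W) * b) * f h⁻¹ =
          (f h * (a : AddMonoid.End W) * f h⁻¹) * (f h * (b : AddMonoid.End W) * f h⁻¹)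
        simp only [mul_assoc]; rw [← mul_assoc (f h⁻¹) (f h), (hfu h).2, one_mul]) }
  refine galois_bound (R := K) (p := p) hKcard σ (fun h k a => Subtype.ext ?_) M hM fun h => ⟨fun he => ?_, fun hh a => Subtype.ext ?_⟩
  · show f (h * k) * (a : AddMonoid.End W) * f (h * k)⁻¹ = f h * (f k * (a : AddMonoid.End W) * f k⁻¹) * f h⁻¹
    rw [mul_inv_rev, map_mul, map_mul]; simp only [mul_assoc]
  · refine hcent h ?_
    have h1 : f h * T * f h⁻¹ = T := congrArg Subtype.val (he ⟨T, hTK⟩)
    calc f h * f t = f h * T * (f h⁻¹ * f h) := by rw [(hfu h).2, mul_one]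
      _ = f t * f h := by rw [← mul_assoc, h1]
  · show f h * (a : AddMonoid.End W) * f h⁻¹ = a
    have hle : K ≤ Subring.centralizer {f h} := Subring.closure_le.mpr fun x hx => by
      rw [Set.mem_singleton_iff] at hx
      subst hx
      exact Subring.mem_centralizer_iff.mpr fun g hg => by rw [Set.mem_singleton_iff] at hg; rw [hg]; exact hcM h hh
    rw [Subring.mem_centralizer_iff.mp (hle a.2) (f h) rfl, mul_assoc, (hfu h).1, mul_one]

theorem not_dvd_of_count {p d c q : ℕ} (hp : p.Prime) (hc : 0 < c) (hcd : c < d)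
    (hq : p ^ d - 1 = q * (p ^ c - 1)) : ∀ i, 0 < i → i < d → ¬ q ∣ p ^ i - 1 := by
  intro i hi hid hdvd
  have hg : q ∣ p ^ Nat.gcd i d - 1 := by
    rw [← Nat.pow_sub_one_gcd_pow_sub_one]
    exact Nat.dvd_gcd hdvd ⟨_, hq⟩
  have hcd' : Nat.gcd c d = c := by
    have h1 : Nat.gcd (p ^ c - 1) (p ^ d - 1) = p ^ c - 1 := Nat.gcd_eq_left ⟨q, by rw [hq, mul_comm]⟩
    rw [Nat.pow_sub_one_gcd_pow_sub_one] at h1
    have h2 : p ^ Nat.gcd c d = p ^ c := by
      have := Nat.one_le_pow (Nat.gcd c d) p hp.pos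
      have := Nat.one_le_pow c p hp.pos
      omega
    exact Nat.pow_right_injective hp.two_le h2
  have hc2 : 2 * c ≤ d := by
    obtain ⟨k, hk⟩ : c ∣ d := hcd' ▸ Nat.gcd_dvd_right c d
    rcases k with _ | _ | k
    · omega
    · omega
    · rw [hk]; nlinarith
  have hg2 : 2 * Nat.gcd i d ≤ d := by
    obtain ⟨k, hk⟩ := Nat.gcd_dvd_right i d
    have hle : Nat.gcd i d ≤ i := Nat.le_of_dvd hi (Nat.gcd_dvd_left i d)
    rcases k with _ | _ | k
    · omega
    · omega
    · calc 2 * Nat.gcd i d ≤ (k + 1 + 1) * Nat.gcd i d := Nat.mul_le_mul_right _ (by omega)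
        _ = d := by rw [mul_comm]; exact hk.symm
  have hgpos : 0 < Nat.gcd i d := Nat.gcd_pos_of_pos_left _ hi
  have hge : p ^ Nat.gcd i d ≤ p ^ (d - c) := Nat.pow_le_pow_right hp.pos (by omega)
  have hqle : q < p ^ (d - c) := by
    have h1 : 1 < p ^ Nat.gcd i d := Nat.one_lt_pow hgpos.ne' hp.one_lt
    have := Nat.le_of_dvd (by omega) hg
    omega
  have hpc : 1 < p ^ c := Nat.one_lt_pow hc.ne' hp.one_lt
  have h3 : p ^ (d - c) * (p ^ c - 1) + p ^ (d - c) = p ^ d := by
    obtain ⟨m, hm⟩ : ∃ m, p ^ c = m + 1 := ⟨p ^ c - 1, by omega⟩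
    rw [hm, Nat.add_sub_cancel, ← Nat.mul_succ, Nat.succ_eq_add_one, ← hm, ← pow_add]
    congr 1; omega
  have h4 : (q + 1) * (p ^ c - 1) ≤ p ^ (d - c) * (p ^ c - 1) := Nat.mul_le_mul_right _ hqle
  have h5 : 2 ≤ p ^ (d - c) := Nat.one_lt_pow (by omega) hp.one_lt
  rw [Nat.add_mul, one_mul, ← hq] at h4
  omega

variable {G : Type*} [Group G] [Finite G] {Ω : Type*} [Finite Ω] [MulAction G Ω] [FaithfulSMul G Ω]
  [IsPreprimitive G Ω] [Group.IsSolvable G]

theorem exists_regular_normal {p d : ℕ} (hp : p.Prime) (hcard : Nat.card Ω = p ^ d) [Nontrivial Ω] :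
    ∃ V : Subgroup G, V.Normal ∧ V ≠ ⊥ ∧ (∀ a ∈ V, ∀ b ∈ V, a * b = b * a) ∧ (∀ a ∈ V, a ^ p = 1) ∧
      Nat.card V = p ^ d ∧ (∀ v ∈ V, ∀ x : Ω, v • x = x → v = 1) ∧ Subgroup.centralizer (V : Set G) = V := by
  haveI : Nontrivial G := by
    by_contra h
    rw [not_nontrivial_iff_subsingleton] at h
    obtain ⟨a, b, hab⟩ := exists_pair_ne Ω
    obtain ⟨g, hg⟩ := exists_smul_eq G a b
    rw [Subsingleton.elim g 1, one_smul] at hg
    exact hab hg
  have hne := CfsgLib.Solvable.Cores.fittingSubgroup_ne_bot (G := G)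
  obtain ⟨hc, r, e, hr, he, hexp⟩ := ExtremelyPrimitive.nilpotent_normal (X := Ω) (Cfsg.fittingSubgroup G) hne
  obtain ⟨hsemi, hcent, hn⟩ := ExtremelyPrimitive.regular_of_comm (X := Ω) (Cfsg.fittingSubgroup G) hne hc
  have hrp : r = p := by
    have h1 : r ^ e = p ^ d := by rw [← he, hn, hcard]
    have he0 : e ≠ 0 := fun h => hne (Subgroup.card_eq_one.mp (by rw [he, h, pow_zero]))
    exact (Nat.prime_dvd_prime_iff_eq hr hp).mp (hr.dvd_of_dvd_pow (h1 ▸ dvd_pow_self r he0))
  exact ⟨_, inferInstance, hne, hc, fun a ha => hrp ▸ hexp a ha, by rw [hn, hcard], hsemi, hcent⟩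

/-- The structure of solvable extremely primitive groups. -/
theorem main {p d : ℕ} (hp : p.Prime) (hcard : Nat.card Ω = p ^ d)
    (hep : ∀ (α : Ω) (ω : Ω), IsPreprimitive (stabilizer G α) (orbit (stabilizer G α) ω))
    (α : Ω) (hH : stabilizer G α ≠ ⊥) :
    ∃ q : ℕ, q.Prime ∧ (∀ ω : Ω, ω ≠ α → Nat.card (orbit (stabilizer G α) ω) = q) ∧
      q ∣ p ^ d - 1 ∧ (∀ i : ℕ, 0 < i → i < d → ¬ q ∣ p ^ i - 1) ∧
      ∃ T : Subgroup G, T ≤ stabilizer G α ∧ stabilizer G α ≤ Subgroup.normalizer (T : Set G) ∧ Nat.card T = q ∧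
        (∃ h : G, stabilizer G α = T ⊔ Subgroup.zpowers h) ∧ Nat.card (stabilizer G α) ∣ q * d := by
  classical
  haveI := Fact.mk hp
  obtain ⟨ω, hω⟩ : ∃ ω : Ω, ω ≠ α := by
    by_contra h
    push_neg at h
    refine hH ((Subgroup.eq_bot_iff_forall _).mpr fun g _ => eq_of_smul_eq_smul fun x : Ω => ?_)
    rw [h x, h (g • α), one_smul]
  haveI : Nontrivial Ω := ⟨⟨ω, α, hω⟩⟩
  obtain ⟨V, hVn, hV1, hVc, hVexp, hVcard, hVsemi, hVcent⟩ := exists_regular_normal (G := G) hp hcard
  haveI := hVn
  set H := stabilizer G α with hHdef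
  have hco : IsCoatom H := IsPreprimitive.isCoatom_stabilizer_of_isPreprimitive G α
  have hVH : ∀ g ∈ H, g ∈ V → g = 1 := fun g hg hv => hVsemi g hv α hg
  haveI : Nontrivial H := (Subgroup.nontrivial_iff_ne_bot H).mpr hH
  set F := Cfsg.fittingSubgroup H with hFdef
  have hF1 : F ≠ ⊥ := CfsgLib.Solvable.Cores.fittingSubgroup_ne_bot
  obtain ⟨hf0, hnt0⟩ := ExtremelyPrimitive.orbit_facts hep hω hH
  haveI := hep α ω
  obtain ⟨hFc, q, e, hq, hFcard, hFexp⟩ := ExtremelyPrimitive.nilpotent_normal (X := orbit H ω) F hF1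
  haveI := Fact.mk hq
  have hreg : ∀ x : Ω, x ≠ α → (∀ n ∈ F, (n : G) • x = x → n = 1) ∧ Nat.card F = Nat.card (orbit H x) ∧
      (∀ h : H, ∃ n ∈ F, (n : G) • x = (h : G) • x) ∧ Subgroup.centralizer (F : Set H) = F := by
    intro x hx
    obtain ⟨hf, hnt⟩ := ExtremelyPrimitive.orbit_facts hep hx hH
    haveI := hep α x
    obtain ⟨hs, hc, hn⟩ := ExtremelyPrimitive.regular_of_comm (X := orbit H x) F hF1 hFc
    haveI := ExtremelyPrimitive.normal_transitive (X := orbit H x) F hF1
    refine ⟨fun n hn hfx => hs n hn ⟨x, mem_orbit_self x⟩ (Subtype.ext hfx), hn, fun h => ?_, hc⟩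
    obtain ⟨n, hn⟩ := exists_smul_eq F (⟨x, mem_orbit_self x⟩ : orbit H x) ⟨h • x, mem_orbit x h⟩
    exact ⟨n, n.2, congrArg Subtype.val hn⟩
  have hVfix : ∀ (h : H) (v : G), (h : G) • v • α = ((h : G) * v * (h : G)⁻¹) • α := fun h v => by
    have hh : (h : G)⁻¹ • α = α := (H.inv_mem h.2 : (h : G)⁻¹ ∈ stabilizer G α)
    rw [mul_smul _ ((h : G)⁻¹), hh, mul_smul]
  have hvα : ∀ v ∈ V, v ≠ 1 → v • α ≠ α := fun v hv h1 he => h1 (hVsemi v hv α he)
  have hfpf : ∀ n ∈ F, ∀ v ∈ V, (n : G) * v * (n : G)⁻¹ = v → v ≠ 1 → n = 1 := fun n hn v hv he h1 =>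
    (hreg _ (hvα v hv h1)).1 n hn (by rw [hVfix, he])
  -- the Fitting subgroup has prime order
  have hFq : Nat.card F = q := by
    let F' : Subgroup G := F.map H.subtype
    have hcyc : IsCyclic F' := by
      refine CfsgLib.FrobRealize.FPF.isCyclic_of_comm hV1 ?_ ?_ ⟨⟨fun a b => Subtype.ext ?_⟩⟩
      · intro g _
        exact Subgroup.normalizer_eq_top_iff.mpr hVn ▸ Subgroup.mem_top g
      · rintro _ ⟨n, hn, rfl⟩ hne
        refine (Subgroup.eq_bot_iff_forall _).mpr fun v hv => ?_
        by_contra h1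
        apply hne
        have he : (n : G) * v * (n : G)⁻¹ = v := by
          have h2 : (H.subtype n) * v = v * (H.subtype n) := Subgroup.mem_centralizer_singleton_iff.mp hv.2 |>.symm
          rw [show (n : G) * v = v * (n : G) from h2, mul_inv_cancel_right]
        rw [hfpf n hn v hv.1 he h1]
        rfl
      · obtain ⟨x, hx, ex⟩ := a.2
        obtain ⟨y, hy, ey⟩ := b.2
        show (a : G) * b = b * a
        rw [← ex, ← ey, ← map_mul, ← map_mul, hFc x hx y hy]
    obtain ⟨y, hy⟩ := IsCyclic.exists_ofOrder_eq_natCard (α := F')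
    have hcardF' : Nat.card F' = q ^ e := by rw [Subgroup.card_map_of_injective H.subtype_injective, hFcard]
    have hdvd : orderOf y ∣ q := orderOf_dvd_of_pow_eq_one (Subtype.ext (by
      obtain ⟨n, hn, en⟩ := y.2
      rw [Subgroup.coe_pow, ← en, ← map_pow, hFexp n hn, map_one, Subgroup.coe_one]))
    rw [hy, hcardF'] at hdvd
    rw [hFcard]
    rcases (Nat.dvd_prime hq).mp hdvd with h | h
    · exact absurd (Subgroup.card_eq_one.mp (hFcard.trans h)) hF1
    · exact h
  obtain ⟨t, htF, htne⟩ : ∃ t ∈ F, t ≠ 1 := by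
    by_contra h
    push_neg at h
    exact hF1 ((Subgroup.eq_bot_iff_forall _).mpr h)
  have htq : t ^ q = 1 := hFexp t htF
  have htgen : ∀ n ∈ F, ∃ s : ℕ, n = t ^ s := by
    intro n hn
    have h1 : Subgroup.zpowers t ≤ F := Subgroup.zpowers_le.mpr htF
    have h2 : Subgroup.zpowers t = F := Subgroup.eq_of_le_of_card_ge h1 (by
      rw [Nat.card_zpowers, orderOf_eq_prime htq htne, hFq])
    obtain ⟨s, hs⟩ := mem_powers_iff_mem_zpowers.mpr (h2.symm ▸ hn : n ∈ Subgroup.zpowers t)
    exact ⟨s, hs.symm⟩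
  have horb : ∀ x : Ω, x ≠ α → Nat.card (orbit H x) = q := fun x hx => by rw [← (hreg x hx).2.1, hFq]
  have hqd : q ∣ p ^ d - 1 := by
    rw [← hcard, ← hFq]
    exact ExtremelyPrimitive.card_dvd_pred hep α hH F hF1 hFc
  -- the conjugation action on the regular normal subgroup
  have hconj : ∀ (h : H) (v : G), v ∈ V → (h : G) * v * (h : G)⁻¹ ∈ V := fun h v hv => hVn.conj_mem v hv h
  letI : CommGroup V := { (inferInstance : Group V) with mul_comm := fun a b => Subtype.ext (hVc a a.2 b b.2) }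
  let f : H →* AddMonoid.End (Additive V) :=
    { toFun := fun h => MonoidHom.toAdditive (MulAut.conjNormal (h : G) : MulAut V).toMonoidHom
      map_one' := AddMonoidHom.ext fun v => Additive.toMul.injective (by
        show (MulAut.conjNormal (1 : G) : MulAut V) v.toMul = v.toMul
        rw [map_one]; rfl)
      map_mul' := fun a c => AddMonoidHom.ext fun v => Additive.toMul.injective (by
        show (MulAut.conjNormal ((a : G) * c) : MulAut V) v.toMul =
          (MulAut.conjNormal (a : G) : MulAut V) ((MulAut.conjNormal (c : G) : MulAut V) v.toMul)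
        rw [map_mul]; rfl) }
  have hfval : ∀ (h : H) (v : Additive V), (((f h v).toMul : V) : G) = (h : G) * (v.toMul : V) * (h : G)⁻¹ := fun h v => rfl
  have hWcard : Nat.card (Additive V) = p ^ d := by rw [Nat.card_congr Additive.toMul, hVcard]
  have hWp : ∀ w : Additive V, p • w = 0 := fun w => by
    apply Additive.toMul.injective
    exact Subtype.ext (hVexp _ (Additive.toMul w : V).2)
  haveI : Nontrivial (Additive V) := by
    haveI : Nontrivial V := (Subgroup.nontrivial_iff_ne_bot V).mpr hV1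
    exact inferInstanceAs (Nontrivial V)
  have hHirr : ∀ U : AddSubgroup (Additive V), U ≠ ⊥ → (∀ h : H, ∀ u ∈ U, f h u ∈ U) → U = ⊤ := by
    intro U hU hinv
    let U' : Subgroup G := (AddSubgroup.toSubgroup' U).map V.subtype
    have hmem : ∀ w : Additive V, ((w.toMul : V) : G) ∈ U' ↔ w ∈ U := fun w => by
      constructor
      · rintro ⟨x, hx, ex⟩
        rw [← ofMul_toMul w, ← show x = w.toMul from Subtype.ext ex]
        exact hx
      · exact fun hw => ⟨w.toMul, hw, rfl⟩
    have hnorm : H ≤ Subgroup.normalizer (U' : Set G) := by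
      intro g hg
      refine Subgroup.mem_normalizer_fintype ?_
      rintro _ ⟨x, hx, rfl⟩
      have h1 := (hmem (f ⟨g, hg⟩ (Additive.ofMul x))).mpr (hinv ⟨g, hg⟩ _ hx)
      rwa [hfval] at h1
    have htop : U' ⊔ H = ⊤ := by
      refine (hco.le_iff.mp le_sup_right).resolve_right fun he => hU ?_
      rw [eq_bot_iff]
      intro w hw
      have h1 : ((w.toMul : V) : G) ∈ H := he ▸ Subgroup.mem_sup_left ((hmem w).mpr hw)
      have h2 : w.toMul = 1 := Subtype.ext (hVH _ h1 (w.toMul : V).2)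
      rw [AddSubgroup.mem_bot]
      exact Additive.toMul.injective h2
    rw [eq_top_iff]
    intro w _
    have h1 : ((w.toMul : V) : G) ∈ ((U' ⊔ H : Subgroup G) : Set G) := htop ▸ Subgroup.mem_top _
    rw [Subgroup.coe_mul_of_right_le_normalizer_left U' H hnorm] at h1
    obtain ⟨u, hu, h, hh, e⟩ := h1
    have hh1 : h = 1 := by
      refine hVH h hh ?_
      rw [show h = u⁻¹ * ((w.toMul : V) : G) by rw [← e]; simp]
      exact V.mul_mem (V.inv_mem ((Subgroup.map_subtype_le _) hu)) (w.toMul : V).2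
    refine (hmem w).mp ?_
    rw [← e, hh1]
    simpa using hu
  -- no smaller field
  have hmin : ∀ i, 0 < i → i < d → ¬ q ∣ p ^ i - 1 := by
    by_cases hFtop : F = ⊤
    · intro i hi hid hdvd
      have hirr : ∀ U : AddSubgroup (Additive V), U ≠ ⊥ → (∀ u ∈ U, f t u ∈ U) → U = ⊤ := by
        intro U hU hinv
        refine hHirr U hU fun h u hu => ?_
        obtain ⟨s, rfl⟩ := htgen h (hFtop ▸ Subgroup.mem_top h)
        clear hFtop
        induction s generalizing u with
        | zero =>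
          rw [pow_zero, map_one]
          exact hu
        | succ s ih =>
          rw [pow_succ, map_mul]
          exact ih (f t u) (hinv u hu)
      exact absurd ((field_facts hWcard hWp f t htq hirr).1 i hi hdvd) (by omega)
    · obtain ⟨h0, hh0x, hh0⟩ : ∃ h0 : H, (h0 : G) • ω = ω ∧ h0 ≠ 1 := by
        by_contra hc
        push_neg at hc
        apply hFtop
        rw [eq_top_iff]
        intro h _
        obtain ⟨n, hn, he⟩ := (hreg ω hω).2.2.1 h
        have h1 : n⁻¹ * h = 1 := hc _ (by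
          show ((n : G)⁻¹ * (h : G)) • ω = ω
          rw [mul_smul, ← he, inv_smul_smul])
        rw [← eq_of_inv_mul_eq_one h1]
        exact hn
      have hh0F : h0 ∉ F := fun h => hh0 ((hreg ω hω).1 h0 h hh0x)
      have hFnorm : ∀ n ∈ F, h0 * n * h0⁻¹ ∈ F := fun n hn => (inferInstance : F.Normal).conj_mem n hn h0
      have hfix1 : ∀ n ∈ F, h0 * n * h0⁻¹ = n → n = 1 := by
        intro n hn he
        by_contra hne
        apply hh0F
        rw [← (hreg ω hω).2.2.2]
        refine Subgroup.mem_centralizer_iff.mpr fun m hm => ?_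
        have hz : Subgroup.zpowers n = F := Subgroup.eq_of_le_of_card_ge (Subgroup.zpowers_le.mpr hn) (by
          rw [Nat.card_zpowers, orderOf_eq_prime (hFexp n hn) hne, hFq])
        obtain ⟨s, rfl⟩ := Subgroup.mem_zpowers_iff.mp (hz.symm ▸ hm : m ∈ Subgroup.zpowers n)
        have hcn : Commute n h0 := (mul_inv_eq_iff_eq_mul.mp he).symm
        exact (hcn.zpow_left s).eq
      let δ : F → F := fun n => ⟨(h0 * n * h0⁻¹) * (n : H)⁻¹, F.mul_mem (hFnorm n n.2) (F.inv_mem n.2)⟩
      have hδ : Function.Surjective δ := by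
        refine Finite.injective_iff_surjective.mp fun a b hab => ?_
        have h1 : (h0 * a * h0⁻¹) * (a : H)⁻¹ = (h0 * b * h0⁻¹) * (b : H)⁻¹ := congrArg Subtype.val hab
        have h2 : h0 * ((b : H)⁻¹ * a) * h0⁻¹ = (b : H)⁻¹ * a := by
          calc h0 * ((b : H)⁻¹ * a) * h0⁻¹ = (h0 * b * h0⁻¹)⁻¹ * ((h0 * a * h0⁻¹) * (a : H)⁻¹) * a := by group
            _ = (h0 * b * h0⁻¹)⁻¹ * ((h0 * b * h0⁻¹) * (b : H)⁻¹) * a := by rw [h1]
            _ = (b : H)⁻¹ * a := by group
        exact Subtype.ext (eq_of_inv_mul_eq_one (hfix1 _ (F.mul_mem (F.inv_mem b.2) a.2) h2)).symm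
      let CV : Subgroup G := V ⊓ Subgroup.centralizer {(h0 : G)}
      let P := {x : Ω // x ≠ α ∧ (h0 : G) • x = x}
      have hP : Nat.card P = Nat.card CV - 1 := by
        have e1 : Nat.card {v : CV // v ≠ 1} = Nat.card P := by
          refine Nat.card_congr (Equiv.ofBijective (fun v => ⟨((v.1 : CV) : G) • α,
            hvα _ v.1.2.1 (fun h => v.2 (Subtype.ext h)), ?_⟩) ⟨fun a b hab => ?_, ?_⟩)
          · have hc : ((v.1 : CV) : G) * (h0 : G) = (h0 : G) * ((v.1 : CV) : G) :=
              Subgroup.mem_centralizer_singleton_iff.mp v.1.2.2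
            rw [hVfix, ← hc, mul_inv_cancel_right]
          · have h1 : ((a.1 : CV) : G) • α = ((b.1 : CV) : G) • α := congrArg Subtype.val hab
            have h2 := hVsemi _ (V.mul_mem (V.inv_mem b.1.2.1) a.1.2.1) α (by rw [mul_smul, h1, inv_smul_smul])
            exact Subtype.ext (Subtype.ext (eq_of_inv_mul_eq_one h2).symm)
          · rintro ⟨x, hx, hfx⟩
            haveI := ExtremelyPrimitive.normal_transitive (X := Ω) V hV1
            obtain ⟨⟨v, hv⟩, hvx⟩ := exists_smul_eq V α x
            have hvx' : v • α = x := hvx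
            have h2 := hVfix h0 v
            rw [hvx', hfx, ← hvx'] at h2
            have h3 := hVsemi _ (V.mul_mem (V.inv_mem (hconj h0 v hv)) hv) α (by rw [mul_smul, h2, inv_smul_smul])
            have hcv : v ∈ Subgroup.centralizer {(h0 : G)} :=
              Subgroup.mem_centralizer_singleton_iff.mpr (mul_inv_eq_iff_eq_mul.mp (eq_of_inv_mul_eq_one h3)).symm
            exact ⟨⟨⟨v, hv, hcv⟩, fun h => hx (by
              rw [← hvx', show v = 1 from congrArg Subtype.val h, one_smul])⟩, Subtype.ext hvx'⟩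
        rw [← e1]
        haveI := Fintype.ofFinite CV
        rw [Nat.card_eq_fintype_card, Nat.card_eq_fintype_card, Fintype.card_subtype_compl, Fintype.card_subtype_eq]
      have hcount : p ^ d - 1 = q * (Nat.card CV - 1) := by
        have hx' : ∀ (n : H) (x : Ω), x ≠ α → (n : G) • x ≠ α := fun n x hx h =>
          hx (MulAction.injective (n : G) (h.trans (n.2 : (n : G) • α = α).symm))
        have e2 : Nat.card (F × P) = Nat.card {x : Ω // x ≠ α} := by
          refine Nat.card_congr (Equiv.ofBijective (fun z => ⟨((z.1 : H) : G) • (z.2 : Ω), hx' _ _ z.2.2.1⟩)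
            ⟨?_, ?_⟩)
          · rintro ⟨⟨a, ha⟩, ⟨x, hx, hfx⟩⟩ ⟨⟨b, hb⟩, ⟨y, hy, hfy⟩⟩ hab
            have h1 : (a : G) • x = (b : G) • y := congrArg Subtype.val hab
            have hk : (((b⁻¹ * a : H)) : G) • x = y := by
              show ((b : G)⁻¹ * (a : G)) • x = y
              rw [mul_smul, h1, inv_smul_smul]
            have h2 : b⁻¹ * a = 1 := by
              refine hfix1 _ (F.mul_mem (F.inv_mem hb) ha) ?_
              have h3 : ((h0 * (b⁻¹ * a) * h0⁻¹ : H) : G) • x = y := by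
                have hh : (h0 : G)⁻¹ • x = x := inv_smul_eq_iff.mpr hfx.symm
                show ((h0 : G) * ((b⁻¹ * a : H) : G) * (h0 : G)⁻¹) • x = y
                rw [mul_smul _ ((h0 : G)⁻¹), hh, mul_smul, hk, hfy]
              have h4 := (hreg x hx).1 _ (F.mul_mem (F.inv_mem (F.mul_mem (F.inv_mem hb) ha))
                (hFnorm _ (F.mul_mem (F.inv_mem hb) ha))) (by
                show ((((b⁻¹ * a : H)) : G)⁻¹ * ((h0 * (b⁻¹ * a) * h0⁻¹ : H) : G)) • x = x
                rw [mul_smul, h3, ← hk, inv_smul_smul])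
              exact (eq_of_inv_mul_eq_one h4).symm
            have hab' : a = b := (eq_of_inv_mul_eq_one h2).symm
            subst hab'
            have hxy : x = y := MulAction.injective (a : G) h1
            subst hxy
            rfl
          · rintro ⟨y, hy⟩
            obtain ⟨n0, hn0, he0⟩ := (hreg y hy).2.2.1 h0
            obtain ⟨⟨n, hn⟩, hn'⟩ := hδ ⟨n0⁻¹, F.inv_mem hn0⟩
            have h5 : h0 * n * h0⁻¹ * n⁻¹ = n0⁻¹ := congrArg Subtype.val hn'
            have h6 : h0 * n * h0⁻¹ * n0 = n := by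
              have h7 : h0 * n * h0⁻¹ = n0⁻¹ * n := by rw [← h5, inv_mul_cancel_right]
              rw [h7, hFc _ (F.inv_mem hn0) _ hn, inv_mul_cancel_right]
            refine ⟨⟨⟨n⁻¹, F.inv_mem hn⟩, ⟨(n : G) • y, hx' _ _ hy, ?_⟩⟩, Subtype.ext ?_⟩
            · have h8 : ((h0 * n * h0⁻¹ * n0 : H) : G) • y = (n : G) • y := by rw [h6]
              have h9 : ((h0 * n * h0⁻¹ * n0 : H) : G) • y = (h0 : G) • (n : G) • y := by
                show ((h0 : G) * (n : G) * (h0 : G)⁻¹ * (n0 : G)) • y = _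
                rw [mul_smul _ (n0 : G), he0, ← mul_smul, inv_mul_cancel_right, mul_smul]
              rw [← h9, h8]
            · show ((n : G)⁻¹) • (n : G) • y = y
              rw [inv_smul_smul]
        rw [Nat.card_prod, hP, hFq] at e2
        rw [e2, ← hcard]
        haveI := Fintype.ofFinite Ω
        rw [Nat.card_eq_fintype_card, Nat.card_eq_fintype_card, Fintype.card_subtype_compl, Fintype.card_subtype_eq]
      obtain ⟨c, hc⟩ := IsPGroup.iff_card.mp
        (fun a : CV => ⟨1, Subtype.ext (by rw [pow_one, Subgroup.coe_pow, hVexp _ a.2.1, Subgroup.coe_one])⟩ : IsPGroup p CV)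
      have hle : Nat.card CV ≤ p ^ d := hVcard ▸ Subgroup.card_le_of_le inf_le_left
      have hd0 : 1 < p ^ d := by rw [← hcard]; exact Finite.one_lt_card
      have hcd : c < d := by
        by_contra hge
        have hcle : c ≤ d := (Nat.pow_le_pow_iff_right hp.one_lt).mp (hc ▸ hle)
        have heq : CV = V := Subgroup.eq_of_le_of_card_ge inf_le_left (by rw [hc, hVcard, show c = d by omega])
        refine hh0 (Subtype.ext (hVH _ h0.2 ?_))
        rw [← hVcent]
        refine Subgroup.mem_centralizer_iff.mpr fun v hv => ?_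
        exact Subgroup.mem_centralizer_singleton_iff.mp (heq.symm ▸ hv : v ∈ CV).2
      have hc0 : 0 < c := by
        by_contra h
        rw [hc, show c = 0 by omega, pow_zero, Nat.sub_self, mul_zero] at hcount
        omega
      exact not_dvd_of_count hp hc0 hcd (by rw [hcount, hc])
  -- irreducibility
  have hirr : ∀ U : AddSubgroup (Additive V), U ≠ ⊥ → (∀ u ∈ U, f t u ∈ U) → U = ⊤ := by
    intro U hU hinv
    let act : MulAction (Subgroup.zpowers t) U :=
      { smul := fun n u => ⟨f n u, by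
          obtain ⟨s, hs⟩ := mem_powers_iff_mem_zpowers.mpr n.2
          simp only at hs
          rw [← hs]
          clear hs
          obtain ⟨u, hu⟩ := u
          show f (t ^ s) u ∈ U
          induction s generalizing u with
          | zero => rw [pow_zero, map_one]; exact hu
          | succ s ih => rw [pow_succ, map_mul]; exact ih (f t u) (hinv u hu)⟩
        one_smul := fun u => Subtype.ext (by show f 1 u = u; rw [map_one]; rfl)
        mul_smul := fun a b u => Subtype.ext (by show f ((a : H) * b) u = f a (f b u); rw [map_mul]; rfl) }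
    have hpg : IsPGroup q (Subgroup.zpowers t) := IsPGroup.of_card (n := 1) (by
      rw [Nat.card_zpowers, orderOf_eq_prime htq htne, pow_one])
    have hmod := hpg.card_modEq_card_fixedPoints U
    have hfixed : Nat.card (fixedPoints (Subgroup.zpowers t) U) = 1 := by
      rw [Nat.card_eq_one_iff_unique]
      refine ⟨⟨fun a b => ?_⟩, ⟨⟨⟨0, U.zero_mem⟩, fun n => Subtype.ext (map_zero _)⟩⟩⟩
      have hz : ∀ a : fixedPoints (Subgroup.zpowers t) U, ((a.1 : U) : Additive V) = 0 := by
        intro a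
        have h1 : f t ((a.1 : U) : Additive V) = ((a.1 : U) : Additive V) :=
          congrArg Subtype.val (a.2 ⟨t, Subgroup.mem_zpowers t⟩)
        by_contra hne
        have h2 := congrArg (fun w : Additive V => ((w.toMul : V) : G)) h1
        simp only [hfval] at h2
        exact htne (hfpf t htF _ (Additive.toMul ((a.1 : U) : Additive V) : V).2 h2 fun h3 => hne
          (Additive.toMul.injective (Subtype.ext h3)))
      exact Subtype.ext (Subtype.ext ((hz a).trans (hz b).symm))
    rw [hfixed] at hmod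
    obtain ⟨k, hk⟩ : ∃ k, Nat.card U = p ^ k := by
      have hdvd : Nat.card U ∣ p ^ d := hWcard ▸ U.card_addSubgroup_dvd_card
      obtain ⟨k, -, hk⟩ := (Nat.dvd_prime_pow hp).mp hdvd
      exact ⟨k, hk⟩
    have hk0 : 0 < k := by
      by_contra h
      exact hU (AddSubgroup.card_eq_one.mp (by rw [hk, show k = 0 by omega, pow_zero]))
    rw [hk] at hmod
    have hdvd : q ∣ p ^ k - 1 := (Nat.modEq_iff_dvd' (Nat.one_le_pow k p hp.pos)).mp hmod.symm
    have hkd : ¬ k < d := fun h => hmin k hk0 h hdvd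
    apply AddSubgroup.eq_top_of_le_card
    rw [hk, hWcard]
    exact Nat.pow_le_pow_right hp.pos (by omega)
  obtain ⟨-, hgal⟩ := field_facts hWcard hWp f t htq hirr
  have hcent : ∀ h : H, f h * f t = f t * f h → h ∈ F := by
    intro h hcm
    rw [← (hreg ω hω).2.2.2]
    refine Subgroup.mem_centralizer_iff.mpr fun m hm => ?_
    obtain ⟨s, rfl⟩ := htgen m hm
    have h1 : f (t⁻¹ * h⁻¹ * t * h) = 1 := by
      rw [show t⁻¹ * h⁻¹ * t * h = (h * t)⁻¹ * (t * h) by group, map_mul, map_mul f t h, ← hcm, ← map_mul f h t,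
        ← map_mul, inv_mul_cancel, map_one]
    have h2 : t⁻¹ * h⁻¹ * t * h = 1 := by
      refine Subtype.ext (hVH _ (t⁻¹ * h⁻¹ * t * h).2 ?_)
      rw [← hVcent]
      refine Subgroup.mem_centralizer_iff.mpr fun v hv => ?_
      have h3 := congrArg (fun w : Additive V => ((w.toMul : V) : G))
        (DFunLike.congr_fun h1 (Additive.ofMul (⟨v, hv⟩ : V)))
      simp only [hfval] at h3
      exact (mul_inv_eq_iff_eq_mul.mp h3).symm
    have hc : Commute t h := by
      rw [show t⁻¹ * h⁻¹ * t * h = (h * t)⁻¹ * (t * h) by group] at h2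
      exact (eq_of_inv_mul_eq_one h2).symm
    exact (hc.pow_left s).eq
  have hcM : ∀ h ∈ F, f h * f t = f t * f h := by
    intro h hh
    rw [← map_mul, ← map_mul, hFc h hh t htF]
  obtain ⟨hdvd, h, hh⟩ := hgal F hFq htF (fun h => htgen _ ((inferInstance : F.Normal).conj_mem t htF h)) hcent hcM
  refine ⟨q, hq, horb, hqd, hmin, F.map H.subtype, Subgroup.map_subtype_le _, ?_, ?_, ⟨(h : G), ?_⟩, hdvd⟩
  · intro g hg
    refine Subgroup.mem_normalizer_fintype ?_
    rintro _ ⟨n, hn, rfl⟩
    exact ⟨⟨g, hg⟩ * n * ⟨g, hg⟩⁻¹, (inferInstance : F.Normal).conj_mem n hn _, rfl⟩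
  · rw [Subgroup.card_map_of_injective H.subtype_injective, hFq]
  · have h1 := congrArg (Subgroup.map H.subtype) hh
    rw [Subgroup.map_sup, MonoidHom.map_zpowers, ← MonoidHom.range_eq_map, Subgroup.range_subtype] at h1
    exact h1.symm

end CfsgLib.Recognition.SolvableExtremelyPrimitive
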