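import Mathlib
import Cfsg.Agent.Lib.Recognition.AffineGroup

/-!
A solvable group with the element orders `1, 2, 3, 4, 5, 6, 9, 12`: a group of exponent 9 and class 3
over `F₈₁`, extended by `5 : 4`.
-/

namespace CfsgLib.Recognition.SolvableNine

variable {K : Type*} [Field K] [CharP K 3] [Fact (Nat.Prime 3)]

theorem three_eq_zero : (3 : K) = 0 := by exact_mod_cast CharP.cast_eq_zero K 3

theorem cube_add (x y : K) : (x + y) ^ 3 = x ^ 3 + y ^ 3 := add_pow_char x y 3

theorem ninth_add (x y : K) : (x + y) ^ 9 = x ^ 9 + y ^ 9 := by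
  rw [show (9 : ℕ) = 3 ^ 2 by norm_num]; exact add_pow_char_pow x y 3 2

/-- The top group. -/
@[ext] structure U (K : Type*) where
  /-- linear part -/
  u : K
  /-- first central coordinate -/
  z : K
  /-- second central coordinate -/
  z' : K

instance : Mul (U K) := ⟨fun g h => ⟨g.u + h.u, g.z + h.z + g.u * h.u ^ 3, g.z' + h.z' - g.u ^ 9 * h.u ^ 3⟩⟩
instance : One (U K) := ⟨⟨0, 0, 0⟩⟩
instance : Inv (U K) := ⟨fun g => ⟨-g.u, -g.z + g.u * g.u ^ 3, -g.z' - g.u ^ 9 * g.u ^ 3⟩⟩

omit [CharP K 3] [Fact (Nat.Prime 3)] in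
theorem U_mul (g h : U K) : g * h = ⟨g.u + h.u, g.z + h.z + g.u * h.u ^ 3, g.z' + h.z' - g.u ^ 9 * h.u ^ 3⟩ := rfl

omit [CharP K 3] [Fact (Nat.Prime 3)] in
theorem U_one : (1 : U K) = ⟨0, 0, 0⟩ := rfl

omit [CharP K 3] [Fact (Nat.Prime 3)] in
theorem U_inv (g : U K) : g⁻¹ = ⟨-g.u, -g.z + g.u * g.u ^ 3, -g.z' - g.u ^ 9 * g.u ^ 3⟩ := rfl

instance instGroupU : Group (U K) where
  mul_assoc a b c := by ext <;> simp only [U_mul, cube_add, ninth_add] <;> ring
  one_mul a := by ext <;> simp [U_mul, U_one]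
  mul_one a := by ext <;> simp [U_mul, U_one]
  inv_mul_cancel a := by
    ext <;> simp only [U_mul, U_inv, U_one] <;> [ring; ring; skip]
    have h9 : (-a.u) ^ 9 = -(a.u ^ 9) := by ring
    rw [h9]; ring

instance [Finite K] : Finite (U K) :=
  Finite.of_injective (fun g => (g.u, g.z, g.z')) fun g h e => by ext <;> simp_all [Prod.ext_iff]

/-- The module. -/
abbrev V (K : Type*) := K × K × K × K

/-- The action. -/
def act : U K →* AddMonoid.End (V K) where
  toFun g :=
    { toFun := fun w => (w.1, w.2.1 + g.u ^ 3 * w.1 ^ 9, w.2.2.1 + g.u ^ 3 * w.1,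
        w.2.2.2 + g.u * w.2.1 - g.u ^ 9 * w.2.2.1 + g.z * w.1 ^ 9 + g.z' * w.1)
      map_zero' := by simp
      map_add' := fun a b => by
        refine Prod.ext rfl (Prod.ext ?_ (Prod.ext ?_ ?_)) <;>
          simp only [Prod.fst_add, Prod.snd_add, ninth_add] <;> ring }
  map_one' := AddMonoidHom.ext fun w => by
    show _ = w
    simp [U_one]
  map_mul' g h := AddMonoidHom.ext fun w => by
    refine Prod.ext rfl (Prod.ext ?_ (Prod.ext ?_ ?_))
    · show w.2.1 + (g.u + h.u) ^ 3 * w.1 ^ 9 = w.2.1 + h.u ^ 3 * w.1 ^ 9 + g.u ^ 3 * w.1 ^ 9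
      rw [cube_add]; ring
    · show w.2.2.1 + (g.u + h.u) ^ 3 * w.1 = w.2.2.1 + h.u ^ 3 * w.1 + g.u ^ 3 * w.1
      rw [cube_add]; ring
    · show w.2.2.2 + (g.u + h.u) * w.2.1 - (g.u + h.u) ^ 9 * w.2.2.1 + (g.z + h.z + g.u * h.u ^ 3) * w.1 ^ 9 +
        (g.z' + h.z' - g.u ^ 9 * h.u ^ 3) * w.1 = w.2.2.2 + h.u * w.2.1 - h.u ^ 9 * w.2.2.1 + h.z * w.1 ^ 9 + h.z' * w.1 +
        g.u * (w.2.1 + h.u ^ 3 * w.1 ^ 9) - g.u ^ 9 * (w.2.2.1 + h.u ^ 3 * w.1) + g.z * w.1 ^ 9 + g.z' * w.1
      rw [ninth_add]; ring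

theorem act_apply (g : U K) (w : V K) : act g w = (w.1, w.2.1 + g.u ^ 3 * w.1 ^ 9, w.2.2.1 + g.u ^ 3 * w.1,
    w.2.2.2 + g.u * w.2.1 - g.u ^ 9 * w.2.2.1 + g.z * w.1 ^ 9 + g.z' * w.1) := rfl

/-- The normal 3-subgroup. -/
abbrev A (K : Type*) [Field K] [CharP K 3] [Fact (Nat.Prime 3)] := AffineGroup.Aff (act (K := K))

theorem three_smul (w : V K) : 3 • w = 0 := by
  have h3 := three_eq_zero (K := K)
  refine Prod.ext ?_ (Prod.ext ?_ (Prod.ext ?_ ?_)) <;> simp [h3]

theorem U_pow_three (g : U K) : g ^ 3 = 1 := by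
  have h3 := three_eq_zero (K := K)
  rw [pow_succ, pow_two]
  ext <;> simp only [U_mul, U_one]
  · linear_combination g.u * h3
  · linear_combination (g.z + g.u ^ 4) * h3
  · have h9 := ninth_add g.u g.u
    rw [h9]
    linear_combination (g.z' - g.u ^ 12) * h3

theorem pow_nine (x : A K) : x ^ 9 = 1 := by
  obtain ⟨w, g, rfl⟩ := AffineGroup.exists_elt _ x
  exact AffineGroup.pow_mul_eq_one act three_smul w g (U_pow_three g)

theorem pow_three_eq (w : V K) (g : U K) :
    AffineGroup.elt act w g ^ 3 =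
      AffineGroup.elt act (0, 0, 0, g.u * g.u ^ 3 * w.1 ^ 9 - g.u ^ 9 * g.u ^ 3 * w.1) 1 := by
  rw [AffineGroup.pow_eq, U_pow_three]
  congr 1
  simp only [Finset.sum_range_succ, Finset.sum_range_zero, zero_add, pow_zero, pow_one, pow_two]
  have h3 := three_eq_zero (K := K)
  show w + act g w + act g (act g w) = _
  refine Prod.ext ?_ (Prod.ext ?_ (Prod.ext ?_ ?_)) <;> simp [act_apply]
  · linear_combination w.1 * h3
  · linear_combination (w.2.1 + g.u ^ 3 * w.1 ^ 9) * h3
  · linear_combination (w.2.2.1 + g.u ^ 3 * w.1) * h3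
  · linear_combination (w.2.2.2 + g.u * w.2.1 - g.u ^ 9 * w.2.2.1 + g.z * w.1 ^ 9 + g.z' * w.1) * h3

omit [CharP K 3] [Fact (Nat.Prime 3)] in
/-- Scaling with weights. -/
def scaleV (ζ : K) (w : V K) : V K := (ζ * w.1, ζ ^ 2 * w.2.1, ζ ^ 4 * w.2.2.1, ζ ^ 3 * w.2.2.2)

omit [CharP K 3] [Fact (Nat.Prime 3)] in
/-- Scaling with weights. -/
def scaleU (ζ : K) (g : U K) : U K := ⟨ζ * g.u, ζ ^ 4 * g.z, ζ ^ 2 * g.z'⟩

omit [CharP K 3] [Fact (Nat.Prime 3)] in
/-- The Frobenius on vectors. -/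
def frobV (w : V K) : V K := (w.1 ^ 3, w.2.1 ^ 3, w.2.2.1 ^ 3, w.2.2.2 ^ 3)

omit [CharP K 3] [Fact (Nat.Prime 3)] in
/-- The Frobenius on the top group. -/
def frobU (g : U K) : U K := ⟨g.u ^ 3, g.z ^ 3, g.z' ^ 3⟩

variable [Fintype K]

/-- An automorphism from compatible maps of finite pieces. -/
noncomputable def mkAut (fv : V K → V K) (fu : U K → U K) (hv : Function.Injective fv) (hu : Function.Injective fu)
    (hadd : ∀ a b, fv (a + b) = fv a + fv b) (hmul : ∀ g h, fu (g * h) = fu g * fu h)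
    (hact : ∀ g w, fv (act g w) = act (fu g) (fv w)) : MulAut (A K) :=
  MulEquiv.ofBijective
    ({ toFun := fun x => AffineGroup.elt act (fv x.left.toAdd) (fu x.right)
       map_one' := by
        have h0 : fv 0 = 0 := by
          have := hadd 0 0
          rw [add_zero] at this
          exact left_eq_add.mp this
        have h1 : fu 1 = 1 := by
          have := hmul 1 1
          rw [one_mul] at this
          exact left_eq_mul.mp this
        show AffineGroup.elt act (fv 0) (fu 1) = 1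
        rw [h0, h1]; rfl
       map_mul' := fun x y => by
        refine SemidirectProduct.ext ?_ (hmul _ _)
        show Multiplicative.ofAdd (fv (x.left.toAdd + act x.right y.left.toAdd)) =
          Multiplicative.ofAdd (fv x.left.toAdd) * Multiplicative.ofAdd (act (fu x.right) (fv y.left.toAdd))
        rw [hadd, hact, ofAdd_add] } : A K →* A K)
    (by
      haveI : Finite (A K) := Finite.of_equiv _ SemidirectProduct.equivProd.symm
      refine Finite.injective_iff_bijective.mp fun x y h => ?_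
      have h1 := congrArg (fun z : A K => z.left.toAdd) h
      have h2 := congrArg (fun z : A K => z.right) h
      exact SemidirectProduct.ext (Multiplicative.toAdd.injective (hv h1)) (hu h2))

/-- The automorphism from a fifth root of unity. -/
noncomputable def alpha (ζ : K) (hζ : ζ ^ 5 = 1) : MulAut (A K) :=
  mkAut (scaleV ζ) (scaleU ζ)
    (fun a b h => by
      have h0 : ζ ≠ 0 := by rintro rfl; simp at hζ
      simp only [scaleV, Prod.mk.injEq] at h
      exact Prod.ext (mul_left_cancel₀ h0 h.1) (Prod.ext (mul_left_cancel₀ (pow_ne_zero _ h0) h.2.1)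
        (Prod.ext (mul_left_cancel₀ (pow_ne_zero _ h0) h.2.2.1) (mul_left_cancel₀ (pow_ne_zero _ h0) h.2.2.2))))
    (fun a b h => by
      have h0 : ζ ≠ 0 := by rintro rfl; simp at hζ
      simp only [scaleU, U.mk.injEq] at h
      exact U.ext (mul_left_cancel₀ h0 h.1) (mul_left_cancel₀ (pow_ne_zero _ h0) h.2.1)
        (mul_left_cancel₀ (pow_ne_zero _ h0) h.2.2))
    (fun a b => by refine Prod.ext ?_ (Prod.ext ?_ (Prod.ext ?_ ?_)) <;> simp [scaleV, mul_add])
    (fun g h => by
      ext <;> simp only [scaleU, U_mul]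
      · ring
      · ring
      · linear_combination (g.u ^ 9 * h.u ^ 3 * (ζ ^ 7 + ζ ^ 2)) * hζ)
    (fun g w => by
      refine Prod.ext ?_ (Prod.ext ?_ (Prod.ext ?_ ?_)) <;> simp [act_apply, scaleV, scaleU]
      · linear_combination (-(g.u ^ 3 * w.1 ^ 9) * (ζ ^ 7 + ζ ^ 2)) * hζ
      · ring
      · linear_combination ((g.u ^ 9 * w.2.2.1 * (ζ ^ 8 + ζ ^ 3)) - (g.z * w.1 ^ 9 * (ζ ^ 8 + ζ ^ 3))) * hζ)

/-- The automorphism from the Frobenius. -/
noncomputable def phi : MulAut (A K) :=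
  mkAut frobV frobU
    (fun a b h => by
      simp only [frobV, Prod.mk.injEq] at h
      exact Prod.ext (frobenius_inj K 3 h.1) (Prod.ext (frobenius_inj K 3 h.2.1)
        (Prod.ext (frobenius_inj K 3 h.2.2.1) (frobenius_inj K 3 h.2.2.2))))
    (fun a b h => by
      simp only [frobU, U.mk.injEq] at h
      exact U.ext (frobenius_inj K 3 h.1) (frobenius_inj K 3 h.2.1) (frobenius_inj K 3 h.2.2))
    (fun a b => by refine Prod.ext ?_ (Prod.ext ?_ (Prod.ext ?_ ?_)) <;> simp [frobV, cube_add])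
    (fun g h => by
      ext <;> simp only [frobU, U_mul, cube_add, sub_pow_char]
      · ring
      · ring)
    (fun g w => by
      refine Prod.ext ?_ (Prod.ext ?_ (Prod.ext ?_ ?_)) <;> simp [act_apply, frobV, frobU, cube_add, sub_pow_char] <;> ring)

theorem alpha_apply (ζ : K) (hζ : ζ ^ 5 = 1) (w : V K) (g : U K) :
    alpha ζ hζ (AffineGroup.elt act w g) = AffineGroup.elt act (scaleV ζ w) (scaleU ζ g) := rfl

theorem phi_apply (w : V K) (g : U K) :
    phi (AffineGroup.elt act w g) = AffineGroup.elt act (frobV w) (frobU g) := rfl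

theorem elt_inj {w w' : V K} {g g' : U K} (h : AffineGroup.elt act w g = AffineGroup.elt act w' g') :
    w = w' ∧ g = g' :=
  ⟨congrArg (fun x : A K => x.left.toAdd) h, congrArg (fun x : A K => x.right) h⟩

theorem alpha_pow (ζ : K) (hζ : ζ ^ 5 = 1) (i : ℕ) :
    alpha ζ hζ ^ i = alpha (ζ ^ i) (by rw [← pow_mul, mul_comm, pow_mul, hζ, one_pow]) := by
  induction i with
  | zero =>
    refine MulEquiv.ext fun x => ?_
    obtain ⟨w, g, rfl⟩ := AffineGroup.exists_elt _ x
    rw [pow_zero, MulAut.one_apply, alpha_apply]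
    congr 1
    · simp [scaleV]
    · simp [scaleU]
  | succ i ih =>
    refine MulEquiv.ext fun x => ?_
    obtain ⟨w, g, rfl⟩ := AffineGroup.exists_elt _ x
    rw [pow_succ, MulAut.mul_apply, alpha_apply, ih, alpha_apply, alpha_apply]
    congr 1
    · simp only [scaleV]
      refine Prod.ext ?_ (Prod.ext ?_ (Prod.ext ?_ ?_)) <;> ring
    · ext <;> simp only [scaleU] <;> ring

theorem phi_alpha (ζ : K) (hζ : ζ ^ 5 = 1) : phi * alpha ζ hζ = alpha ζ hζ ^ 3 * phi := by
  rw [alpha_pow]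
  refine MulEquiv.ext fun x => ?_
  obtain ⟨w, g, rfl⟩ := AffineGroup.exists_elt _ x
  rw [MulAut.mul_apply, MulAut.mul_apply, alpha_apply, phi_apply, phi_apply, alpha_apply]
  congr 1
  · simp [frobV, scaleV, mul_pow, ← pow_mul]
  · simp [frobU, scaleU, mul_pow, ← pow_mul]

theorem phi_pow_two_apply (w : V K) (g : U K) :
    (phi ^ 2 : MulAut (A K)) (AffineGroup.elt act w g) = AffineGroup.elt act (frobV (frobV w)) (frobU (frobU g)) := by
  rw [pow_two, MulAut.mul_apply, phi_apply, phi_apply]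

theorem phi_pow_four (hK : Fintype.card K = 81) : (phi : MulAut (A K)) ^ 4 = 1 := by
  have h81 : ∀ x : K, x ^ 81 = x := fun x => by rw [← hK]; exact FiniteField.pow_card x
  refine MulEquiv.ext fun x => ?_
  obtain ⟨w, g, rfl⟩ := AffineGroup.exists_elt _ x
  rw [show (4 : ℕ) = 2 + 2 from rfl, pow_add, MulAut.mul_apply, phi_pow_two_apply, phi_pow_two_apply, MulAut.one_apply]
  congr 1
  · simp [frobV, ← pow_mul, h81]
  · simp [frobU, ← pow_mul, h81]

omit [Fintype K] in
theorem eq_zero_of_weight {ζ : K} (hζ1 : ζ ≠ 1) (hζ : ζ ^ 5 = 1) {k : ℕ} (hk : k % 5 ≠ 0) {x : K}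
    (h : ζ ^ k * x = x) : x = 0 := by
  have h1 : ζ ^ k ≠ 1 := by
    intro e
    haveI : Fact (Nat.Prime 5) := ⟨by norm_num⟩
    have ho : orderOf ζ = 5 := orderOf_eq_prime hζ hζ1
    have := orderOf_dvd_of_pow_eq_one e
    rw [ho] at this
    omega
  have h2 : (ζ ^ k - 1) * x = 0 := by rw [sub_mul, one_mul, h, sub_self]
  exact (mul_eq_zero.mp h2).resolve_left (sub_ne_zero.mpr h1)

/-- The element of order five fixes only the identity up to conjugation. -/
theorem eq_one_of_alpha_fixed {ζ : K} (hζ1 : ζ ≠ 1) (hζ : ζ ^ 5 = 1) (h a : A K)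
    (hh : a * alpha ζ hζ h = h * a) : h = 1 := by
  obtain ⟨w, g, rfl⟩ := AffineGroup.exists_elt _ h
  obtain ⟨v, b, rfl⟩ := AffineGroup.exists_elt _ a
  rw [alpha_apply] at hh
  have hr : b * scaleU ζ g = g * b := congrArg (fun x : A K => x.right) hh
  have hu : g.u = 0 := by
    have := congrArg U.u hr
    simp only [U_mul, scaleU] at this
    exact eq_zero_of_weight hζ1 hζ (k := 1) (by norm_num) (by rw [pow_one]; linear_combination this)
  have hz : g.z = 0 := by
    have := congrArg U.z hr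
    simp only [U_mul, scaleU, hu] at this
    exact eq_zero_of_weight hζ1 hζ (k := 4) (by norm_num) (by linear_combination this)
  have hz' : g.z' = 0 := by
    have := congrArg U.z' hr
    simp only [U_mul, scaleU, hu] at this
    exact eq_zero_of_weight hζ1 hζ (k := 2) (by norm_num) (by linear_combination this)
  have hg : g = 1 := by ext <;> simp [U_one, hu, hz, hz']
  subst hg
  have hl : v + act b (scaleV ζ w) = w + act 1 v := congrArg (fun x : A K => x.left.toAdd) hh
  rw [AffineGroup.map_one_apply, add_comm w v, add_left_cancel_iff] at hl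
  have h0 := congrArg (fun x : V K => x.1) hl
  have h1 := congrArg (fun x : V K => x.2.1) hl
  have h2 := congrArg (fun x : V K => x.2.2.1) hl
  have h3 := congrArg (fun x : V K => x.2.2.2) hl
  simp [act_apply, scaleV] at h0 h1 h2 h3
  have e0 : w.1 = 0 := eq_zero_of_weight hζ1 hζ (k := 1) (by norm_num) (by rw [pow_one]; exact h0)
  have e1 : w.2.1 = 0 := eq_zero_of_weight hζ1 hζ (k := 2) (by norm_num) (by simpa [e0] using h1)
  have e2 : w.2.2.1 = 0 := eq_zero_of_weight hζ1 hζ (k := 4) (by norm_num) (by simpa [e0] using h2)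
  have e3 : w.2.2.2 = 0 := eq_zero_of_weight hζ1 hζ (k := 3) (by norm_num) (by simpa [e0, e1, e2] using h3)
  have hw : w = 0 := by refine Prod.ext ?_ (Prod.ext ?_ (Prod.ext ?_ ?_)) <;> simp [e0, e1, e2, e3]
  rw [hw]; rfl

/-- The centraliser of the involution has exponent three. -/
theorem pow_three_of_fixed (h : A K) (hh : (phi ^ 2 : MulAut (A K)) h = h) : h ^ 3 = 1 := by
  obtain ⟨w, g, rfl⟩ := AffineGroup.exists_elt _ h
  rw [phi_pow_two_apply] at hh
  obtain ⟨e1, e2⟩ := elt_inj hh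
  have hw : w.1 ^ 9 = w.1 := by
    have := congrArg (fun x : V K => x.1) e1
    simp only [frobV] at this
    rw [← pow_mul] at this
    exact this
  have hu : g.u ^ 9 = g.u := by
    have := congrArg U.u e2
    simp only [frobU] at this
    rw [← pow_mul] at this
    exact this
  rw [pow_three_eq, hw, hu, sub_self]
  rfl

/-- The complement. -/
noncomputable def comp (ζ : K) (hζ : ζ ^ 5 = 1) : Subgroup (MulAut (A K)) :=
  Subgroup.closure {alpha ζ hζ, phi}

/-- The solvable group. -/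
abbrev Solv (ζ : K) (hζ : ζ ^ 5 = 1) := A K ⋊[(comp ζ hζ).subtype] comp ζ hζ

theorem phi_pow_alpha_pow (ζ : K) (hζ : ζ ^ 5 = 1) (i j : ℕ) :
    (phi : MulAut (A K)) ^ j * alpha ζ hζ ^ i = alpha ζ hζ ^ (3 ^ j * i) * phi ^ j := by
  induction j generalizing i with
  | zero => simp
  | succ j ih =>
    have h1 : (phi : MulAut (A K)) * alpha ζ hζ ^ i = alpha ζ hζ ^ (3 * i) * phi := by
      rw [pow_mul]
      exact SemiconjBy.pow_right (phi_alpha ζ hζ) i
    rw [pow_succ, mul_assoc, h1, ← mul_assoc, ih, mul_assoc, ← mul_assoc (3 ^ j), ← pow_succ 3]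

theorem alpha_pow_five (ζ : K) (hζ : ζ ^ 5 = 1) : alpha ζ hζ ^ 5 = 1 := by
  rw [alpha_pow]
  have h0 := alpha_pow ζ hζ 0
  simp only [pow_zero] at h0
  simp only [hζ]
  exact h0.symm

theorem alpha_pow_mod (ζ : K) (hζ : ζ ^ 5 = 1) {a b : ℕ} (h : a % 5 = b % 5) : alpha ζ hζ ^ a = alpha ζ hζ ^ b := by
  rw [← Nat.mod_add_div a 5, ← Nat.mod_add_div b 5, h, pow_add, pow_add, pow_mul, pow_mul, alpha_pow_five]
  simp

theorem comp_cases (hK : Fintype.card K = 81) (ζ : K) (hζ : ζ ^ 5 = 1) (c : comp ζ hζ) :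
    ∃ i j : ℕ, j < 4 ∧ (c : MulAut (A K)) = alpha ζ hζ ^ i * phi ^ j := by
  obtain ⟨c, hc⟩ := c
  haveI : Finite (A K) := Finite.of_equiv _ SemidirectProduct.equivProd.symm
  have hc' : c ∈ Submonoid.closure ({alpha ζ hζ, phi} : Set (MulAut (A K))) := by
    rw [← Subgroup.closure_toSubmonoid_of_finite]; exact hc
  show ∃ i j : ℕ, j < 4 ∧ c = alpha ζ hζ ^ i * phi ^ j
  clear hc
  induction hc' using Submonoid.closure_induction_right with
  | one => exact ⟨0, 0, by norm_num, by simp⟩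
  | mul_right x _ y hy ih =>
    obtain ⟨i, j, hj, rfl⟩ := ih
    rcases hy with rfl | rfl
    · refine ⟨i + 3 ^ j * 1, j, hj, ?_⟩
      rw [mul_assoc, pow_add, mul_assoc, ← phi_pow_alpha_pow, pow_one]
    · by_cases h3 : j = 3
      · exact ⟨i, 0, by norm_num, by rw [mul_assoc, ← pow_succ, h3, phi_pow_four hK, pow_zero]⟩
      · exact ⟨i, j + 1, by omega, by rw [mul_assoc, ← pow_succ]⟩

theorem inl_mul_inr (ζ : K) (hζ : ζ ^ 5 = 1) (x : Solv ζ hζ) :
    x = SemidirectProduct.inl x.left * SemidirectProduct.inr x.right :=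
  (SemidirectProduct.inl_left_mul_inr_right x).symm

/-- The involution case. -/
theorem pow_six_of_phi_sq (hK : Fintype.card K = 81) (ζ : K) (hζ : ζ ^ 5 = 1) (x : Solv ζ hζ)
    (hx : (x.right : MulAut (A K)) = phi ^ 2) : x ^ 6 = 1 := by
  have hr2 : x.right * x.right = 1 := Subtype.ext (by
    show (x.right : MulAut (A K)) * x.right = 1
    rw [hx, ← pow_add, phi_pow_four hK])
  have hy2 : (x ^ 9) ^ 2 = 1 := by
    have hin : x ^ 2 = SemidirectProduct.inl (x ^ 2).left :=
      SemidirectProduct.ext rfl (by rw [SemidirectProduct.right_inl, pow_two, SemidirectProduct.mul_right, hr2])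
    rw [← pow_mul, mul_comm, pow_mul, hin, ← map_pow, pow_nine, map_one]
  set y := x ^ 9 with hy
  have hyr : (y.right : MulAut (A K)) = phi ^ 2 := by
    have h1 : y.right = x.right ^ 9 := map_pow SemidirectProduct.rightHom x 9
    rw [h1, show (9 : ℕ) = 2 * 4 + 1 from rfl, pow_succ, pow_mul, pow_two, hr2, one_pow, one_mul, hx]
  have hk : y.left * (phi ^ 2 : MulAut (A K)) y.left = 1 := by
    have h1 := congrArg (fun z : Solv ζ hζ => z.left) hy2
    rw [pow_two] at h1
    simp only [SemidirectProduct.mul_left, SemidirectProduct.one_left] at h1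
    rw [← hyr]
    exact h1
  set k := y.left
  set s := k ^ 5 with hs
  have hs2 : s * s = k := by rw [hs, ← pow_add, show 5 + 5 = 9 + 1 from rfl, pow_succ, pow_nine, one_mul]
  have hts : (phi ^ 2 : MulAut (A K)) s = s⁻¹ := by rw [hs, map_pow, eq_inv_of_mul_eq_one_right hk, inv_pow]
  have hconj : (SemidirectProduct.inl s)⁻¹ * y * SemidirectProduct.inl s = SemidirectProduct.inr y.right := by
    refine SemidirectProduct.ext ?_ ?_
    · rw [← map_inv]
      simp only [SemidirectProduct.mul_left, SemidirectProduct.left_inl, SemidirectProduct.right_inl,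
        SemidirectProduct.mul_right, map_one, MulAut.one_apply, one_mul, SemidirectProduct.left_inr,
        Subgroup.coe_subtype, hyr, hts]
      show s⁻¹ * k * s⁻¹ = 1
      rw [← hs2]
      group
    · rw [← map_inv]
      simp only [SemidirectProduct.mul_right, SemidirectProduct.right_inl, SemidirectProduct.right_inr, one_mul,
        mul_one]
  set x' := (SemidirectProduct.inl s)⁻¹ * x * SemidirectProduct.inl s with hx'
  have hcomm : x' * SemidirectProduct.inr y.right = SemidirectProduct.inr y.right * x' := by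
    rw [← hconj, hx', hy]
    group
  have hxr : (x'.right : MulAut (A K)) = phi ^ 2 := by
    rw [hx', ← map_inv]
    simp only [SemidirectProduct.mul_right, SemidirectProduct.right_inl, one_mul, mul_one, hx]
  have hfix : (phi ^ 2 : MulAut (A K)) x'.left = x'.left := by
    have h1 := congrArg (fun z : Solv ζ hζ => z.left) hcomm
    simp only [SemidirectProduct.mul_left, SemidirectProduct.left_inr, SemidirectProduct.right_inr, map_one, mul_one,
      one_mul] at h1
    rw [← hyr]
    exact h1.symm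
  have hx6 : x' ^ 6 = 1 := by
    have hsq : x' ^ 2 = SemidirectProduct.inl (x'.left * x'.left) := by
      rw [pow_two]
      refine SemidirectProduct.ext ?_ ?_
      · simp only [SemidirectProduct.mul_left, SemidirectProduct.left_inl, Subgroup.coe_subtype, hxr, hfix]
      · simp only [SemidirectProduct.mul_right, SemidirectProduct.right_inl]
        exact Subtype.ext (by
          show (x'.right : MulAut (A K)) * x'.right = 1
          rw [hxr, ← pow_add, phi_pow_four hK])
    rw [show (6 : ℕ) = 2 * 3 from rfl, pow_mul, hsq, ← map_pow, ← pow_two, ← pow_mul, mul_comm, pow_mul,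
      pow_three_of_fixed _ hfix, one_pow, map_one]
  have hfin : (MulAut.conj (SemidirectProduct.inl s : Solv ζ hζ)⁻¹) x = x' := by simp [hx', MulAut.conj_apply]
  apply (MulAut.conj (SemidirectProduct.inl s : Solv ζ hζ)⁻¹).injective
  rw [map_pow, hfin, hx6, map_one]

theorem pow_six_of_inv (hK : Fintype.card K = 81) (ζ : K) (hζ : ζ ^ 5 = 1) (x : Solv ζ hζ) (i : ℕ)
    (hx : (x.right : MulAut (A K)) = alpha ζ hζ ^ i * phi ^ 2) : x ^ 6 = 1 := by
  set d : comp ζ hζ := ⟨alpha ζ hζ ^ (3 * i), Subgroup.pow_mem (comp ζ hζ) (Subgroup.subset_closure (show alpha ζ hζ ∈ ({alpha ζ hζ, phi} : Set (MulAut (A K))) from Or.inl rfl)) _⟩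
  set e := MulAut.conj ((SemidirectProduct.inr d : Solv ζ hζ)⁻¹)
  apply e.injective
  rw [map_pow, map_one]
  refine pow_six_of_phi_sq hK ζ hζ _ ?_
  have h5 : alpha ζ hζ ^ (3 * i) * phi ^ 2 = alpha ζ hζ ^ i * phi ^ 2 * alpha ζ hζ ^ (3 * i) * 1 := by
    rw [mul_one, mul_assoc, phi_pow_alpha_pow, ← mul_assoc, ← pow_add]
    congr 1
    exact alpha_pow_mod ζ hζ (by omega)
  simp only [e, MulAut.conj_apply, inv_inv, ← map_inv, SemidirectProduct.mul_right, SemidirectProduct.right_inr,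
    Subgroup.coe_mul, Subgroup.coe_inv, hx, d]
  rw [mul_one] at h5
  rw [mul_assoc, ← h5, inv_mul_cancel_left]

theorem solv_orderOf (hK : Fintype.card K = 81) (ζ : K) (hζ : ζ ^ 5 = 1) (hζ1 : ζ ≠ 1) (x : Solv ζ hζ) :
    orderOf x ∣ 9 ∨ orderOf x ∣ 5 ∨ orderOf x ∣ 12 := by
  obtain ⟨i, j, hj, hx⟩ := comp_cases hK ζ hζ x.right
  interval_cases j
  · rw [pow_zero, mul_one] at hx
    by_cases hi : i % 5 = 0
    · left
      have hr : x.right = 1 := Subtype.ext (by rw [hx, alpha_pow_mod ζ hζ (b := 0) (by omega), pow_zero]; rfl)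
      apply orderOf_dvd_of_pow_eq_one
      rw [show x = SemidirectProduct.inl x.left from SemidirectProduct.ext rfl hr, ← map_pow, pow_nine, map_one]
    · right; left
      apply orderOf_dvd_of_pow_eq_one
      have hr5 : x.right ^ 5 = 1 := Subtype.ext (by
        rw [SubmonoidClass.coe_pow, hx, ← pow_mul, mul_comm, pow_mul, alpha_pow_five, one_pow]; rfl)
      have hx5r : (x ^ 5).right = 1 := (map_pow SemidirectProduct.rightHom x 5).trans hr5
      set h := (x ^ 5).left
      have hh : x.left * (x.right : MulAut (A K)) h = h * x.left := by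
        have h1 := congrArg (fun z : Solv ζ hζ => z.left) ((Commute.self_pow x 5).eq)
        simp only [SemidirectProduct.mul_left, hx5r, map_one, MulAut.one_apply] at h1
        exact h1
      rw [hx, alpha_pow] at hh
      have hne : ζ ^ i ≠ 1 := by
        intro e
        haveI : Fact (Nat.Prime 5) := ⟨by norm_num⟩
        have := orderOf_dvd_of_pow_eq_one e
        rw [orderOf_eq_prime hζ hζ1] at this
        omega
      exact SemidirectProduct.ext (eq_one_of_alpha_fixed hne _ h x.left hh) hx5r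
  · right; right
    apply orderOf_dvd_of_pow_eq_one
    rw [show (12 : ℕ) = 2 * 6 from rfl, pow_mul]
    refine pow_six_of_inv hK ζ hζ _ (i + 3 * i) ?_
    rw [pow_two x, SemidirectProduct.mul_right, Subgroup.coe_mul, hx, pow_one, mul_assoc, ← mul_assoc phi]
    have := phi_pow_alpha_pow ζ hζ i 1
    rw [pow_one, pow_one] at this
    rw [this, mul_assoc, ← mul_assoc (alpha ζ hζ ^ i), ← pow_add, ← pow_two]
  · right; right
    exact orderOf_dvd_of_pow_eq_one (by
      rw [show (12 : ℕ) = 6 * 2 from rfl, pow_mul, pow_six_of_inv hK ζ hζ x i hx, one_pow])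
  · right; right
    apply orderOf_dvd_of_pow_eq_one
    rw [show (12 : ℕ) = 2 * 6 from rfl, pow_mul]
    refine pow_six_of_inv hK ζ hζ _ (i + 3 ^ 3 * i) ?_
    rw [pow_two x, SemidirectProduct.mul_right, Subgroup.coe_mul, hx, mul_assoc, ← mul_assoc (phi ^ 3),
      phi_pow_alpha_pow, mul_assoc, ← mul_assoc (alpha ζ hζ ^ i), ← pow_add, ← pow_add,
      show (3 : ℕ) + 3 = 4 + 2 from rfl, pow_add phi, phi_pow_four hK, one_mul]

theorem exists_nine (ζ : K) (hζ : ζ ^ 5 = 1) {c : K} (hc : c ^ 9 ≠ c) : ∃ x : Solv ζ hζ, 9 ∣ orderOf x := by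
  haveI : Fact (Nat.Prime 3) := ⟨Nat.prime_three⟩
  refine ⟨SemidirectProduct.inl (AffineGroup.elt act (c, 0, 0, 0) ⟨1, 0, 0⟩), dvd_of_eq ?_⟩
  rw [orderOf_injective _ SemidirectProduct.inl_injective]
  refine (orderOf_eq_prime_pow (p := 3) (n := 1) ?_ (pow_nine _)).symm
  rw [pow_one, pow_three_eq]
  intro h
  have h1 := (elt_inj (g' := (1 : U K)) (w' := (0 : V K)) h).1
  have h2 := congrArg (fun x : V K => x.2.2.2) h1
  simp at h2
  exact hc (sub_eq_zero.mp h2)

theorem exists_five (ζ : K) (hζ : ζ ^ 5 = 1) (hζ1 : ζ ≠ 1) : ∃ x : Solv ζ hζ, 5 ∣ orderOf x := by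
  haveI : Fact (Nat.Prime 5) := ⟨by norm_num⟩
  have hm : alpha ζ hζ ∈ comp ζ hζ := Subgroup.subset_closure (Or.inl rfl)
  refine ⟨SemidirectProduct.inr ⟨alpha ζ hζ, hm⟩, dvd_of_eq ?_⟩
  rw [orderOf_injective _ SemidirectProduct.inr_injective, ← Subgroup.orderOf_coe]
  refine (orderOf_eq_prime (alpha_pow_five ζ hζ) ?_).symm
  intro h
  have h1 := DFunLike.congr_fun h (AffineGroup.elt act ((1 : K), 0, 0, 0) 1)
  rw [alpha_apply, MulAut.one_apply] at h1
  have h2 := congrArg (fun x : V K => x.1) (elt_inj h1).1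
  simp [scaleV] at h2
  exact hζ1 h2

theorem exists_twelve (hK : Fintype.card K = 81) (ζ : K) (hζ : ζ ^ 5 = 1) {c : K} (hc : c ^ 9 ≠ c) :
    ∃ x : Solv ζ hζ, 12 ∣ orderOf x := by
  haveI : Fact (Nat.Prime 2) := ⟨Nat.prime_two⟩
  have hm : (phi : MulAut (A K)) ∈ comp ζ hζ := Subgroup.subset_closure (Or.inr rfl)
  set a : A K := AffineGroup.elt act (0 : V K) (⟨1, 0, 0⟩ : U K) with ha
  set f : comp ζ hζ := ⟨phi, hm⟩ with hf
  have hfa : (phi : MulAut (A K)) a = a := by
    rw [ha, phi_apply]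
    congr 1
    · simp [frobV]
    · simp [frobU]
  have hcomm : Commute (SemidirectProduct.inl a : Solv ζ hζ) (SemidirectProduct.inr f) := by
    refine SemidirectProduct.ext ?_ ?_ <;> simp [hf, hfa]
  have oa : orderOf (SemidirectProduct.inl a : Solv ζ hζ) = 3 := by
    rw [orderOf_injective _ SemidirectProduct.inl_injective]
    refine orderOf_eq_prime ?_ ?_
    · rw [ha, pow_three_eq]
      show AffineGroup.elt act (0, 0, 0, (1 : K) * 1 ^ 3 * (0 : K) ^ 9 - 1 ^ 9 * 1 ^ 3 * 0) 1 = 1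
      simp only [zero_pow (by norm_num : (9 : ℕ) ≠ 0), mul_zero, sub_zero]
      rfl
    · intro h
      exact one_ne_zero (congrArg (fun x : A K => x.right.u) h)
  have ofi : orderOf (SemidirectProduct.inr f : Solv ζ hζ) = 4 := by
    rw [orderOf_injective _ SemidirectProduct.inr_injective, ← Subgroup.orderOf_coe]
    show orderOf (phi : MulAut (A K)) = 2 ^ 2
    refine orderOf_eq_prime_pow (n := 1) ?_ (phi_pow_four hK)
    rw [pow_one]
    intro h
    have h1 := DFunLike.congr_fun h (AffineGroup.elt act (c, 0, 0, 0) 1)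
    rw [phi_pow_two_apply, MulAut.one_apply] at h1
    have h2 := congrArg (fun x : V K => x.1) (elt_inj h1).1
    simp only [frobV] at h2
    rw [← pow_mul] at h2
    exact hc h2
  refine ⟨SemidirectProduct.inl a * SemidirectProduct.inr f, dvd_of_eq ?_⟩
  rw [hcomm.orderOf_mul_eq_mul_orderOf_of_coprime (by rw [oa, ofi]; decide), oa, ofi]

theorem comp_isSolvable (hK : Fintype.card K = 81) (ζ : K) (hζ : ζ ^ 5 = 1) : Group.IsSolvable (comp ζ hζ) := by
  set Z : Subgroup (comp ζ hζ) := (Subgroup.zpowers (alpha ζ hζ)).subgroupOf (comp ζ hζ)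
  have hle : commutator (comp ζ hζ) ≤ Z := by
    rw [commutator_def, Subgroup.commutator_le]
    intro a _ b _
    obtain ⟨i, j, -, ha⟩ := comp_cases hK ζ hζ a
    obtain ⟨k, l, -, hb⟩ := comp_cases hK ζ hζ b
    have hab : (a : MulAut (A K)) * (b : MulAut (A K)) = alpha ζ hζ ^ (i + 3 ^ j * k) * phi ^ (j + l) := by
      rw [ha, hb, mul_assoc, ← mul_assoc (phi ^ j), phi_pow_alpha_pow, mul_assoc, ← mul_assoc (alpha ζ hζ ^ i),
        ← pow_add, ← pow_add]
    have hba : (b : MulAut (A K)) * (a : MulAut (A K)) = alpha ζ hζ ^ (k + 3 ^ l * i) * phi ^ (j + l) := by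
      rw [ha, hb, mul_assoc, ← mul_assoc (phi ^ l), phi_pow_alpha_pow, mul_assoc, ← mul_assoc (alpha ζ hζ ^ k),
        ← pow_add, ← pow_add, add_comm l j]
    rw [Subgroup.mem_subgroupOf, commutatorElement_def]
    have h1 : ((a * b * a⁻¹ * b⁻¹ : comp ζ hζ) : MulAut (A K)) = ((a : MulAut (A K)) * (b : MulAut (A K))) * ((b : MulAut (A K)) * (a : MulAut (A K)))⁻¹ := by
      push_cast
      group
    rw [h1, hab, hba, mul_inv_rev, mul_assoc, mul_inv_cancel_left]
    exact Subgroup.mul_mem _ (Subgroup.pow_mem _ (Subgroup.mem_zpowers _) _)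
      (Subgroup.inv_mem _ (Subgroup.pow_mem _ (Subgroup.mem_zpowers _) _))
  haveI : Group.IsSolvable Z := by
    refine Group.isSolvable_of_comm fun x y => Subtype.ext (Subtype.ext ?_)
    obtain ⟨m, hm⟩ := Subgroup.mem_subgroupOf.mp x.2
    obtain ⟨n, hn⟩ := Subgroup.mem_subgroupOf.mp y.2
    show (x : MulAut (A K)) * y = y * x
    rw [← hm, ← hn]
    exact zpow_mul_comm _ m n
  exact Group.isSolvable_of_ker_le_range Z.subtype (Abelianization.of : comp ζ hζ →* _)
    (by rw [Abelianization.ker_of, Subgroup.range_subtype]; exact hle)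

theorem solv_isSolvable (hK : Fintype.card K = 81) (ζ : K) (hζ : ζ ^ 5 = 1) : Group.IsSolvable (Solv ζ hζ) := by
  haveI := comp_isSolvable hK ζ hζ
  haveI : Fact (Nat.Prime 3) := ⟨Nat.prime_three⟩
  haveI : Finite (A K) := Finite.of_equiv _ SemidirectProduct.equivProd.symm
  have hp : IsPGroup 3 (A K) := fun x => ⟨2, pow_nine x⟩
  haveI : Group.IsSolvable (A K) := by
    haveI := hp.isNilpotent
    infer_instance
  refine Group.isSolvable_of_ker_le_range (SemidirectProduct.inl : A K →* Solv ζ hζ) SemidirectProduct.rightHom ?_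
  rw [SemidirectProduct.range_inl_eq_ker_rightHom]

end CfsgLib.Recognition.SolvableNine
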