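import Mathlib
import Cfsg.Agent.Lib.Recognition.SpFourSpectrum

/-!
Twisted tensor products of the natural module of `SL₂`: eigen-resolutions and weights.
-/

namespace CfsgLib.Recognition.TwistedTensor

open Matrix Polynomial
open scoped Kronecker

/-- A resolution of the identity into left eigen-matrices. -/
def Resolves {L : Type*} [CommRing L] {n κ : Type*} [Fintype n] [DecidableEq n] [Fintype κ] (M : Matrix n n L)
    (P : κ → Matrix n n L) (w : κ → L) : Prop :=
  (∑ k, P k = 1) ∧ ∀ k, P k * M = w k • P k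

theorem resolves_kron {L : Type*} [CommRing L] {n κ n' κ' : Type*} [Fintype n] [DecidableEq n] [Fintype κ]
    [Fintype n'] [DecidableEq n'] [Fintype κ'] {M : Matrix n n L} {P : κ → Matrix n n L} {w : κ → L}
    {M' : Matrix n' n' L} {P' : κ' → Matrix n' n' L} {w' : κ' → L} (h : Resolves M P w) (h' : Resolves M' P' w') :
    Resolves (M ⊗ₖ M') (fun k : κ × κ' => P k.1 ⊗ₖ P' k.2) (fun k => w k.1 * w' k.2) := by
  constructor
  · rw [← Matrix.one_kronecker_one, ← h.1, ← h'.1, Fintype.sum_prod_type]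
    ext ⟨i, i'⟩ ⟨j, j'⟩
    simp [Matrix.sum_apply, Matrix.kroneckerMap_apply, Finset.sum_mul, Finset.mul_sum]
    exact Finset.sum_comm
  · intro k
    rw [← Matrix.mul_kronecker_mul, h.2, h'.2, Matrix.smul_kronecker, Matrix.kronecker_smul, smul_smul]

theorem resolves_map {L L' : Type*} [CommRing L] [CommRing L'] (φ : L →+* L') {n κ : Type*} [Fintype n] [DecidableEq n]
    [Fintype κ] {M : Matrix n n L} {P : κ → Matrix n n L} {w : κ → L} (h : Resolves M P w) :
    Resolves (M.map φ) (fun k => (P k).map φ) (fun k => φ (w k)) := by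
  constructor
  · have := congrArg φ.mapMatrix h.1
    rw [map_sum, map_one] at this
    exact this
  · intro k
    rw [← Matrix.map_mul, h.2]
    ext i j
    simp

theorem exists_weight_one {K L : Type*} [Field K] [Field L] (ι : K →+* L) {n κ : Type*} [Fintype n] [DecidableEq n]
    [Fintype κ] {M : Matrix n n K} {P : κ → Matrix n n L} {w : κ → L} (h : Resolves (M.map ι) P w) {v : n → K}
    (hv : M *ᵥ v = v) (hv0 : v ≠ 0) : ∃ k, w k = 1 := by
  by_contra hne
  push Not at hne
  have hv' : M.map ι *ᵥ (ι ∘ v) = ι ∘ v := by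
    funext i
    rw [← RingHom.map_mulVec, hv]
    rfl
  apply hv0
  have h0 : ∀ k, P k *ᵥ (ι ∘ v) = 0 := by
    intro k
    have h1 := congrArg (P k *ᵥ ·) hv'
    simp only [Matrix.mulVec_mulVec, h.2, Matrix.smul_mulVec] at h1
    have h2 : (w k - 1) • (P k *ᵥ (ι ∘ v)) = 0 := by rw [sub_smul, one_smul, h1, sub_self]
    exact (smul_eq_zero.mp h2).resolve_left (sub_ne_zero.mpr (hne k))
  have h3 : (∑ k, P k) *ᵥ (ι ∘ v) = 0 := by
    rw [Matrix.sum_mulVec]
    exact Finset.sum_eq_zero fun k _ => h0 k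
  rw [h.1, Matrix.one_mulVec] at h3
  funext i
  exact ι.injective ((congrFun h3 i).trans (map_zero ι).symm)

variable {K : Type*} [Field K]

theorem sq_eq_of_det_one (g : Matrix.SpecialLinearGroup (Fin 2) K) :
    (g : Matrix (Fin 2) (Fin 2) K) * (g : Matrix (Fin 2) (Fin 2) K) =
      (g : Matrix (Fin 2) (Fin 2) K).trace • (g : Matrix (Fin 2) (Fin 2) K) - 1 := by
  have hd := g.2
  rw [Matrix.det_fin_two] at hd
  ext i j
  fin_cases i <;> fin_cases j <;> simp [Matrix.mul_apply, Fin.sum_univ_two, Matrix.trace_fin_two]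
  all_goals first | linear_combination -hd | ring

/-- An element of `SL₂(q)` is `± 1` times a unipotent one or has two eigenvalues in a splitting field. -/
theorem sl2_cases [Fintype K] (g : Matrix.SpecialLinearGroup (Fin 2) K) :
    (∃ ε : K, (ε = 1 ∨ ε = -1) ∧
      ((g : Matrix (Fin 2) (Fin 2) K) - ε • 1) * ((g : Matrix (Fin 2) (Fin 2) K) - ε • 1) = 0) ∨
    ∃ a : AlgebraicClosure K, a ≠ 0 ∧ a ≠ a⁻¹ ∧
      a + a⁻¹ = algebraMap K (AlgebraicClosure K) (g : Matrix (Fin 2) (Fin 2) K).trace ∧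
      (a ^ (Fintype.card K - 1) = 1 ∨ a ^ (Fintype.card K + 1) = 1) ∧
      (∃ P : Fin 2 → Matrix (Fin 2) (Fin 2) (AlgebraicClosure K),
        Resolves ((g : Matrix (Fin 2) (Fin 2) K).map (algebraMap K (AlgebraicClosure K))) P ![a, a⁻¹]) ∧
      ∀ (M : ℕ) (ε : K), ε * ε = 1 → a ^ M = algebraMap K (AlgebraicClosure K) ε →
        (g : Matrix (Fin 2) (Fin 2) K) ^ M = ε • 1 := by
  classical
  set ι := algebraMap K (AlgebraicClosure K)
  set A := (g : Matrix (Fin 2) (Fin 2) K) with hA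
  set t := A.trace with ht
  have hchar : A.charpoly = X ^ 2 - C t * X + C 1 := by rw [Matrix.charpoly_fin_two, g.2]
  obtain ⟨a, ha⟩ := IsAlgClosed.exists_root (A.charpoly.map ι) (by
    rw [Polynomial.degree_map, Matrix.charpoly_degree_eq_dim]; simp)
  have hroot : a ^ 2 - ι t * a + 1 = 0 := by simpa [hchar] using ha
  have ha0 : a ≠ 0 := by rintro rfl; simp at hroot
  have hsum : a + a⁻¹ = ι t := by field_simp; linear_combination hroot
  by_cases h1 : a = a⁻¹
  · left
    obtain ⟨ε, hε, hεa⟩ : ∃ ε : K, (ε = 1 ∨ ε = -1) ∧ a = ι ε := by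
      have : a * a = 1 := by nth_rewrite 2 [h1]; exact mul_inv_cancel₀ ha0
      rcases mul_self_eq_one_iff.mp this with h | h
      · exact ⟨1, Or.inl rfl, by rw [h, map_one]⟩
      · exact ⟨-1, Or.inr rfl, by rw [h, map_neg, map_one]⟩
    refine ⟨ε, hε, ?_⟩
    have hte : t = ε + ε := by
      apply ι.injective
      rw [map_add, ← hεa, ← hsum, ← h1]
    have hεε : ε * ε = 1 := by rcases hε with rfl | rfl <;> ring
    simp only [sub_mul, mul_sub, Matrix.mul_smul, Matrix.smul_mul, mul_one, one_mul, smul_smul, hεε, one_smul]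
    rw [hA, sq_eq_of_det_one, ← hA, ← ht, hte, add_smul]
    abel
  right
  have hfrob : a ^ Fintype.card K = a ∨ a ^ Fintype.card K = a⁻¹ := by
    have h := SpFourSpectrum.frobenius_root ι A.charpoly a ha
    have h' : (a ^ Fintype.card K - a) * (a ^ Fintype.card K - a⁻¹) = 0 := by
      have hm : a * a⁻¹ = 1 := mul_inv_cancel₀ ha0
      simp [hchar] at h
      linear_combination h - a ^ Fintype.card K * hsum + hm
    rcases mul_eq_zero.mp h' with h | h
    · exact Or.inl (sub_eq_zero.mp h)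
    · exact Or.inr (sub_eq_zero.mp h)
  refine ⟨a, ha0, h1, hsum, hfrob.imp (SpFourSpectrum.pow_inv_cases ha0 Fintype.card_pos).1
    (SpFourSpectrum.pow_inv_cases ha0 Fintype.card_pos).2, ?_, ?_⟩
  · refine ⟨![(a - a⁻¹)⁻¹ • (A.map ι - a⁻¹ • 1), (a⁻¹ - a)⁻¹ • (A.map ι - a • 1)], ?_, ?_⟩
    · rw [Fin.sum_univ_two]
      simp only [Matrix.cons_val_zero, Matrix.cons_val_one, Matrix.head_cons]
      rw [← neg_sub a a⁻¹, inv_neg, neg_smul, ← sub_eq_add_neg, ← smul_sub, sub_sub_sub_cancel_left, ← sub_smul,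
        smul_smul, inv_mul_cancel₀ (sub_ne_zero.mpr h1), one_smul]
    · have hsq : A.map ι * A.map ι = ι t • A.map ι - 1 := by
        rw [← Matrix.map_mul, hA, sq_eq_of_det_one]
        ext i j
        simp [Matrix.one_apply, apply_ite ι, ht, hA]
      intro k
      fin_cases k
      · change (a - a⁻¹)⁻¹ • (A.map ι - a⁻¹ • 1) * A.map ι = a • ((a - a⁻¹)⁻¹ • (A.map ι - a⁻¹ • 1))
        rw [Matrix.smul_mul, sub_mul, Matrix.smul_mul, one_mul, hsq, ← hsum, smul_comm a, smul_sub a, smul_smul a,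
          mul_inv_cancel₀ ha0, one_smul, add_smul]
        abel_nf
      · change (a⁻¹ - a)⁻¹ • (A.map ι - a • 1) * A.map ι = a⁻¹ • ((a⁻¹ - a)⁻¹ • (A.map ι - a • 1))
        rw [Matrix.smul_mul, sub_mul, Matrix.smul_mul, one_mul, hsq, ← hsum, smul_comm a⁻¹, smul_sub a⁻¹,
          smul_smul a⁻¹, inv_mul_cancel₀ ha0, one_smul, add_smul]
        abel_nf
  · intro M ε hε haM
    refine SpFourSpectrum.pow_eq_of_dvd ι A M ε ?_
    have hfac : A.charpoly.map ι = ∏ x ∈ ({a, a⁻¹} : Finset (AlgebraicClosure K)), (X - C x) := by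
      rw [Finset.prod_pair h1, hchar]
      have : C a * C a⁻¹ = (1 : (AlgebraicClosure K)[X]) := by rw [← map_mul, mul_inv_cancel₀ ha0, map_one]
      simp [← hsum, map_add]
      linear_combination -this
    rw [hfac]
    refine SpFourSpectrum.prod_dvd _ _ fun x hx => ?_
    simp only [Finset.mem_insert, Finset.mem_singleton] at hx
    have hinv : (ι ε)⁻¹ = ι ε := inv_eq_of_mul_eq_one_left (by rw [← map_mul, hε, map_one])
    rcases hx with rfl | rfl <;> simp [haM, hinv]

/-- Unipotent-by-sign elements have scalar `p`-th power. -/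
theorem pow_char_of_unipotent (p : ℕ) [Fact p.Prime] [CharP K p] (g : Matrix (Fin 2) (Fin 2) K) (ε : K)
    (h : (g - ε • 1) * (g - ε • 1) = 0) : g ^ p = ε ^ p • 1 := by
  have hd : g = ε • 1 + (g - ε • 1) := by rw [add_sub_cancel]
  conv_lhs => rw [hd]
  rw [add_pow_char_of_commute _ ((Commute.one_left _).smul_left _), _root_.smul_pow, one_pow]
  obtain ⟨k, hk⟩ : ∃ k, p = 2 + k := ⟨p - 2, by have := (Fact.out : p.Prime).two_le; omega⟩
  nth_rewrite 2 [hk]
  rw [pow_add, pow_two, h, zero_mul, add_zero]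

/-- `∑ (1 + x)^i` vanishes for a cube-zero `x` in characteristic at least five. -/
theorem geom_sum_eq_zero {R : Type*} [Ring R] {p : ℕ} (hp : p.Prime) (h5 : 5 ≤ p) (hR : (p : R) = 0) (x : R)
    (hx : x ^ 3 = 0) : ∑ i ∈ Finset.range p, (1 + x) ^ i = 0 := by
  have hpow : ∀ i : ℕ, (1 + x) ^ i = 1 + (i : R) * x + (i.choose 2 : R) * (x * x) := by
    intro i
    induction i with
    | zero => simp
    | succ i ih =>
      rw [pow_succ, ih, Nat.choose_succ_succ', Nat.choose_one_right, Nat.cast_succ, Nat.cast_add]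
      simp only [add_mul, mul_add, mul_one, one_mul, mul_assoc, ← pow_two x, ← pow_succ, hx, mul_zero, add_zero]
      abel
  have hsum : ∀ n : ℕ, (∑ i ∈ Finset.range n, (i : R) = (n.choose 2 : R)) ∧
      (∑ i ∈ Finset.range n, (i.choose 2 : R) = (n.choose 3 : R)) := by
    intro n
    induction n with
    | zero => simp
    | succ n ih =>
      rw [Finset.sum_range_succ, Finset.sum_range_succ, ih.1, ih.2, Nat.choose_succ_succ', Nat.choose_one_right,
        Nat.choose_succ_succ', Nat.cast_add, Nat.cast_add]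
      exact ⟨add_comm _ _, add_comm _ _⟩
  have hdvd : ∀ k, k ≠ 0 → k < p → (p.choose k : R) = 0 := by
    intro k h0 hk
    obtain ⟨m, hm⟩ := hp.dvd_choose_self h0 hk
    rw [hm, Nat.cast_mul, hR, zero_mul]
  simp only [hpow, Finset.sum_add_distrib, ← Finset.sum_mul, (hsum p).1, (hsum p).2, Finset.sum_const,
    Finset.card_range, nsmul_one, hR, hdvd 2 two_ne_zero (by omega), hdvd 3 (by norm_num) (by omega), zero_mul, add_zero]

/-- The unipotent part of a twisted tensor square cubes to zero. -/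
theorem kron_cube_zero {N M : Matrix (Fin 2) (Fin 2) K} (hN : N * N = 0) (hM : M * M = 0) :
    ((1 + N) ⊗ₖ (1 + M) - 1) ^ 3 = 0 := by
  have h : (1 + N) ⊗ₖ (1 + M) - 1 = N ⊗ₖ (1 + M) + (1 : Matrix (Fin 2) (Fin 2) K) ⊗ₖ M := by
    rw [Matrix.add_kronecker, Matrix.kronecker_add 1, Matrix.one_kronecker_one]
    abel
  rw [h, pow_succ, pow_two]
  simp [add_mul, mul_add, ← Matrix.mul_kronecker_mul, hN, hM, mul_assoc]

end CfsgLib.Recognition.TwistedTensor
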