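import Mathlib
import Cfsg.Agent.Lib.Recognition.SpFourElements
import Cfsg.Agent.Lib.Recognition.AffineGroup
import Cfsg.Agent.Lib.Recognition.TwistedTensor

/-!
Groups with the element orders of `PSp₄(q)`: the basic module and the case of even `q`.
-/

namespace CfsgLib.Recognition.SpFourGroups

open Matrix TwistedTensor SpFourSpectrum
open scoped Kronecker

variable {K : Type*} [Field K]

local notation "SL2" => Matrix.SpecialLinearGroup (Fin 2) K

/-- Matrices as endomorphisms of the additive group of vectors. -/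
def mulVecEnd {n : Type*} [Fintype n] [DecidableEq n] : Matrix n n K →+* AddMonoid.End (n → K) where
  toFun A := AddMonoidHom.mk' (fun v => A *ᵥ v) (Matrix.mulVec_add A)
  map_one' := AddMonoidHom.ext fun v => Matrix.one_mulVec v
  map_mul' A B := AddMonoidHom.ext fun v => (Matrix.mulVec_mulVec v A B).symm
  map_zero' := AddMonoidHom.ext fun v => Matrix.zero_mulVec v
  map_add' A B := AddMonoidHom.ext fun v => Matrix.add_mulVec A B v

theorem mulVecEnd_apply {n : Type*} [Fintype n] [DecidableEq n] (A : Matrix n n K) (v : n → K) :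
    mulVecEnd A v = A *ᵥ v := rfl

/-- The twisted tensor square of the natural module. -/
def twoRep (τ : K →+* K) : SL2 →* Matrix (Fin 2 × Fin 2) (Fin 2 × Fin 2) K where
  toFun g := (g : Matrix (Fin 2) (Fin 2) K) ⊗ₖ (g : Matrix (Fin 2) (Fin 2) K).map τ
  map_one' := by
    rw [Matrix.SpecialLinearGroup.coe_one, Matrix.map_one τ (map_zero τ) (map_one τ), Matrix.one_kronecker_one]
  map_mul' g h := by rw [Matrix.SpecialLinearGroup.coe_mul, Matrix.map_mul, Matrix.mul_kronecker_mul]

theorem twoRep_apply (τ : K →+* K) (g : SL2) (i j : Fin 2 × Fin 2) :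
    twoRep τ g i j = (g : Matrix (Fin 2) (Fin 2) K) i.1 j.1 * τ ((g : Matrix (Fin 2) (Fin 2) K) i.2 j.2) := rfl

/-- A fixed vector of the twisted square forces the eigenvalue into a small torus. -/
theorem twoRep_fixed (τ : K →+* K) (q : ℕ) (hq : 1 ≤ q) (hτ : ∀ x, τ x = x ^ q) (p : ℕ) [Fact p.Prime] [CharP K p]
    (e : ℕ) (hqe : q = p ^ e) (g : SL2) (a : AlgebraicClosure K) (ha : a ≠ 0)
    {P : Fin 2 → Matrix (Fin 2) (Fin 2) (AlgebraicClosure K)}
    (hP : Resolves ((g : Matrix (Fin 2) (Fin 2) K).map (algebraMap K (AlgebraicClosure K))) P ![a, a⁻¹])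
    {v : Fin 2 × Fin 2 → K} (hv : twoRep τ g *ᵥ v = v) (hv0 : v ≠ 0) :
    a ^ (q - 1) = 1 ∨ a ^ (q + 1) = 1 := by
  set ι := algebraMap K (AlgebraicClosure K)
  haveI : CharP (AlgebraicClosure K) p := charP_of_injective_ringHom ι.injective p
  have h2 := resolves_map (iterateFrobenius (AlgebraicClosure K) p e) hP
  have hM : ((g : Matrix (Fin 2) (Fin 2) K).map ι).map (iterateFrobenius (AlgebraicClosure K) p e) =
      ((g : Matrix (Fin 2) (Fin 2) K).map τ).map ι := by
    ext i j
    simp [hτ, iterateFrobenius_def, hqe]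
  rw [hM] at h2
  have h := resolves_kron hP h2
  have hmap : (twoRep τ g).map ι =
      (g : Matrix (Fin 2) (Fin 2) K).map ι ⊗ₖ ((g : Matrix (Fin 2) (Fin 2) K).map τ).map ι := by
    ext i j
    simp [twoRep]
  rw [← hmap] at h
  obtain ⟨k, hk⟩ := exists_weight_one ι h hv hv0
  obtain ⟨k1, k2⟩ := k
  have hpow := SpFourSpectrum.pow_inv_cases ha hq
  simp only [iterateFrobenius_def, ← hqe] at hk
  have key : a ^ q = a ∨ a ^ q = a⁻¹ := by
    fin_cases k1 <;> fin_cases k2 <;> simp only [Fin.zero_eta, Fin.mk_one, Fin.isValue, Matrix.cons_val_zero,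
      Matrix.cons_val_one, Matrix.head_cons] at hk
    · exact Or.inr (eq_inv_of_mul_eq_one_right hk)
    · rw [inv_pow, mul_inv_eq_one₀ (pow_ne_zero _ ha)] at hk
      exact Or.inl hk.symm
    · rw [inv_mul_eq_one₀ ha] at hk
      exact Or.inl hk.symm
    · rw [inv_pow, ← mul_inv, inv_eq_one] at hk
      exact Or.inr (eq_inv_of_mul_eq_one_right hk)
  exact key.imp hpow.1 hpow.2

theorem exists_unit_order [Fintype K] {m : ℕ} (hm : m ∣ Fintype.card K - 1) : ∃ ζ : Kˣ, orderOf ζ = m := by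
  obtain ⟨z, hz⟩ := IsCyclic.exists_ofOrder_eq_natCard (α := Kˣ)
  rw [Nat.card_units, Nat.card_eq_fintype_card] at hz
  refine ⟨z ^ (orderOf z / m), orderOf_pow_orderOf_div (orderOf_pos z).ne' (hz ▸ hm)⟩

theorem diag_pow (ζ : Kˣ) (k : ℕ) : SLTwoElements.diag K ζ ^ k = SLTwoElements.diag K (ζ ^ k) := by
  induction k with
  | zero =>
    rw [pow_zero, pow_zero]
    apply Subtype.ext
    ext i j; fin_cases i <;> fin_cases j <;> simp [SLTwoElements.diag]
  | succ k ih =>
    rw [pow_succ, ih, pow_succ]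
    apply Subtype.ext
    change Matrix.diagonal _ * Matrix.diagonal _ = Matrix.diagonal _
    rw [Matrix.diagonal_mul_diagonal]
    congr 1
    funext i; fin_cases i <;> simp [mul_comm]

theorem diag_eq_one {ζ : Kˣ} (h : SLTwoElements.diag K ζ = 1) : ζ = 1 := by
  apply Units.ext
  have := congrArg (fun M : SL2 => (M : Matrix (Fin 2) (Fin 2) K) 0 0) h
  simpa [SLTwoElements.diag] using this

theorem twoRep_diag_single (τ : K →+* K) (ζ : Kˣ) (i : Fin 2 × Fin 2)
    (h : (![(ζ : K), (ζ : K)⁻¹] i.1) * τ (![(ζ : K), (ζ : K)⁻¹] i.2) = 1) :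
    twoRep τ (SLTwoElements.diag K ζ) *ᵥ Pi.single i 1 = Pi.single i 1 := by
  rw [Matrix.mulVec_single_one]
  funext j
  obtain ⟨i1, i2⟩ := i
  obtain ⟨j1, j2⟩ := j
  rw [Matrix.col_apply, twoRep_apply]
  by_cases h1 : j1 = i1
  · subst h1
    by_cases h2 : j2 = i2
    · subst h2
      simp [SLTwoElements.diag, h]
    · simp [SLTwoElements.diag, h2]
  · simp [SLTwoElements.diag, h1]

/-- The groups realising the spectrum. -/
def Realises (p q : ℕ) (G : Type*) [Group G] : Prop :=
  (∀ x : G, Good p q (orderOf x)) ∧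
    ∀ n, (n = unipExp p ∨ n = p * (q - 1) ∨ n = p * (q + 1) ∨ n = (q ^ 2 - 1) / Nat.gcd 2 (q - 1) ∨
      n = (q ^ 2 + 1) / Nat.gcd 2 (q - 1)) → ∃ x : G, n ∣ orderOf x

variable [Fintype K]

/-- The affine action for even `q`. -/
def evenAct (τ : K →+* K) : SL2 →* AddMonoid.End (Fin 2 × Fin 2 → K) :=
  (mulVecEnd (K := K) (n := Fin 2 × Fin 2)).toMonoidHom.comp (twoRep τ)

theorem even_realises [CharP K 2] (e : ℕ) (he : 1 ≤ e) (hK : Fintype.card K = (2 ^ e) ^ 2) :
    Realises 2 (2 ^ e) (AffineGroup.Aff (evenAct (iterateFrobenius K 2 e))) := by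
  classical
  haveI : Fact (Nat.Prime 2) := ⟨Nat.prime_two⟩
  set τ := iterateFrobenius K 2 e
  set q := 2 ^ e with hqdef
  have hq : 2 ≤ q := Nat.le_self_pow (by omega) 2
  have hgcd : Nat.gcd 2 (q - 1) = 1 := by
    refine Nat.coprime_two_left.mpr ?_
    rw [Nat.odd_sub (by omega)]
    simp [hqdef, Nat.even_pow]; omega
  have htwo : ∀ w : Fin 2 × Fin 2 → K, 2 • w = 0 := fun w => by
    rw [two_nsmul]; funext i; exact CharTwo.add_self_eq_zero (w i)
  refine ⟨fun x => ?_, ?_⟩
  · obtain ⟨w, g, rfl⟩ := AffineGroup.exists_elt _ x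
    rcases sl2_cases g with ⟨ε, hε, h⟩ | ⟨a, ha0, -, -, ha, ⟨P, hP⟩, hpow⟩
    · left
      have hε1 : ε = 1 := by rcases hε with rfl | rfl <;> simp [CharTwo.neg_eq]
      have hg : g ^ 2 = 1 := by
        apply Subtype.ext
        rw [Matrix.SpecialLinearGroup.coe_pow, pow_char_of_unipotent 2 _ ε h, hε1, one_pow, one_smul,
          Matrix.SpecialLinearGroup.coe_one]
      exact orderOf_dvd_of_pow_eq_one (AffineGroup.pow_mul_eq_one _ htwo w g hg)
    have hg : ∀ m, a ^ m = 1 → g ^ m = 1 := fun m hm => by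
      apply Subtype.ext
      rw [Matrix.SpecialLinearGroup.coe_pow, hpow m 1 (one_mul 1) (by rw [hm, map_one]), one_smul,
        Matrix.SpecialLinearGroup.coe_one]
    by_cases hfix : ∀ v, evenAct τ g v = v → v = 0
    · rw [hK] at ha
      rcases ha with h | h
      · right; right; right; left
        rw [hgcd, Nat.div_one]
        exact orderOf_dvd_of_pow_eq_one (AffineGroup.pow_eq_one _ w g (hg _ h)
          (AffineGroup.sum_eq_zero_of_no_fixed _ w g (hg _ h) hfix))
      · right; right; right; right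
        rw [hgcd, Nat.div_one]
        exact orderOf_dvd_of_pow_eq_one (AffineGroup.pow_eq_one _ w g (hg _ h)
          (AffineGroup.sum_eq_zero_of_no_fixed _ w g (hg _ h) hfix))
    · push Not at hfix
      obtain ⟨v, hv, hv0⟩ := hfix
      rcases twoRep_fixed τ q (by omega) (fun x => iterateFrobenius_def (R := K) 2 e x) 2 e rfl g a ha0 hP hv hv0 with h | h
      · right; left
        rw [mul_comm]
        exact orderOf_dvd_of_pow_eq_one (AffineGroup.pow_mul_eq_one _ htwo w g (hg _ h))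
      · right; right; left
        rw [mul_comm]
        exact orderOf_dvd_of_pow_eq_one (AffineGroup.pow_mul_eq_one _ htwo w g (hg _ h))
  · have hQ : Fintype.card K - 1 = (q + 1) * (q - 1) := by rw [hK, ← Nat.sq_sub_sq, one_pow]
    have hodd : Odd (q - 1) ∧ Odd (q + 1) := by
      have : Even q := by rw [hqdef, Nat.even_pow]; exact ⟨even_two, by omega⟩
      exact ⟨Nat.Even.sub_odd (by omega) this odd_one, this.add_one⟩
    have torus : ∀ m, m ∣ Fintype.card K - 1 → Odd m → ∀ i : Fin 2 × Fin 2,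
        (∀ ζ : Kˣ, ζ ^ m = 1 → (![(ζ : K), (ζ : K)⁻¹] i.1) * τ (![(ζ : K), (ζ : K)⁻¹] i.2) = 1) →
        ∃ x : AffineGroup.Aff (evenAct τ), 2 * m ∣ orderOf x := by
      intro m hm hmodd i hi
      obtain ⟨ζ, hζ⟩ := exists_unit_order hm
      refine ⟨_, AffineGroup.mul_dvd_orderOf_of_fixed (evenAct τ) htwo (SLTwoElements.diag K ζ)
        (twoRep_diag_single τ ζ i (hi ζ (hζ ▸ pow_orderOf_eq_one ζ))) ?_ ?_ (Nat.coprime_two_left.mpr hmodd)⟩
      · intro h
        have := congrFun h i
        simp at this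
      · rw [← hζ]
        apply orderOf_dvd_of_pow_eq_one
        exact diag_eq_one (by rw [← diag_pow, pow_orderOf_eq_one])
    rintro n (rfl | rfl | rfl | rfl | rfl)
    · refine ⟨AffineGroup.elt _ (Pi.single ((1 : Fin 2), (1 : Fin 2)) 1) (SLTwoElements.transv K), ?_⟩
      have hg : SLTwoElements.transv K ^ 2 = 1 := by
        apply Subtype.ext
        rw [SLTwoElements.transv_pow, Matrix.SpecialLinearGroup.coe_one, CharP.cast_eq_zero, Matrix.one_fin_two]
      rw [show unipExp 2 = 2 ^ (1 + 1) by simp [unipExp]]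
      rw [orderOf_eq_prime_pow (p := 2) (n := 1) ?_ (by
        exact AffineGroup.pow_mul_eq_one _ htwo _ _ hg)]
      rw [pow_one, AffineGroup.pow_eq]
      intro h
      have h' := congrArg (fun x : AffineGroup.Aff (evenAct τ) => x.left.toAdd ((0 : Fin 2), (0 : Fin 2))) h
      simp only [Finset.sum_range_succ, Finset.sum_range_zero, zero_add, pow_zero, pow_one] at h'
      change (Pi.single ((1 : Fin 2), (1 : Fin 2)) (1 : K) + twoRep τ (SLTwoElements.transv K) *ᵥ Pi.single ((1 : Fin 2), (1 : Fin 2)) (1 : K) : Fin 2 × Fin 2 → K) ((0 : Fin 2), (0 : Fin 2)) = 0 at h'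
      rw [Pi.add_apply, Matrix.mulVec_single_one, Matrix.col_apply, twoRep_apply] at h'
      simp [SLTwoElements.transv] at h'
    · refine torus _ ⟨q + 1, by rw [hQ, mul_comm]⟩ hodd.1 (0, 1) fun ζ h => ?_
      have : ((ζ : K)) ^ q = ζ := by
        conv_lhs => rw [show q = q - 1 + 1 by omega, pow_succ, ← Units.val_pow_eq_pow_val, h, Units.val_one, one_mul]
      simp [iterateFrobenius_def, τ, ← hqdef, this]
    · refine torus _ ⟨q - 1, hQ⟩ hodd.2 (0, 0) fun ζ h => ?_
      simp only [Matrix.cons_val_zero, τ, iterateFrobenius_def, ← hqdef]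
      rw [← pow_succ', ← Units.val_pow_eq_pow_val, h, Units.val_one]
    · obtain ⟨ζ, hζ⟩ := exists_unit_order (K := K) (dvd_refl (Fintype.card K - 1))
      refine ⟨AffineGroup.elt _ 0 (SLTwoElements.diag K ζ), ?_⟩
      rw [hgcd, Nat.div_one, ← hK, ← hζ]
      refine (orderOf_dvd_of_pow_eq_one ?_).trans (AffineGroup.dvd_orderOf _ _ _)
      exact diag_eq_one (by rw [← diag_pow, pow_orderOf_eq_one])
    · obtain ⟨g, hg⟩ := SLTwoElements.exists_plus K 2
      refine ⟨AffineGroup.elt _ 0 g, ?_⟩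
      rw [hgcd, Nat.div_one, ← hK]
      exact (hg _ (pow_orderOf_eq_one g)).trans (AffineGroup.dvd_orderOf _ _ _)

end CfsgLib.Recognition.SpFourGroups
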