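import Mathlib
import Cfsg.Agent.Lib.Recognition.SpFourEven
import Cfsg.Agent.Lib.KnownC.PSLOrders

/-!
The affine group of `L₂(q²)` extended by the swap of the tensor factors: element orders of `PSp₄(q)` for
odd `q` in characteristic at least five.
-/

namespace CfsgLib.Recognition.SpFourGroups

open Matrix TwistedTensor SpFourSpectrum
open scoped Kronecker

variable {K : Type*} [Field K]

local notation "SL2" => Matrix.SpecialLinearGroup (Fin 2) K
local notation "P2" => Matrix.ProjectiveSpecialLinearGroup (Fin 2) K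

/-- The swap matrix. -/
def swapMat (K : Type*) [Field K] : Matrix (Fin 2 × Fin 2) (Fin 2 × Fin 2) K :=
  Matrix.of fun i j => if j = (i.2, i.1) then 1 else 0

theorem swapMat_mulVec (v : Fin 2 × Fin 2 → K) (i : Fin 2 × Fin 2) : (swapMat K *ᵥ v) i = v (i.2, i.1) := by
  simp [swapMat, Matrix.mulVec, dotProduct]

theorem swapMat_sq : swapMat K * swapMat K = 1 := by
  apply Matrix.ext_of_mulVec_single
  intro i
  rw [← Matrix.mulVec_mulVec, Matrix.one_mulVec]
  funext j
  rw [swapMat_mulVec, swapMat_mulVec]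

theorem twoRep_central (τ : K →+* K) (g : SL2) (hg : g ∈ Subgroup.center SL2) : twoRep τ g = 1 := by
  obtain ⟨r, hr, h⟩ := CfsgLib.KnownC.PSLOrders.eq_smul_one_of_mem_center hg
  have hrτ : r * τ r = 1 := by
    rw [pow_two] at hr
    rcases mul_self_eq_one_iff.mp hr with rfl | rfl <;> simp
  ext i j
  rw [twoRep_apply, h]
  simp only [Matrix.smul_apply, smul_eq_mul, Matrix.one_apply, mul_ite, mul_one, mul_zero, apply_ite τ, map_zero]
  by_cases h1 : i.1 = j.1 <;> by_cases h2 : i.2 = j.2 <;> simp [h1, h2, hrτ, Prod.ext_iff]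

/-- The representation of `PSL₂`. -/
def pslRep (τ : K →+* K) : P2 →* Matrix (Fin 2 × Fin 2) (Fin 2 × Fin 2) K :=
  QuotientGroup.lift _ (twoRep τ) fun g hg => twoRep_central τ g hg

theorem pslRep_mk (τ : K →+* K) (g : SL2) : pslRep τ (QuotientGroup.mk g : P2) = twoRep τ g := rfl

/-- Applying `τ` to the entries. -/
def entryMap (τ : K →+* K) : SL2 →* SL2 := Matrix.SpecialLinearGroup.map τ

theorem entryMap_center (τ : K →+* K) :
    Subgroup.center SL2 ≤ (Subgroup.center SL2).comap (entryMap τ) := by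
  intro g hg
  obtain ⟨r, -, h⟩ := CfsgLib.KnownC.PSLOrders.eq_smul_one_of_mem_center hg
  refine CfsgLib.KnownC.PSLOrders.mem_center_of_eq_smul_one (t := τ r) ?_
  change (g : Matrix (Fin 2) (Fin 2) K).map τ = τ r • 1
  rw [h]
  ext i j
  simp [Matrix.one_apply, apply_ite τ]

theorem entryMap_involutive {τ : K →+* K} (hτ : ∀ x, τ (τ x) = x) (g : SL2) : entryMap τ (entryMap τ g) = g := by
  ext i j
  exact hτ _

/-- The outer automorphism of `PSL₂`. -/
def pslAut (τ : K →+* K) (hτ : ∀ x, τ (τ x) = x) : MulAut P2 where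
  toFun := QuotientGroup.map _ _ (entryMap τ) (entryMap_center τ)
  invFun := QuotientGroup.map _ _ (entryMap τ) (entryMap_center τ)
  left_inv x := by
    obtain ⟨g, rfl⟩ := QuotientGroup.mk_surjective x
    rw [QuotientGroup.map_mk, QuotientGroup.map_mk, entryMap_involutive hτ]
  right_inv x := by
    obtain ⟨g, rfl⟩ := QuotientGroup.mk_surjective x
    rw [QuotientGroup.map_mk, QuotientGroup.map_mk, entryMap_involutive hτ]
  map_mul' := map_mul _

theorem pslAut_mk (τ : K →+* K) (hτ : ∀ x, τ (τ x) = x) (g : SL2) :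
    pslAut τ hτ (QuotientGroup.mk g : P2) = QuotientGroup.mk (entryMap τ g) := rfl

theorem swap_twoRep {τ : K →+* K} (hτ : ∀ x, τ (τ x) = x) (g : SL2) :
    swapMat K * twoRep τ g = twoRep τ (entryMap τ g) * swapMat K := by
  apply Matrix.ext
  intro i j
  obtain ⟨i1, i2⟩ := i
  obtain ⟨j1, j2⟩ := j
  rw [Matrix.mul_apply, Matrix.mul_apply, Finset.sum_eq_single (i2, i1), Finset.sum_eq_single (j2, j1)]
  · simp only [swapMat, Matrix.of_apply, if_true, twoRep_apply, one_mul, mul_one]
    change _ = τ ((g : Matrix (Fin 2) (Fin 2) K) i1 j2) * τ (τ ((g : Matrix (Fin 2) (Fin 2) K) i2 j1))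
    rw [hτ, mul_comm]
  · rintro ⟨k1, k2⟩ - hk
    rw [swapMat, Matrix.of_apply, if_neg, mul_zero]
    simp only [ne_eq, Prod.mk.injEq] at hk ⊢
    intro h
    exact hk ⟨h.2.symm, h.1.symm⟩
  · simp
  · rintro ⟨k1, k2⟩ - hk
    rw [swapMat, Matrix.of_apply, if_neg hk, zero_mul]
  · simp

theorem conj_pslRep {τ : K →+* K} (hτ : ∀ x, τ (τ x) = x) (x : P2) :
    swapMat K * pslRep τ x = pslRep τ (pslAut τ hτ x) * swapMat K := by
  obtain ⟨g, rfl⟩ := QuotientGroup.mk_surjective x
  exact swap_twoRep hτ g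

/-- The cyclic group of order two acting by the outer automorphism. -/
def twoHom (τ : K →+* K) (hτ : ∀ x, τ (τ x) = x) : Multiplicative (ZMod 2) →* MulAut P2 where
  toFun c := if c = 1 then 1 else pslAut τ hτ
  map_one' := if_pos rfl
  map_mul' c d := by
    have hsq : pslAut τ hτ * pslAut τ hτ = 1 := MulEquiv.ext fun x => (pslAut τ hτ).left_inv x
    have key : ∀ c : Multiplicative (ZMod 2), c = 1 ∨ c = Multiplicative.ofAdd 1 := by decide
    have hne : Multiplicative.ofAdd (1 : ZMod 2) ≠ 1 := by decide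
    have hss : Multiplicative.ofAdd (1 : ZMod 2) * Multiplicative.ofAdd 1 = 1 := by decide
    rcases key c with rfl | rfl <;> rcases key d with rfl | rfl <;> simp [hne, hss, hsq]

theorem twoHom_one (τ : K →+* K) (hτ : ∀ x, τ (τ x) = x) :
    twoHom τ hτ (Multiplicative.ofAdd (1 : ZMod 2)) = pslAut τ hτ := by simp [twoHom]

/-- The group `L₂(q²).2`. -/
abbrev PTwo (τ : K →+* K) (hτ : ∀ x, τ (τ x) = x) := P2 ⋊[twoHom τ hτ] Multiplicative (ZMod 2)

/-- The matrices of the extended representation. -/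
def extRep (τ : K →+* K) (hτ : ∀ x, τ (τ x) = x) : PTwo τ hτ →* Matrix (Fin 2 × Fin 2) (Fin 2 × Fin 2) K where
  toFun x := pslRep τ x.left * (if x.right = 1 then 1 else swapMat K)
  map_one' := by simp
  map_mul' x y := by
    have key : ∀ c : Multiplicative (ZMod 2), c = 1 ∨ c = Multiplicative.ofAdd 1 := by decide
    have hne : Multiplicative.ofAdd (1 : ZMod 2) ≠ 1 := by decide
    have hss : Multiplicative.ofAdd (1 : ZMod 2) * Multiplicative.ofAdd 1 = 1 := by decide
    rw [SemidirectProduct.mul_left, SemidirectProduct.mul_right, map_mul]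
    rcases key x.right with hx | hx <;> rcases key y.right with hy | hy <;> rw [hx, hy]
    · simp
    · simp [hne, mul_assoc]
    · have h1 := twoHom_one τ hτ
      simp only [mul_one, if_true, if_neg hne, h1, mul_assoc, ← conj_pslRep hτ]
    · have h1 := twoHom_one τ hτ
      simp only [hss, if_true, if_neg hne, h1, mul_one]
      rw [mul_assoc (pslRep τ x.left) (swapMat K), ← mul_assoc (swapMat K), conj_pslRep hτ, mul_assoc _ (swapMat K),
        swapMat_sq, mul_one]

/-- The affine action. -/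
def oddAct (τ : K →+* K) (hτ : ∀ x, τ (τ x) = x) : PTwo τ hτ →* AddMonoid.End (Fin 2 × Fin 2 → K) :=
  (mulVecEnd (K := K) (n := Fin 2 × Fin 2)).toMonoidHom.comp (extRep τ hτ)

theorem sum_mulVecEnd {L : Type*} [Group L] (ρ : L →* Matrix (Fin 2 × Fin 2) (Fin 2 × Fin 2) K) (g : L) (n : ℕ) :
    ∑ i ∈ Finset.range n, (((mulVecEnd (K := K) (n := Fin 2 × Fin 2)).toMonoidHom.comp ρ) g) ^ i =
      mulVecEnd (∑ i ∈ Finset.range n, ρ g ^ i) := by
  rw [map_sum]
  exact Finset.sum_congr rfl fun i _ => (map_pow mulVecEnd (ρ g) i).symm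

variable [Fintype K] {p : ℕ} [Fact p.Prime] [CharP K p]

/-- Trichotomy in `PSL₂(q²)`. -/
theorem psl_trichotomy (hp : p ≠ 2) {Q : ℕ} (hQ : Fintype.card K = Q) (g : SL2) :
    (∃ ε : K, (ε = 1 ∨ ε = -1) ∧ ((g : Matrix (Fin 2) (Fin 2) K) - ε • 1) * ((g : Matrix (Fin 2) (Fin 2) K) - ε • 1) = 0) ∨
    ∃ a : AlgebraicClosure K, a ≠ 0 ∧ a ≠ a⁻¹ ∧
      a + a⁻¹ = algebraMap K (AlgebraicClosure K) (g : Matrix (Fin 2) (Fin 2) K).trace ∧
      (∃ P : Fin 2 → Matrix (Fin 2) (Fin 2) (AlgebraicClosure K),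
        Resolves ((g : Matrix (Fin 2) (Fin 2) K).map (algebraMap K (AlgebraicClosure K))) P ![a, a⁻¹]) ∧
      (∀ N, a ^ (2 * N) = 1 → (QuotientGroup.mk g : P2) ^ N = 1) ∧
      ((QuotientGroup.mk g : P2) ^ ((Q - 1) / 2) = 1 ∨ (QuotientGroup.mk g : P2) ^ ((Q + 1) / 2) = 1) := by
  rcases sl2_cases g with h | ⟨a, ha0, hne, htr, ha, hP, hpow⟩
  · exact Or.inl h
  refine Or.inr ⟨a, ha0, hne, htr, hP, ?_⟩
  have key : ∀ N, a ^ (2 * N) = 1 → (QuotientGroup.mk g : P2) ^ N = 1 := by
    intro N hN
    rw [CfsgLib.KnownC.PSLOrders.mk_pow_eq_one_iff]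
    rw [mul_comm, pow_mul, sq_eq_one_iff] at hN
    rcases hN with h | h
    · exact ⟨1, hpow N 1 (one_mul 1) (by rw [h, map_one])⟩
    · exact ⟨-1, hpow N (-1) (by ring) (by rw [h, map_neg, map_one])⟩
  refine ⟨key, ?_⟩
  have hodd : Q % 2 = 1 := hQ ▸ FiniteField.odd_card_of_char_ne_two (by rwa [ringChar.eq K p])
  rw [hQ] at ha
  refine ha.imp (fun h => key _ ?_) (fun h => key _ ?_)
  · rwa [Nat.two_mul_div_two_of_even (by rw [Nat.even_iff]; omega)]
  · rwa [Nat.two_mul_div_two_of_even (by rw [Nat.even_iff]; omega)]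

omit [Fintype K] in
theorem psl_pow_char (g : SL2) {ε : K} (_hε : ε = 1 ∨ ε = -1)
    (h : ((g : Matrix (Fin 2) (Fin 2) K) - ε • 1) * ((g : Matrix (Fin 2) (Fin 2) K) - ε • 1) = 0) :
    (QuotientGroup.mk g : P2) ^ p = 1 := by
  rw [CfsgLib.KnownC.PSLOrders.mk_pow_eq_one_iff]
  exact ⟨_, pow_char_of_unipotent p _ ε h⟩

omit [Fintype K] in
theorem twoRep_unipotent_sum (τ : K →+* K) (h5 : 5 ≤ p) (g : SL2) {ε : K} (hε : ε = 1 ∨ ε = -1)
    (h : ((g : Matrix (Fin 2) (Fin 2) K) - ε • 1) * ((g : Matrix (Fin 2) (Fin 2) K) - ε • 1) = 0) :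
    ∑ i ∈ Finset.range p, twoRep τ g ^ i = 0 := by
  have hεε : ε * ε = 1 := by rcases hε with rfl | rfl <;> ring
  have hτε : τ ε = ε := by rcases hε with rfl | rfl <;> simp
  set N : Matrix (Fin 2) (Fin 2) K := ε • (g : Matrix (Fin 2) (Fin 2) K) - 1 with hN
  have hNN : N * N = 0 := by
    have : N = ε • ((g : Matrix (Fin 2) (Fin 2) K) - ε • 1) := by rw [hN, smul_sub, smul_smul, hεε, one_smul]
    rw [this, Matrix.smul_mul, Matrix.mul_smul, h, smul_zero, smul_zero]
  have hMM : N.map τ * N.map τ = 0 := by rw [← Matrix.map_mul, hNN, Matrix.map_zero _ (map_zero τ)]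
  have hg : (g : Matrix (Fin 2) (Fin 2) K) = ε • (1 + N) := by
    rw [hN, add_sub_cancel, smul_smul, hεε, one_smul]
  have hgτ : (g : Matrix (Fin 2) (Fin 2) K).map τ = ε • (1 + N.map τ) := by
    conv_lhs => rw [hg]
    ext i j
    simp [Matrix.one_apply, apply_ite τ, hτε]
    split_ifs <;> ring
  have hrep : twoRep τ g = 1 + ((1 + N) ⊗ₖ (1 + N.map τ) - 1) := by
    rw [add_sub_cancel]
    change (g : Matrix (Fin 2) (Fin 2) K) ⊗ₖ (g : Matrix (Fin 2) (Fin 2) K).map τ = _
    rw [hgτ, hg, Matrix.smul_kronecker, Matrix.kronecker_smul, smul_smul, hεε, one_smul]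
  rw [hrep]
  refine geom_sum_eq_zero (Fact.out : p.Prime) h5 ?_ _ (kron_cube_zero hNN hMM)
  rw [← Matrix.diagonal_natCast, CharP.cast_eq_zero]
  exact Matrix.diagonal_zero

theorem odd_good (e : ℕ) (he : 1 ≤ e) (h5 : 5 ≤ p) (hK : Fintype.card K = (p ^ e) ^ 2)
    (hτ : ∀ x : K, iterateFrobenius K p e (iterateFrobenius K p e x) = x)
    (x : AffineGroup.Aff (oddAct (iterateFrobenius K p e) hτ)) : Good p (p ^ e) (orderOf x) := by
  classical
  set τ := iterateFrobenius K p e
  set q := p ^ e with hqdef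
  have hp := (Fact.out : p.Prime)
  have hq : 2 ≤ q := le_trans hp.two_le (Nat.le_self_pow (by omega) p)
  have hqodd : q % 2 = 1 := Nat.odd_iff.mp (hp.odd_of_ne_two (by omega)).pow
  have hgcd : Nat.gcd 2 (q - 1) = 2 := Nat.gcd_eq_left (by omega)
  have hun : unipExp p = p := by unfold unipExp; split_ifs with h h <;> omega
  have hpw : ∀ w : Fin 2 × Fin 2 → K, p • w = 0 := fun w => by funext i; simp [CharP.cast_eq_zero]
  have hinl : ∀ (g : P2) (m : ℕ), g ^ m = 1 → (SemidirectProduct.inl g : PTwo τ hτ) ^ m = 1 := fun g m h => by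
    rw [← map_pow, h, map_one]
  obtain ⟨w, ⟨x, c⟩, rfl⟩ := AffineGroup.exists_elt _ x
  obtain ⟨g, rfl⟩ := QuotientGroup.mk_surjective x
  have key : ∀ c : Multiplicative (ZMod 2), c = 1 ∨ c = Multiplicative.ofAdd 1 := by decide
  rcases key c with rfl | rfl
  · have hinl' : (⟨QuotientGroup.mk g, 1⟩ : PTwo τ hτ) = SemidirectProduct.inl (QuotientGroup.mk g : P2) := rfl
    have hext : extRep τ hτ (SemidirectProduct.inl (QuotientGroup.mk g : P2)) = twoRep τ g := by
      simp [extRep, pslRep_mk]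
    rw [hinl']
    rcases psl_trichotomy (by omega) hK g with ⟨ε, hε, h⟩ | ⟨a, ha0, -, -, ⟨P, hP⟩, hpow, hN⟩
    · left
      rw [hun]
      apply orderOf_dvd_of_pow_eq_one
      refine AffineGroup.pow_eq_one _ _ _ (hinl _ _ (psl_pow_char g hε h)) ?_
      rw [oddAct, sum_mulVecEnd, hext, twoRep_unipotent_sum τ h5 g hε h, map_zero]
      rfl
    by_cases hfix : ∀ v, oddAct τ hτ (SemidirectProduct.inl (QuotientGroup.mk g : P2)) v = v → v = 0
    · rcases hN with h | h
      · right; right; right; left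
        rw [hgcd]
        exact orderOf_dvd_of_pow_eq_one (AffineGroup.pow_eq_one _ w _ (hinl _ _ h)
          (AffineGroup.sum_eq_zero_of_no_fixed _ w _ (hinl _ _ h) hfix))
      · right; right; right; right
        rw [hgcd]
        exact orderOf_dvd_of_pow_eq_one (AffineGroup.pow_eq_one _ w _ (hinl _ _ h)
          (AffineGroup.sum_eq_zero_of_no_fixed _ w _ (hinl _ _ h) hfix))
    · push Not at hfix
      obtain ⟨v, hv, hv0⟩ := hfix
      rw [oddAct, MonoidHom.comp_apply, hext] at hv
      rcases twoRep_fixed τ q (by omega) (fun x => iterateFrobenius_def (R := K) p e x) p e rfl g a ha0 hP hv hv0 with h | h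
      · right; left
        rw [mul_comm]
        exact orderOf_dvd_of_pow_eq_one (AffineGroup.pow_mul_eq_one _ hpw w _ (hinl _ _ (hpow _ (by rw [mul_comm, pow_mul, h, one_pow]))))
      · right; right; left
        rw [mul_comm]
        exact orderOf_dvd_of_pow_eq_one (AffineGroup.pow_mul_eq_one _ hpw w _ (hinl _ _ (hpow _ (by rw [mul_comm, pow_mul, h, one_pow]))))
  · -- the outer coset
    set y : PTwo τ hτ := ⟨QuotientGroup.mk g, Multiplicative.ofAdd 1⟩ with hy
    set h : SL2 := g * entryMap τ g with hh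
    have hy2 : y ^ 2 = SemidirectProduct.inl (QuotientGroup.mk h : P2) := by
      rw [pow_two, hy, SemidirectProduct.mul_def]
      refine SemidirectProduct.ext ?_ ?_
      · have h1 := twoHom_one τ hτ
        simp only [h1, pslAut_mk]
        rfl
      · simp only [SemidirectProduct.right_inl]
        decide
    rcases psl_trichotomy (by omega) hK h with ⟨ε, hε, hu⟩ | ⟨a, ha0, hne, htr, -, hpow, -⟩
    · right; left
      refine dvd_trans (b := p * 2) ?_ (mul_dvd_mul_left p (by omega))
      rw [mul_comm]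
      apply orderOf_dvd_of_pow_eq_one
      refine AffineGroup.pow_eq_one _ _ _ ?_ ?_
      · rw [pow_mul, hy2]; exact hinl _ _ (psl_pow_char h hε hu)
      · rw [oddAct, sum_mulVecEnd]
        have hsum : ∀ m : ℕ, ∑ i ∈ Finset.range (2 * m), extRep τ hτ y ^ i =
            (1 + extRep τ hτ y) * ∑ i ∈ Finset.range m, (extRep τ hτ y ^ 2) ^ i := by
          intro m
          induction m with
          | zero => simp
          | succ m ih =>
            rw [show 2 * (m + 1) = 2 * m + 1 + 1 by ring, Finset.sum_range_succ, Finset.sum_range_succ,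
              Finset.sum_range_succ _ m, mul_add, ← ih, add_assoc, add_mul, one_mul, ← pow_mul, ← pow_succ']
        have hext : extRep τ hτ y ^ 2 = twoRep τ h := by
          rw [← map_pow, hy2]; simp [extRep, pslRep_mk]
        rw [hsum, hext, twoRep_unipotent_sum τ h5 h hε hu, mul_zero, map_zero]
        rfl
    · set ι := algebraMap K (AlgebraicClosure K)
      haveI : CharP (AlgebraicClosure K) p := charP_of_injective_ringHom ι.injective p
      have hconj : entryMap τ h = g⁻¹ * h * g := by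
        rw [hh, map_mul, entryMap_involutive hτ, ← mul_assoc, inv_mul_cancel, one_mul]
      have hfix : τ (h : Matrix (Fin 2) (Fin 2) K).trace = (h : Matrix (Fin 2) (Fin 2) K).trace := by
        calc τ (h : Matrix (Fin 2) (Fin 2) K).trace = ((entryMap τ h : SL2) : Matrix (Fin 2) (Fin 2) K).trace := by
              simp [Matrix.trace_fin_two, entryMap]
          _ = _ := by
            rw [hconj, Matrix.SpecialLinearGroup.coe_mul, Matrix.trace_mul_comm, ← Matrix.SpecialLinearGroup.coe_mul,
              ← mul_assoc, mul_inv_cancel, one_mul]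
      have haq : a ^ q = a ∨ a ^ q = a⁻¹ := by
        have h1 := congrArg (iterateFrobenius (AlgebraicClosure K) p e) htr
        rw [map_add, iterateFrobenius_def, iterateFrobenius_def, iterateFrobenius_def, ← map_pow,
          ← iterateFrobenius_def (R := K), hfix, ← htr, inv_pow] at h1
        have hb0 : a ^ q ≠ 0 := pow_ne_zero _ ha0
        have hm := mul_inv_cancel₀ ha0
        have hm' := mul_inv_cancel₀ hb0
        have h2 : (a ^ q - a) * (a ^ q - a⁻¹) = 0 := by linear_combination (a ^ q) * h1 + hm - hm'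
        rcases mul_eq_zero.mp h2 with h2 | h2
        · exact Or.inl (sub_eq_zero.mp h2)
        · exact Or.inr (sub_eq_zero.mp h2)
      have hpw' := SpFourSpectrum.pow_inv_cases (q := q) ha0 (by omega)
      rcases haq.imp hpw'.1 hpw'.2 with h1 | h1
      · right; left
        rw [mul_comm, show q - 1 = 2 * ((q - 1) / 2) by omega]
        apply orderOf_dvd_of_pow_eq_one
        refine AffineGroup.pow_mul_eq_one _ hpw w _ ?_
        rw [pow_mul, hy2]
        exact hinl _ _ (hpow _ (by rwa [show 2 * ((q - 1) / 2) = q - 1 by omega]))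
      · right; right; left
        rw [mul_comm, show q + 1 = 2 * ((q + 1) / 2) by omega]
        apply orderOf_dvd_of_pow_eq_one
        refine AffineGroup.pow_mul_eq_one _ hpw w _ ?_
        rw [pow_mul, hy2]
        exact hinl _ _ (hpow _ (by rwa [show 2 * ((q + 1) / 2) = q + 1 by omega]))

/-- An element of `SL₂(q²)` negated by the Frobenius and of order `q ± 1` modulo the scalars. -/
theorem exists_negated {F : Type*} [Field F] [Fintype F] [Algebra F K] {q : ℕ} (hF : Fintype.card F = q)
    (hK : Fintype.card K = q ^ 2) (hp : p ≠ 2) (τ : K →+* K) (hτ : ∀ x, τ x = x ^ q)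
    (A : Matrix (Fin 2) (Fin 2) F) (hns : ¬ IsSquare A.det) (m : ℕ)
    (hA : ∀ k, (∃ c : F, A ^ k = c • 1) → m ∣ k) :
    ∃ g : SL2, ((entryMap τ g : SL2) : Matrix (Fin 2) (Fin 2) K) = -(g : Matrix (Fin 2) (Fin 2) K) ∧
      ∀ k, (QuotientGroup.mk g : P2) ^ k = 1 → m ∣ k := by
  set ι := algebraMap F K
  have hd0 : A.det ≠ 0 := fun h => hns (h ▸ IsSquare.zero)
  have hι0 : ι A.det ≠ 0 := fun h => hd0 (ι.injective (h.trans (map_zero ι).symm))
  have hcharK : ringChar K ≠ 2 := by rwa [ringChar.eq K p]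
  haveI : CharP F p := RingHom.charP ι ι.injective p
  have hcharF : ringChar F ≠ 2 := by rwa [ringChar.eq F p]
  have hqodd : q % 2 = 1 := hF ▸ FiniteField.odd_card_of_char_ne_two hcharF
  obtain ⟨n, hn⟩ : ∃ n, q = 2 * n + 1 := ⟨q / 2, by omega⟩
  have hfrob : A.det ^ q = A.det := hF ▸ FiniteField.pow_card A.det
  obtain ⟨s, hs⟩ : IsSquare (ι A.det) := by
    rw [FiniteField.isSquare_iff hcharK hι0, hK, ← map_pow]
    have : q ^ 2 / 2 = (q - 1) * (n + 1) := by
      rw [hn, Nat.add_sub_cancel, show (2 * n + 1) ^ 2 = 1 + 2 * (2 * n * (n + 1)) by ring,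
        Nat.add_mul_div_left _ _ two_pos]
      simp
    rw [this, pow_mul, ← hF, FiniteField.pow_card_sub_one_eq_one _ hd0, one_pow, map_one]
  have hs0 : s ≠ 0 := by rintro rfl; rw [mul_zero] at hs; exact hι0 hs
  have hτι : ∀ x : F, τ (ι x) = ι x := fun x => by rw [hτ, ← map_pow, ← hF, FiniteField.pow_card]
  have hτs : τ s = -s := by
    have h1 : τ s * τ s = s * s := by rw [← map_mul, ← hs, hτι]
    rcases mul_self_eq_mul_self_iff.mp h1 with h | h
    · exfalso
      apply hns
      rw [FiniteField.isSquare_iff hcharF hd0, hF]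
      apply ι.injective
      rw [map_pow, map_one, hs, ← pow_two, ← pow_mul]
      rw [hτ, hn, pow_succ] at h
      have h' : s ^ (2 * n) = 1 := mul_right_cancel₀ hs0 (h.trans (one_mul s).symm)
      rwa [show q / 2 = n by omega]
    · exact h
  refine ⟨⟨s⁻¹ • A.map ι, ?_⟩, ?_, ?_⟩
  · rw [Matrix.det_smul, Fintype.card_fin, ← RingHom.mapMatrix_apply, ← RingHom.map_det, hs, inv_pow, pow_two,
      inv_mul_cancel₀ (mul_ne_zero hs0 hs0)]
  · ext i j
    change τ (s⁻¹ * ι (A i j)) = -(s⁻¹ * ι (A i j))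
    rw [map_mul, map_inv₀, hτs, hτι, inv_neg, neg_mul]
  · intro k hk
    obtain ⟨r, hr⟩ := (CfsgLib.KnownC.PSLOrders.mk_pow_eq_one_iff _ k).mp hk
    refine hA k ⟨(A ^ k) 0 0, ?_⟩
    change (s⁻¹ • A.map ι) ^ k = r • 1 at hr
    rw [_root_.smul_pow, ← RingHom.mapMatrix_apply, ← map_pow, RingHom.mapMatrix_apply] at hr
    apply Matrix.map_injective ι.injective
    change (A ^ k).map ι = ((A ^ k) 0 0 • (1 : Matrix (Fin 2) (Fin 2) F)).map ι
    have hAk : (A ^ k).map ι = (s ^ k * r) • 1 := by
      rw [mul_smul, ← hr, smul_smul, ← mul_pow, mul_inv_cancel₀ hs0, one_pow, one_smul]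
    have h00 : ι ((A ^ k) 0 0) = s ^ k * r := by
      have := congrFun (congrFun hAk 0) 0
      simpa using this
    rw [hAk]
    ext i j
    simp [Matrix.one_apply, apply_ite ι, h00]

theorem odd_witness {F : Type*} [Field F] [Fintype F] [Algebra F K] (e : ℕ) (he : 1 ≤ e) (h5 : 5 ≤ p)
    (hF : Fintype.card F = p ^ e) (hK : Fintype.card K = (p ^ e) ^ 2)
    (hτ : ∀ x : K, iterateFrobenius K p e (iterateFrobenius K p e x) = x) (n : ℕ)
    (hn : n = unipExp p ∨ n = p * (p ^ e - 1) ∨ n = p * (p ^ e + 1) ∨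
      n = ((p ^ e) ^ 2 - 1) / Nat.gcd 2 (p ^ e - 1) ∨ n = ((p ^ e) ^ 2 + 1) / Nat.gcd 2 (p ^ e - 1)) :
    ∃ x : AffineGroup.Aff (oddAct (iterateFrobenius K p e) hτ), n ∣ orderOf x := by
  classical
  set τ := iterateFrobenius K p e
  set q := p ^ e with hqdef
  have hp := (Fact.out : p.Prime)
  haveI : CharP F p := RingHom.charP (algebraMap F K) (algebraMap F K).injective p
  have hcharF : ringChar F ≠ 2 := by rw [ringChar.eq F p]; omega
  have hq : 2 ≤ q := le_trans hp.two_le (Nat.le_self_pow (by omega) p)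
  have hqodd : q % 2 = 1 := Nat.odd_iff.mp (hp.odd_of_ne_two (by omega)).pow
  have hgcd : Nat.gcd 2 (q - 1) = 2 := Nat.gcd_eq_left (by omega)
  have hun : unipExp p = p := by unfold unipExp; split_ifs with h h <;> omega
  have hpq : p ∣ q := dvd_pow_self p (by omega)
  have hpw : ∀ w : Fin 2 × Fin 2 → K, p • w = 0 := fun w => by funext i; simp [CharP.cast_eq_zero]
  have hinner : ∀ g : SL2, orderOf (QuotientGroup.mk g : P2) ∣
      orderOf (AffineGroup.elt (oddAct τ hτ) 0 (SemidirectProduct.inl (QuotientGroup.mk g : P2))) := by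
    intro g
    rw [← orderOf_injective (SemidirectProduct.inl : P2 →* PTwo τ hτ) SemidirectProduct.inl_injective]
    exact AffineGroup.dvd_orderOf _ _ _
  have hhalf : ∀ (g : SL2) (N : ℕ), (∀ k, g ^ k = 1 → 2 * N ∣ k) → N ∣ orderOf (QuotientGroup.mk g : P2) := by
    intro g N hg
    obtain ⟨r, hr⟩ := (CfsgLib.KnownC.PSLOrders.mk_pow_eq_one_iff g _).mp (pow_orderOf_eq_one (QuotientGroup.mk g : P2))
    apply Nat.dvd_of_mul_dvd_mul_left two_pos
    apply hg
    apply Subtype.ext
    have hr2 : r * r = 1 := by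
      have := congrArg Matrix.det hr
      rw [Matrix.det_pow, g.2, one_pow, Matrix.det_smul, Fintype.card_fin, Matrix.det_one, mul_one, pow_two] at this
      exact this.symm
    rw [Matrix.SpecialLinearGroup.coe_pow, mul_comm, pow_mul, hr, _root_.smul_pow, one_pow, pow_two, hr2, one_smul,
      Matrix.SpecialLinearGroup.coe_one]
  have outer : ∀ (A : Matrix (Fin 2) (Fin 2) F) (m : ℕ), ¬ IsSquare A.det → (∀ k, (∃ c : F, A ^ k = c • 1) → m ∣ k) →
      2 ∣ m → Nat.Coprime p m → ∃ x : AffineGroup.Aff (oddAct τ hτ), p * m ∣ orderOf x := by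
    intro A m hns hA hm2 hcop
    obtain ⟨g, hneg, hg⟩ := exists_negated (p := p) hF hK (by omega) τ (fun x => iterateFrobenius_def (R := K) p e x) A hns m hA
    set y : PTwo τ hτ := ⟨QuotientGroup.mk g, Multiplicative.ofAdd 1⟩ with hy
    let v : Fin 2 × Fin 2 → K := fun i => if i = (0, 1) then 1 else if i = (1, 0) then -1 else 0
    have hv : oddAct τ hτ y v = v := by
      change (pslRep τ (QuotientGroup.mk g : P2) * (if (Multiplicative.ofAdd (1 : ZMod 2)) = 1 then 1 else swapMat K)) *ᵥ v = v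
      rw [if_neg (by decide), pslRep_mk, ← Matrix.mulVec_mulVec]
      have hsv : swapMat K *ᵥ v = -v := by
        funext i
        obtain ⟨i1, i2⟩ := i
        rw [swapMat_mulVec]
        fin_cases i1 <;> fin_cases i2 <;> simp [v]
      have hent : ∀ i j, τ ((g : Matrix (Fin 2) (Fin 2) K) i j) = -(g : Matrix (Fin 2) (Fin 2) K) i j :=
        fun i j => congrFun (congrFun hneg i) j
      have hdet := g.2
      rw [Matrix.det_fin_two] at hdet
      rw [hsv, Matrix.mulVec_neg]
      funext i
      obtain ⟨i1, i2⟩ := i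
      simp only [Pi.neg_apply, Matrix.mulVec, dotProduct, twoRep_apply, hent, Fintype.sum_prod_type, Fin.sum_univ_two, v]
      fin_cases i1 <;> fin_cases i2 <;> simp
      · ring
      · linear_combination hdet
      · linear_combination -hdet
      · ring
    have hord : m ∣ orderOf y := by
      have hy2 : y ^ 2 = SemidirectProduct.inl (QuotientGroup.mk (g * g) : P2) := by
        rw [pow_two, hy, SemidirectProduct.mul_def]
        refine SemidirectProduct.ext ?_ ?_
        · have h1 := twoHom_one τ hτ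
          simp only [h1, pslAut_mk]
          change (QuotientGroup.mk g : P2) * QuotientGroup.mk (entryMap τ g) = QuotientGroup.mk (g * g)
          rw [← QuotientGroup.mk_mul, QuotientGroup.eq]
          refine CfsgLib.KnownC.PSLOrders.mem_center_of_eq_smul_one (t := -1) ?_
          have hgg : ((g * entryMap τ g : SL2) : Matrix (Fin 2) (Fin 2) K) = (-1 : K) • ((g * g : SL2) : Matrix (Fin 2) (Fin 2) K) := by
            rw [Matrix.SpecialLinearGroup.coe_mul, hneg, Matrix.SpecialLinearGroup.coe_mul, neg_one_smul, mul_neg]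
          have hgg' : ((g * g : SL2) : Matrix (Fin 2) (Fin 2) K) = (-1 : K) • ((g * entryMap τ g : SL2) : Matrix (Fin 2) (Fin 2) K) := by
            rw [hgg, smul_smul, neg_one_mul, neg_neg, one_smul]
          rw [Matrix.SpecialLinearGroup.coe_mul, hgg', Matrix.mul_smul, ← Matrix.SpecialLinearGroup.coe_mul,
            inv_mul_cancel, Matrix.SpecialLinearGroup.coe_one]
        · simp only [SemidirectProduct.right_inl]
          decide
      have h1 := pow_orderOf_eq_one y
      have heven : 2 ∣ orderOf y := by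
        have := orderOf_map_dvd (SemidirectProduct.rightHom : PTwo τ hτ →* _) y
        rwa [show orderOf ((SemidirectProduct.rightHom : PTwo τ hτ →* _) y) = 2 from
          orderOf_eq_prime (x := Multiplicative.ofAdd (1 : ZMod 2)) (by decide) (by decide)] at this
      obtain ⟨k, hk⟩ := heven
      rw [hk, pow_mul, hy2, ← map_pow, map_eq_one_iff _ SemidirectProduct.inl_injective] at h1
      rw [QuotientGroup.mk_mul, ← pow_two, ← pow_mul] at h1
      rw [hk]
      exact hg _ h1
    refine ⟨_, AffineGroup.mul_dvd_orderOf_of_fixed (oddAct τ hτ) hpw y hv ?_ hord hcop⟩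
    intro h
    have := congrFun h (0, 1)
    simp [v] at this
  have hcop : ∀ m, (m = q - 1 ∨ m = q + 1) → Nat.Coprime p m := by
    intro m hm
    refine hp.coprime_iff_not_dvd.mpr fun h => hp.not_dvd_one ?_
    rcases hm with rfl | rfl
    · have := Nat.dvd_sub hpq h
      rwa [Nat.sub_sub_self (by omega)] at this
    · exact (Nat.dvd_add_right hpq).mp h
  rcases hn with rfl | rfl | rfl | rfl | rfl
  · refine ⟨_, dvd_trans (dvd_of_eq ?_) (hinner (SLTwoElements.transv K))⟩
    rw [hun]
    symm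
    refine orderOf_eq_prime ?_ ?_
    · rw [CfsgLib.KnownC.PSLOrders.mk_pow_eq_one_iff]
      refine ⟨1, ?_⟩
      rw [← Matrix.SpecialLinearGroup.coe_pow, SLTwoElements.transv_pow, CharP.cast_eq_zero, one_smul, Matrix.one_fin_two]
    · intro h
      rw [← pow_one (QuotientGroup.mk _), CfsgLib.KnownC.PSLOrders.mk_pow_eq_one_iff] at h
      obtain ⟨r, hr⟩ := h
      have := congrFun (congrFun hr 0) 1
      simp [SLTwoElements.transv] at this
  · obtain ⟨ζ, hζ, -⟩ := SLTwoElements.exists_minus F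
    rw [Nat.card_eq_fintype_card, hF] at hζ
    refine outer (Matrix.diagonal ![(ζ : F), 1]) (q - 1) ?_ ?_ ⟨(q - 1) / 2, by omega⟩ (hcop _ (Or.inl rfl))
    · rw [Matrix.det_diagonal, Fin.prod_univ_two]
      simp only [Matrix.cons_val_zero, Matrix.cons_val_one, Matrix.head_cons, mul_one]
      rw [FiniteField.isSquare_iff hcharF ζ.ne_zero, hF, ← Units.val_pow_eq_pow_val, Units.val_eq_one]
      exact pow_ne_one_of_lt_orderOf (by omega) (by omega)
    · rintro k ⟨c, hc⟩
      rw [Matrix.diagonal_pow] at hc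
      have h0 := congrFun (congrFun hc 0) 0
      have h1 := congrFun (congrFun hc 1) 1
      simp at h0 h1
      rw [← hζ]
      apply orderOf_dvd_of_pow_eq_one
      apply Units.ext
      rw [Units.val_pow_eq_pow_val, Units.val_one, h0, ← h1]
  · obtain ⟨A, hA⟩ := TwoByTwo.exists_singer p (F := F)
    rw [hF] at hA
    have hA0 : (A : Matrix (Fin 2) (Fin 2) F).det ≠ 0 := ((Matrix.isUnit_iff_isUnit_det _).mp A.isUnit).ne_zero
    have hmul : q ^ 2 - 1 = (q + 1) * (q - 1) := by rw [← Nat.sq_sub_sq, one_pow]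
    have hscal : ∀ k (c : F), (A : Matrix (Fin 2) (Fin 2) F) ^ k = c • 1 → c ≠ 0 := by
      rintro k c hc rfl
      have := congrArg Matrix.det hc
      rw [Matrix.det_pow, zero_smul, Matrix.det_zero] at this
      exact hA0 (pow_eq_zero_iff'.mp this).1
    refine outer (A : Matrix (Fin 2) (Fin 2) F) (q + 1) ?_ ?_ ⟨(q + 1) / 2, by omega⟩ (hcop _ (Or.inr rfl))
    · rw [FiniteField.isSquare_iff hcharF hA0, hF]
      intro hsq
      obtain ⟨m, hm, c, hc⟩ := TwoByTwo.pow_scalar_cases p (by omega) (A : Matrix (Fin 2) (Fin 2) F) hA0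
      have hc0 := hscal m c hc
      have hdetc : (A : Matrix (Fin 2) (Fin 2) F).det ^ m = c ^ 2 := by
        have := congrArg Matrix.det hc
        rwa [Matrix.det_pow, Matrix.det_smul, Fintype.card_fin, Matrix.det_one, mul_one] at this
      rw [hF] at hm
      have h1 : A ^ (m * (q - 1)) = 1 := by
        apply Units.ext
        rw [Units.val_pow_eq_pow_val, pow_mul, hc, _root_.smul_pow, one_pow, ← hF,
          FiniteField.pow_card_sub_one_eq_one c hc0, one_smul, Units.val_one]
      have h2 := orderOf_dvd_of_pow_eq_one h1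
      rw [hA, hmul] at h2
      have h3 : q + 1 ∣ m := Nat.dvd_of_mul_dvd_mul_right (by omega) h2
      have hmq : m = q + 1 := by
        rcases hm with rfl | rfl | rfl
        · have := Nat.le_of_dvd hp.pos h3
          have := Nat.le_of_dvd (by omega) hpq
          omega
        · have := Nat.le_of_dvd (by omega) h3
          omega
        · rfl
      subst hmq
      have hdd : c = (A : Matrix (Fin 2) (Fin 2) F).det := by
        by_cases hd : TwoByTwo.disc (A : Matrix (Fin 2) (Fin 2) F) = 0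
        · exfalso
          have hc' := TwoByTwo.pow_char_of_disc_zero p (by omega) _ hd
          have h4 : A ^ (p * (q - 1)) = 1 := by
            apply Units.ext
            rw [Units.val_pow_eq_pow_val, pow_mul, hc', _root_.smul_pow, one_pow, ← hF,
              FiniteField.pow_card_sub_one_eq_one _ (hscal p _ hc'), one_smul, Units.val_one]
          have h5 := orderOf_dvd_of_pow_eq_one h4
          rw [hA, hmul] at h5
          have := Nat.le_of_dvd hp.pos (Nat.dvd_of_mul_dvd_mul_right (by omega) h5)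
          have := Nat.le_of_dvd (by omega) hpq
          omega
        rcases TwoByTwo.pow_card_cases p (by omega) _ hd with h4 | h4 <;> rw [hF] at h4
        · exfalso
          have h5 : A ^ (q - 1) = 1 := by
            apply mul_right_cancel (b := A)
            rw [one_mul, ← pow_succ, Nat.sub_add_cancel (by omega)]
            exact Units.ext (by rw [Units.val_pow_eq_pow_val, h4])
          have h6 := Nat.le_of_dvd (by omega) (orderOf_dvd_of_pow_eq_one h5)
          rw [hA, hmul] at h6
          nlinarith [Nat.sub_add_cancel (show 1 ≤ q by omega)]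
        · have := congrFun (congrFun (hc.symm.trans h4) 0) 0
          simpa using this
      have h7 : A ^ ((q + 1) * (q / 2)) = 1 := by
        apply Units.ext
        rw [Units.val_pow_eq_pow_val, pow_mul, hc, _root_.smul_pow, one_pow, hdd, hsq, one_smul, Units.val_one]
      have h8 := Nat.le_of_dvd (Nat.mul_pos (by omega) (by omega)) (orderOf_dvd_of_pow_eq_one h7)
      rw [hA, hmul] at h8
      have := Nat.le_of_mul_le_mul_left h8 (by omega)
      omega
    · rintro k ⟨c, hc⟩
      have h1 : A ^ (k * (q - 1)) = 1 := by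
        apply Units.ext
        rw [Units.val_pow_eq_pow_val, pow_mul, hc, _root_.smul_pow, one_pow, ← hF,
          FiniteField.pow_card_sub_one_eq_one c (hscal k c hc), one_smul, Units.val_one]
      have h2 := orderOf_dvd_of_pow_eq_one h1
      rw [hA, hmul] at h2
      exact Nat.dvd_of_mul_dvd_mul_right (by omega) h2
  · obtain ⟨ζ, -, hζ⟩ := SLTwoElements.exists_minus K
    rw [Nat.card_eq_fintype_card, hK] at hζ
    refine ⟨_, (hhalf (SLTwoElements.diag K ζ) _ fun k hk => ?_).trans (hinner _)⟩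
    rw [hgcd, Nat.mul_div_cancel' ⟨(q ^ 2 - 1) / 2, by
      have : q ^ 2 % 2 = 1 := Nat.odd_iff.mp (Nat.odd_iff.mpr hqodd).pow
      omega⟩]
    exact hζ k hk
  · obtain ⟨g, hg⟩ := SLTwoElements.exists_plus K p
    rw [hK] at hg
    refine ⟨_, (hhalf _ _ fun k hk => ?_).trans (hinner g)⟩
    rw [hgcd, Nat.mul_div_cancel' ⟨(q ^ 2 + 1) / 2, by
      have : q ^ 2 % 2 = 1 := Nat.odd_iff.mp (Nat.odd_iff.mpr hqodd).pow
      omega⟩]
    exact hg k hk

end CfsgLib.Recognition.SpFourGroups
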