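import Mathlib
import Cfsg.Agent.Lib.Recognition.SpFourEven

/-!
A group of shape `3⁴ : S₅` with the element orders `1, 2, 3, 4, 5, 6, 9, 12` of `PSp₄(3)`.
-/

namespace CfsgLib.Recognition.SpFourSmall

open SpFourSpectrum SpFourGroups

/-- Vectors with vanishing sum. -/
def W : AddSubgroup (Fin 5 → ZMod 3) where
  carrier := {v | ∑ i, v i = 0}
  zero_mem' := by simp
  add_mem' := fun {a b} ha hb => by
    simp only [Set.mem_ofPred_eq] at ha hb ⊢
    simp [Finset.sum_add_distrib, ha, hb]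
  neg_mem' := fun {a} ha => by
    simp only [Set.mem_ofPred_eq] at ha ⊢
    simp [Finset.sum_neg_distrib, ha]

/-- The sign as a residue modulo 3. -/
def sgn (π : Equiv.Perm (Fin 5)) : ZMod 3 := ((Equiv.Perm.sign π : ℤ) : ZMod 3)

/-- The twisted permutation action. -/
def act : Equiv.Perm (Fin 5) →* AddMonoid.End W where
  toFun π :=
    { toFun := fun w => ⟨fun i => sgn π * w.1 (π⁻¹ i), by
        show ∑ i, sgn π * w.1 (π⁻¹ i) = 0
        rw [← Finset.mul_sum, Equiv.sum_comp π⁻¹ w.1, w.2, mul_zero]⟩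
      map_zero' := Subtype.ext (funext fun i => mul_zero _)
      map_add' := fun a b => Subtype.ext (funext fun i => mul_add _ _ _) }
  map_one' := AddMonoidHom.ext fun w => Subtype.ext (funext fun i => by
    show sgn 1 * w.1 ((1 : Equiv.Perm (Fin 5))⁻¹ i) = w.1 i
    simp [sgn])
  map_mul' π ρ := AddMonoidHom.ext fun w => Subtype.ext (funext fun i => by
    show sgn (π * ρ) * w.1 ((π * ρ)⁻¹ i) = sgn π * (sgn ρ * w.1 (ρ⁻¹ (π⁻¹ i)))
    rw [← mul_assoc]
    simp [sgn, Equiv.Perm.sign_mul, mul_inv_rev])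

theorem act_apply (π : Equiv.Perm (Fin 5)) (w : W) (i : Fin 5) : (act π w).1 i = sgn π * w.1 (π⁻¹ i) := rfl

theorem pow_apply (π : Equiv.Perm (Fin 5)) (w : W) (j : ℕ) (i : Fin 5) :
    ((act π ^ j) w).1 i = sgn (π ^ j) * w.1 ((π ^ j)⁻¹ i) := by
  rw [← map_pow]; rfl

theorem sum_apply (π : Equiv.Perm (Fin 5)) (w : W) (n : ℕ) (i : Fin 5) :
    ((∑ j ∈ Finset.range n, act π ^ j) w).1 i = ∑ j ∈ Finset.range n, sgn (π ^ j) * w.1 ((π ^ j)⁻¹ i) := by
  induction n with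
  | zero => rfl
  | succ n ih =>
    rw [Finset.sum_range_succ, Finset.sum_range_succ, ← ih, ← pow_apply]
    rfl

set_option maxRecDepth 100000 in
theorem perm_check : ∀ π : Equiv.Perm (Fin 5), π ^ 3 = 1 ∨ π ^ 4 = 1 ∨
    (π ^ 5 = 1 ∧ ∀ i k : Fin 5, (∑ j ∈ Finset.range 5, if (π ^ j)⁻¹ i = k then sgn (π ^ j) else 0) = 1) ∨
    (π ^ 6 = 1 ∧ ∀ i k : Fin 5, (∑ j ∈ Finset.range 6, if (π ^ j)⁻¹ i = k then sgn (π ^ j) else 0) = 0) := by
  decide +kernel

theorem sum_eq (π : Equiv.Perm (Fin 5)) (w : W) (n : ℕ) (c : ZMod 3)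
    (h : ∀ i k : Fin 5, (∑ j ∈ Finset.range n, if (π ^ j)⁻¹ i = k then sgn (π ^ j) else 0) = c) :
    (∑ j ∈ Finset.range n, act π ^ j) w = 0 := by
  apply Subtype.ext
  funext i
  rw [sum_apply]
  have : ∀ j, sgn (π ^ j) * w.1 ((π ^ j)⁻¹ i) = ∑ k, (if (π ^ j)⁻¹ i = k then sgn (π ^ j) else 0) * w.1 k := by
    intro j
    rw [Finset.sum_eq_single ((π ^ j)⁻¹ i)]
    · rw [if_pos rfl]
    · intro b _ hb; rw [if_neg (Ne.symm hb), zero_mul]
    · simp
  rw [Finset.sum_congr rfl fun j _ => this j, Finset.sum_comm]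
  simp only [← Finset.sum_mul, h, ← Finset.mul_sum]
  rw [show ∑ k, w.1 k = 0 from w.2, mul_zero]
  rfl

theorem three_smul_eq_zero (w : W) : 3 • w = 0 := by
  apply Subtype.ext
  funext i
  show 3 • w.1 i = 0
  rw [nsmul_eq_mul, show ((3 : ℕ) : ZMod 3) = 0 from ZMod.natCast_self 3, zero_mul]

/-- A vector fixed by a four-cycle. -/
def vecFour : W := ⟨![1, 2, 1, 2, 0], by show ∑ i, (![1, 2, 1, 2, 0] : Fin 5 → ZMod 3) i = 0; decide⟩

/-- A vector moved by a three-cycle. -/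
def vecThree : W := ⟨![1, 0, 0, 2, 0], by show ∑ i, (![1, 0, 0, 2, 0] : Fin 5 → ZMod 3) i = 0; decide⟩

theorem vecFour_ne : vecFour.1 0 ≠ 0 := by decide

theorem vecThree_sum :
    (∑ j ∈ Finset.range 3, sgn ((Equiv.swap 0 1 * Equiv.swap 1 2 : Equiv.Perm (Fin 5)) ^ j) *
      vecThree.1 (((Equiv.swap 0 1 * Equiv.swap 1 2 : Equiv.Perm (Fin 5)) ^ j)⁻¹ 0)) ≠ 0 := by decide

theorem realises : Realises 3 3 (AffineGroup.Aff act) := by
  haveI : Fact (Nat.Prime 3) := ⟨Nat.prime_three⟩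
  refine ⟨fun x => ?_, ?_⟩
  · obtain ⟨w, π, rfl⟩ := AffineGroup.exists_elt _ x
    rcases perm_check π with h | h | ⟨h, hs⟩ | ⟨h, hs⟩
    · exact Or.inl (orderOf_dvd_of_pow_eq_one (AffineGroup.pow_mul_eq_one act three_smul_eq_zero w π h))
    · exact Or.inr (Or.inr (Or.inl (orderOf_dvd_of_pow_eq_one (n := 3 * (3 + 1))
        (AffineGroup.pow_mul_eq_one act three_smul_eq_zero w π h))))
    · exact Or.inr (Or.inr (Or.inr (Or.inr (orderOf_dvd_of_pow_eq_one (n := (3 ^ 2 + 1) / Nat.gcd 2 (3 - 1))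
        (AffineGroup.pow_eq_one act w π h (sum_eq π w 5 1 hs))))))
    · exact Or.inr (Or.inl (orderOf_dvd_of_pow_eq_one (n := 3 * (3 - 1))
        (AffineGroup.pow_eq_one act w π h (sum_eq π w 6 0 hs))))
  · let c4 : Equiv.Perm (Fin 5) := Equiv.swap 0 1 * Equiv.swap 1 2 * Equiv.swap 2 3
    let c3 : Equiv.Perm (Fin 5) := Equiv.swap 0 1 * Equiv.swap 1 2
    let c5 : Equiv.Perm (Fin 5) := Equiv.swap 0 1 * Equiv.swap 1 2 * Equiv.swap 2 3 * Equiv.swap 3 4
    have h2 : Fact (Nat.Prime 2) := ⟨Nat.prime_two⟩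
    have h4 : orderOf c4 = 2 ^ (1 + 1) := orderOf_eq_prime_pow (by decide) (by decide)
    let v : W := vecFour
    have hv : act c4 v = v := by
      apply Subtype.ext
      funext i
      rw [act_apply]
      revert i
      decide
    have h12 : ∃ x : AffineGroup.Aff act, 12 ∣ orderOf x := by
      refine ⟨_, AffineGroup.mul_dvd_orderOf_of_fixed act three_smul_eq_zero c4 hv ?_ (n := 4) ?_ (by norm_num)⟩
      · intro h
        exact vecFour_ne (congrFun (congrArg Subtype.val h) 0)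
      · rw [h4]; norm_num
    have h6 : ∃ x : AffineGroup.Aff act, 6 ∣ orderOf x := by
      obtain ⟨x, hx⟩ := h12
      exact ⟨x, dvd_trans (by norm_num) hx⟩
    have h5 : ∃ x : AffineGroup.Aff act, 5 ∣ orderOf x := by
      haveI : Fact (Nat.Prime 5) := ⟨by norm_num⟩
      refine ⟨AffineGroup.elt act 0 c5, ?_⟩
      have h : orderOf c5 = 5 := orderOf_eq_prime (by decide) (by decide)
      exact (dvd_of_eq h.symm).trans (AffineGroup.dvd_orderOf act 0 c5)
    rintro n (rfl | rfl | rfl | rfl | rfl)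
    · let u : W := vecThree
      refine ⟨AffineGroup.elt act u c3, ?_⟩
      rw [show unipExp 3 = 3 ^ (1 + 1) by simp [unipExp],
        orderOf_eq_prime_pow (p := 3) (n := 1) ?_ (AffineGroup.pow_mul_eq_one act three_smul_eq_zero u c3
          (show c3 ^ 3 = 1 by decide))]
      rw [pow_one, AffineGroup.pow_eq]
      intro h
      have h' : ((∑ j ∈ Finset.range 3, act c3 ^ j) u).1 0 = 0 :=
        congrArg (fun x : AffineGroup.Aff act => x.left.toAdd.1 (0 : Fin 5)) h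
      rw [sum_apply] at h'
      exact vecThree_sum h'
    · exact h6
    · exact h12
    · obtain ⟨x, hx⟩ := h12
      exact ⟨x, dvd_trans (by norm_num) hx⟩
    · exact h5

end CfsgLib.Recognition.SpFourSmall
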