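import Mathlib
import Cfsg.Agent.Lib.Recognition.SpFourOdd

/-!
The affine group of `L₂(q²)` on a sixteen-dimensional twisted tensor product: element orders of
`PSp₄(q)` for `q` an even power of 3.
-/

namespace CfsgLib.Recognition.SpFourGroups

open Matrix TwistedTensor SpFourSpectrum
open scoped Kronecker

variable {K : Type*} [Field K] [CharP K 3]

local notation "SL2" => Matrix.SpecialLinearGroup (Fin 2) K
local notation "P2" => Matrix.ProjectiveSpecialLinearGroup (Fin 2) K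
local notation "I4" => (Fin 2 × Fin 2) × (Fin 2 × Fin 2)

/-- The four-fold twisted tensor product. -/
def fourRep (σ τ : K →+* K) : SL2 →* Matrix I4 I4 K where
  toFun g := ((g : Matrix (Fin 2) (Fin 2) K) ⊗ₖ (g : Matrix (Fin 2) (Fin 2) K).map σ) ⊗ₖ
    ((g : Matrix (Fin 2) (Fin 2) K).map τ ⊗ₖ (g : Matrix (Fin 2) (Fin 2) K).map τ)
  map_one' := by
    rw [Matrix.SpecialLinearGroup.coe_one, Matrix.map_one σ (map_zero σ) (map_one σ),
      Matrix.map_one τ (map_zero τ) (map_one τ), Matrix.one_kronecker_one, Matrix.one_kronecker_one]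
  map_mul' g h := by
    rw [Matrix.SpecialLinearGroup.coe_mul, Matrix.map_mul, Matrix.map_mul, Matrix.mul_kronecker_mul,
      Matrix.mul_kronecker_mul, Matrix.mul_kronecker_mul]

theorem fourRep_apply (σ τ : K →+* K) (g : SL2) (i j : I4) :
    fourRep σ τ g i j = (g : Matrix (Fin 2) (Fin 2) K) i.1.1 j.1.1 * σ ((g : Matrix (Fin 2) (Fin 2) K) i.1.2 j.1.2) *
      (τ ((g : Matrix (Fin 2) (Fin 2) K) i.2.1 j.2.1) * τ ((g : Matrix (Fin 2) (Fin 2) K) i.2.2 j.2.2)) := rfl

theorem fourRep_central (σ τ : K →+* K) (g : SL2) (hg : g ∈ Subgroup.center SL2) : fourRep σ τ g = 1 := by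
  obtain ⟨r, hr, h⟩ := CfsgLib.KnownC.PSLOrders.eq_smul_one_of_mem_center hg
  rw [pow_two] at hr
  ext ⟨⟨i1, i2⟩, ⟨i3, i4⟩⟩ ⟨⟨j1, j2⟩, ⟨j3, j4⟩⟩
  rw [fourRep_apply, h]
  rcases mul_self_eq_one_iff.mp hr with rfl | rfl <;>
    by_cases h1 : i1 = j1 <;> by_cases h2 : i2 = j2 <;> by_cases h3 : i3 = j3 <;> by_cases h4 : i4 = j4 <;>
    simp [Matrix.one_apply, h1, h2, h3, h4]

/-- The representation of `PSL₂`. -/
def fourPsl (σ τ : K →+* K) : P2 →* Matrix I4 I4 K :=
  QuotientGroup.lift _ (fourRep σ τ) fun g hg => fourRep_central σ τ g hg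

/-- The affine action. -/
def threeAct (σ τ : K →+* K) : P2 →* AddMonoid.End (I4 → K) :=
  (mulVecEnd (K := K) (n := I4)).toMonoidHom.comp (fourPsl σ τ)

theorem nine_pow_mod_five (m : ℕ) : 9 ^ m % 5 = 1 ∨ 9 ^ m % 5 = 4 := by
  induction m with
  | zero => exact Or.inl rfl
  | succ m ih => rw [pow_succ, Nat.mul_mod]; rcases ih with h | h <;> rw [h] <;> norm_num

omit [CharP K 3] in
theorem eq_one_of_pow_three {L : Type*} [Field L] [CharP L 3] {u : L} (h : u ^ 3 = 1) : u = 1 := by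
  haveI : Fact (Nat.Prime 3) := ⟨Nat.prime_three⟩
  have h2 : (u - 1) ^ 3 = 0 := by rw [sub_pow_char, h, one_pow, sub_self]
  exact sub_eq_zero.mp (pow_eq_zero_iff'.mp h2).1

/-- The arithmetic of the weights. -/
theorem weight_cases {L : Type*} [Field L] [CharP L 3] (m : ℕ) (u : L) (hu : u ≠ 0)
    (hQ : u ^ ((9 ^ m) * (9 ^ m)) = u ∨ u ^ ((9 ^ m) * (9 ^ m)) = u⁻¹) {U V : L}
    (hU : U = u ^ 2 ∨ U = (u ^ 2)⁻¹ ∨ U = u ∨ U = u⁻¹) (hV : V = u ^ (9 ^ m) ∨ V = (u ^ (9 ^ m))⁻¹ ∨ V = 1)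
    (h : U * V = 1) : u ^ (9 ^ m - 1) = 1 ∨ u ^ (9 ^ m + 1) = 1 := by
  set q := 9 ^ m with hq
  have hq1 : 1 ≤ q := Nat.one_le_pow _ _ (by norm_num)
  have hqodd : Odd q := (show Odd 9 by decide).pow
  obtain ⟨U, hU, h⟩ : ∃ U', (U' = u ^ 2 ∨ U' = (u ^ 2)⁻¹ ∨ U' = u ∨ U' = u⁻¹) ∧ (u ^ q = U' ∨ U' = 1) := by
    rcases hV with rfl | rfl | rfl
    · refine ⟨U⁻¹, ?_, Or.inl (inv_eq_of_mul_eq_one_right h).symm⟩
      rcases hU with rfl | rfl | rfl | rfl <;> simp
    · exact ⟨U, hU, Or.inl ((mul_inv_eq_one₀ (pow_ne_zero _ hu)).mp h).symm⟩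
    · exact ⟨U, hU, Or.inr (by rwa [mul_one] at h)⟩
  have hone : u = 1 → u ^ (q - 1) = 1 ∨ u ^ (q + 1) = 1 := fun h1 => Or.inl (by rw [h1, one_pow])
  rcases h with h | h
  · rcases hU with rfl | rfl | rfl | rfl
    rotate_left 2
    · exact Or.inl ((SpFourSpectrum.pow_inv_cases hu hq1).1 h)
    · exact Or.inr ((SpFourSpectrum.pow_inv_cases hu hq1).2 h)
    all_goals
      have h4 : u ^ (q * q) = u ^ 4 := by
        rw [pow_mul, h]
        try rw [inv_pow]
        rw [← pow_mul, mul_comm 2 q, pow_mul, h]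
        try rw [inv_pow, inv_inv]
        rw [← pow_mul]
      rw [h4] at hQ
      apply hone
      rcases hQ with h5 | h5
      · exact eq_one_of_pow_three (mul_right_cancel₀ hu (by rw [← pow_succ, one_mul]; exact h5))
      have h6 : u ^ 5 = 1 := by rw [pow_succ, h5, inv_mul_cancel₀ hu]
      have hmod : u ^ q = u ^ (q % 5) := by
        conv_lhs => rw [← Nat.mod_add_div q 5]
        rw [pow_add, pow_mul, h6, one_pow, mul_one]
      rw [hmod] at h
      rcases nine_pow_mod_five m with hm | hm <;> rw [← hq] at hm <;> rw [hm] at h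
    · rw [pow_one, pow_two] at h
      exact mul_left_cancel₀ hu (by rw [mul_one]; exact h.symm)
    · have h7 : u ^ 2 = 1 := mul_left_cancel₀ (pow_ne_zero 2 hu) (by rw [mul_one, ← pow_add]; exact h)
      rw [show (5 : ℕ) = 2 * 2 + 1 by norm_num, pow_succ, pow_mul, h7, one_pow, one_mul] at h6
      exact h6
    · apply eq_one_of_pow_three
      rw [pow_one] at h
      rw [pow_succ]
      conv_lhs => arg 2; rw [h]
      exact mul_inv_cancel₀ (pow_ne_zero 2 hu)
    · have h8 : u ^ 6 = 1 := by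
        rw [show (6 : ℕ) = 4 + 2 by norm_num, pow_add, h, inv_mul_cancel₀ (pow_ne_zero 2 hu)]
      rw [pow_succ, h6, one_mul] at h8
      exact h8
  · have h2 : u ^ 2 = 1 := by
      rcases hU with rfl | rfl | rfl | rfl
      · exact h
      · exact inv_eq_one.mp h
      · rw [h, one_pow]
      · rw [inv_eq_one.mp h, one_pow]
    obtain ⟨k, hk⟩ := hqodd
    exact Or.inl (by rw [show q - 1 = 2 * k by omega, pow_mul, h2, one_pow])

variable [Fintype K]

theorem fourRep_fixed (m : ℕ) (hm : 1 ≤ m) (hK : Fintype.card K = (9 ^ m) ^ 2) (g : SL2)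
    (a : AlgebraicClosure K) (ha : a ≠ 0)
    (haQ : a ^ (Fintype.card K - 1) = 1 ∨ a ^ (Fintype.card K + 1) = 1)
    {P : Fin 2 → Matrix (Fin 2) (Fin 2) (AlgebraicClosure K)}
    (hP : Resolves ((g : Matrix (Fin 2) (Fin 2) K).map (algebraMap K (AlgebraicClosure K))) P ![a, a⁻¹])
    (hfix : ∃ v : I4 → K, fourRep (iterateFrobenius K 3 1) (iterateFrobenius K 3 (2 * m)) g *ᵥ v = v ∧ v ≠ 0) :
    a ^ (2 * (9 ^ m - 1)) = 1 ∨ a ^ (2 * (9 ^ m + 1)) = 1 := by
  obtain ⟨v, hv, hv0⟩ := hfix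
  haveI : Fact (Nat.Prime 3) := ⟨Nat.prime_three⟩
  set ι := algebraMap K (AlgebraicClosure K)
  haveI : CharP (AlgebraicClosure K) 3 := charP_of_injective_ringHom ι.injective 3
  have hmap : ∀ e, ((g : Matrix (Fin 2) (Fin 2) K).map ι).map (iterateFrobenius (AlgebraicClosure K) 3 e) =
      ((g : Matrix (Fin 2) (Fin 2) K).map (iterateFrobenius K 3 e)).map ι := by
    intro e
    ext i j
    simp [iterateFrobenius_def]
  have h2 := resolves_map (iterateFrobenius (AlgebraicClosure K) 3 1) hP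
  have h3 := resolves_map (iterateFrobenius (AlgebraicClosure K) 3 (2 * m)) hP
  rw [hmap] at h2 h3
  have h := resolves_kron (resolves_kron hP h2) (resolves_kron h3 h3)
  have hmap' : (fourRep (iterateFrobenius K 3 1) (iterateFrobenius K 3 (2 * m)) g).map ι =
      ((g : Matrix (Fin 2) (Fin 2) K).map ι ⊗ₖ ((g : Matrix (Fin 2) (Fin 2) K).map (iterateFrobenius K 3 1)).map ι) ⊗ₖ
      (((g : Matrix (Fin 2) (Fin 2) K).map (iterateFrobenius K 3 (2 * m))).map ι ⊗ₖ
        ((g : Matrix (Fin 2) (Fin 2) K).map (iterateFrobenius K 3 (2 * m))).map ι) := by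
    ext i j
    simp [fourRep]
  rw [← hmap'] at h
  obtain ⟨⟨⟨k1, k2⟩, ⟨k3, k4⟩⟩, hk⟩ := exists_weight_one ι h hv hv0
  simp only [iterateFrobenius_def, pow_one, show (3 : ℕ) ^ (2 * m) = 9 ^ m by rw [pow_mul]; norm_num] at hk
  set q := 9 ^ m
  have hU : ![a, a⁻¹] k1 * ![a, a⁻¹] k2 ^ 3 = (a ^ 2) ^ 2 ∨ ![a, a⁻¹] k1 * ![a, a⁻¹] k2 ^ 3 = ((a ^ 2) ^ 2)⁻¹ ∨
      ![a, a⁻¹] k1 * ![a, a⁻¹] k2 ^ 3 = a ^ 2 ∨ ![a, a⁻¹] k1 * ![a, a⁻¹] k2 ^ 3 = (a ^ 2)⁻¹ := by
    fin_cases k1 <;> fin_cases k2 <;> simp only [Fin.zero_eta, Fin.mk_one, Fin.isValue, Matrix.cons_val_zero,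
      Matrix.cons_val_one]
    · exact Or.inl (by ring)
    · exact Or.inr (Or.inr (Or.inr (by field_simp)))
    · exact Or.inr (Or.inr (Or.inl (by field_simp)))
    · exact Or.inr (Or.inl (by ring))
  have hV : ![a, a⁻¹] k3 ^ q * ![a, a⁻¹] k4 ^ q = (a ^ 2) ^ q ∨
      ![a, a⁻¹] k3 ^ q * ![a, a⁻¹] k4 ^ q = ((a ^ 2) ^ q)⁻¹ ∨ ![a, a⁻¹] k3 ^ q * ![a, a⁻¹] k4 ^ q = 1 := by
    fin_cases k3 <;> fin_cases k4 <;> simp only [Fin.zero_eta, Fin.mk_one, Fin.isValue, Matrix.cons_val_zero,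
      Matrix.cons_val_one, ← mul_pow]
    · exact Or.inl (by rw [← pow_two])
    · exact Or.inr (Or.inr (by rw [mul_inv_cancel₀ ha, one_pow]))
    · exact Or.inr (Or.inr (by rw [inv_mul_cancel₀ ha, one_pow]))
    · exact Or.inr (Or.inl (by rw [← pow_two, inv_pow, inv_pow]))
  have hQ : (a ^ 2) ^ (q * q) = a ^ 2 ∨ (a ^ 2) ^ (q * q) = (a ^ 2)⁻¹ := by
    rw [hK, pow_two q] at haQ
    have hpos : 1 ≤ q * q := Nat.one_le_iff_ne_zero.mpr (by positivity)
    rcases haQ with h' | h'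
    · left
      rw [← pow_mul, mul_comm, pow_mul]
      congr 1
      rw [show q * q = q * q - 1 + 1 by omega, pow_succ, h', one_mul]
    · right
      rw [← pow_mul, mul_comm, pow_mul, ← inv_pow]
      congr 1
      rw [pow_succ] at h'
      exact eq_inv_of_mul_eq_one_left h'
  have hres := weight_cases m (a ^ 2) (pow_ne_zero 2 ha) hQ hU hV hk
  simpa only [← pow_mul] using hres

theorem psl_dvd_orderOf (g : SL2) (N : ℕ) (hg : ∀ k, g ^ k = 1 → 2 * N ∣ k) :
    N ∣ orderOf (QuotientGroup.mk g : P2) := by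
  obtain ⟨r, hr⟩ := (CfsgLib.KnownC.PSLOrders.mk_pow_eq_one_iff g _).mp (pow_orderOf_eq_one (QuotientGroup.mk g : P2))
  apply Nat.dvd_of_mul_dvd_mul_left two_pos
  apply hg
  apply Subtype.ext
  have hr2 : r * r = 1 := by
    have := congrArg Matrix.det hr
    rw [Matrix.det_pow, g.2, one_pow, Matrix.det_smul, Fintype.card_fin, Matrix.det_one, mul_one, pow_two] at this
    exact this.symm
  rw [Matrix.SpecialLinearGroup.coe_pow, mul_comm, pow_mul, hr, _root_.smul_pow, one_pow, pow_two, hr2, one_smul,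
    Matrix.SpecialLinearGroup.coe_one]

theorem three_realises (m : ℕ) (hm : 1 ≤ m) (hK : Fintype.card K = (9 ^ m) ^ 2) :
    Realises 3 (9 ^ m)
      (AffineGroup.Aff (threeAct (iterateFrobenius K 3 1) (iterateFrobenius K 3 (2 * m)))) := by
  classical
  haveI : Fact (Nat.Prime 3) := ⟨Nat.prime_three⟩
  set σ := iterateFrobenius K 3 1 with hσ
  set τ := iterateFrobenius K 3 (2 * m) with hτ
  set q := 9 ^ m with hqdef
  have hq : 2 ≤ q := le_trans (by norm_num) (Nat.le_self_pow (by omega) 9)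
  have hqodd : q % 2 = 1 := Nat.odd_iff.mp (show Odd 9 by decide).pow
  have hgcd : Nat.gcd 2 (q - 1) = 2 := Nat.gcd_eq_left (by omega)
  have h3q : 3 ∣ q := dvd_trans (by norm_num) (dvd_pow_self 9 (show m ≠ 0 by omega))
  have h30' : (3 : K) = 0 := by exact_mod_cast CharP.cast_eq_zero K 3
  have h3 : ∀ w : I4 → K, 3 • w = 0 := fun w => by funext i; simp [h30']
  have hQ : Fintype.card K - 1 = (q + 1) * (q - 1) := by rw [hK, ← Nat.sq_sub_sq, one_pow]
  refine ⟨fun x => ?_, ?_⟩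
  · obtain ⟨w, x, rfl⟩ := AffineGroup.exists_elt _ x
    obtain ⟨g, rfl⟩ := QuotientGroup.mk_surjective x
    rcases sl2_cases g with ⟨ε, hε, h⟩ | ⟨a, ha0, -, -, ha, ⟨P, hP⟩, hpow⟩
    · left
      exact orderOf_dvd_of_pow_eq_one (AffineGroup.pow_mul_eq_one _ h3 w _ (psl_pow_char g hε h))
    have key : ∀ N, a ^ (2 * N) = 1 → (QuotientGroup.mk g : P2) ^ N = 1 := by
      intro N hN
      rw [CfsgLib.KnownC.PSLOrders.mk_pow_eq_one_iff]
      rw [mul_comm, pow_mul, sq_eq_one_iff] at hN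
      rcases hN with h | h
      · exact ⟨1, hpow N 1 (one_mul 1) (by rw [h, map_one])⟩
      · exact ⟨-1, hpow N (-1) (by ring) (by rw [h, map_neg, map_one])⟩
    by_cases hfix : ∀ v, threeAct σ τ (QuotientGroup.mk g : P2) v = v → v = 0
    · have hodd : q ^ 2 % 2 = 1 := by rw [Nat.pow_mod, hqodd]
      have hpos : 1 ≤ q ^ 2 := Nat.one_le_pow _ _ (by omega)
      rw [hK] at ha
      rcases ha with h | h
      · right; right; right; left
        rw [hgcd]
        have hN := key ((q ^ 2 - 1) / 2) (by rwa [Nat.two_mul_div_two_of_even (by rw [Nat.even_iff]; omega)])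
        exact orderOf_dvd_of_pow_eq_one (AffineGroup.pow_eq_one _ w _ hN
          (AffineGroup.sum_eq_zero_of_no_fixed _ w _ hN hfix))
      · right; right; right; right
        rw [hgcd]
        have hN := key ((q ^ 2 + 1) / 2) (by rwa [Nat.two_mul_div_two_of_even (by rw [Nat.even_iff]; omega)])
        exact orderOf_dvd_of_pow_eq_one (AffineGroup.pow_eq_one _ w _ hN
          (AffineGroup.sum_eq_zero_of_no_fixed _ w _ hN hfix))
    · push Not at hfix
      rcases fourRep_fixed m hm hK g a ha0 ha hP hfix with h | h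
      · right; left
        rw [mul_comm]
        exact orderOf_dvd_of_pow_eq_one (AffineGroup.pow_mul_eq_one _ h3 w _ (key _ h))
      · right; right; left
        rw [mul_comm]
        exact orderOf_dvd_of_pow_eq_one (AffineGroup.pow_mul_eq_one _ h3 w _ (key _ h))
  · have hinner : ∀ g : SL2, orderOf (QuotientGroup.mk g : P2) ∣
        orderOf (AffineGroup.elt (threeAct σ τ) 0 (QuotientGroup.mk g : P2)) := fun g => AffineGroup.dvd_orderOf _ _ _
    have torus : ∀ (n : ℕ), 2 * n ∣ Fintype.card K - 1 → Nat.Coprime 3 n → ∀ i : I4,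
        (∀ ζ : Kˣ, ζ ^ (2 * n) = 1 → (![(ζ : K), (ζ : K)⁻¹] i.1.1) * σ (![(ζ : K), (ζ : K)⁻¹] i.1.2) *
          (τ (![(ζ : K), (ζ : K)⁻¹] i.2.1) * τ (![(ζ : K), (ζ : K)⁻¹] i.2.2)) = 1) →
        ∃ x : AffineGroup.Aff (threeAct σ τ), 3 * n ∣ orderOf x := by
      intro n hn hcop i hi
      obtain ⟨ζ, hζ⟩ := exists_unit_order hn
      have hv : fourRep σ τ (SLTwoElements.diag K ζ) *ᵥ Pi.single i 1 = Pi.single i 1 := by
        rw [Matrix.mulVec_single_one]
        funext j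
        rw [Matrix.col_apply, fourRep_apply]
        obtain ⟨⟨i1, i2⟩, ⟨i3, i4⟩⟩ := i
        obtain ⟨⟨j1, j2⟩, ⟨j3, j4⟩⟩ := j
        have h0 := hi ζ (hζ ▸ pow_orderOf_eq_one ζ)
        by_cases e1 : j1 = i1 <;> by_cases e2 : j2 = i2 <;> by_cases e3 : j3 = i3 <;> by_cases e4 : j4 = i4 <;>
          simp [SLTwoElements.diag, e1, e2, e3, e4]
        simpa using h0
      refine ⟨_, AffineGroup.mul_dvd_orderOf_of_fixed (threeAct σ τ) h3 (QuotientGroup.mk (SLTwoElements.diag K ζ) : P2)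
        hv ?_ (psl_dvd_orderOf _ _ fun k hk => ?_) hcop⟩
      · intro h
        have := congrFun h i
        simp at this
      · rw [← hζ]
        exact orderOf_dvd_of_pow_eq_one (diag_eq_one (by rw [← diag_pow, hk]))
    have hhalf : ∀ N, N = q ^ 2 - 1 ∨ N = q ^ 2 + 1 → 2 * (N / 2) = N := by
      intro N hN
      have hodd : q ^ 2 % 2 = 1 := by rw [Nat.pow_mod, hqodd]
      omega
    rintro n (rfl | rfl | rfl | rfl | rfl)
    · let i0 : I4 := (((1 : Fin 2), (1 : Fin 2)), ((0 : Fin 2), (0 : Fin 2)))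
      let j0 : I4 := (((0 : Fin 2), (0 : Fin 2)), ((0 : Fin 2), (0 : Fin 2)))
      let t : P2 := QuotientGroup.mk (SLTwoElements.transv K)
      have ht : t ^ 3 = 1 := by
        rw [CfsgLib.KnownC.PSLOrders.mk_pow_eq_one_iff]
        refine ⟨1, ?_⟩
        rw [← Matrix.SpecialLinearGroup.coe_pow, SLTwoElements.transv_pow, CharP.cast_eq_zero, one_smul, Matrix.one_fin_two]
      refine ⟨AffineGroup.elt _ (Pi.single i0 1) t, ?_⟩
      rw [show unipExp 3 = 3 ^ (1 + 1) by simp [unipExp]]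
      rw [orderOf_eq_prime_pow (p := 3) (n := 1) ?_ (AffineGroup.pow_mul_eq_one _ h3 _ _ ht)]
      rw [pow_one, AffineGroup.pow_eq]
      intro h
      have h' := congrArg (fun x : AffineGroup.Aff (threeAct σ τ) => x.left.toAdd j0) h
      have e1 : (threeAct σ τ t ^ 1) (Pi.single i0 1) j0 = 1 := by
        rw [← map_pow, pow_one]
        change (fourRep σ τ (SLTwoElements.transv K) *ᵥ Pi.single i0 1) j0 = 1
        rw [Matrix.mulVec_single_one, Matrix.col_apply, fourRep_apply]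
        simp [SLTwoElements.transv, i0, j0]
      have e2 : (threeAct σ τ t ^ 2) (Pi.single i0 1) j0 = 4 := by
        rw [← map_pow]
        change (fourRep σ τ (SLTwoElements.transv K ^ 2) *ᵥ Pi.single i0 1) j0 = 4
        rw [Matrix.mulVec_single_one, Matrix.col_apply, fourRep_apply, SLTwoElements.transv_pow]
        simp [i0, j0, map_ofNat]
        norm_num
      simp only [Finset.sum_range_succ, Finset.sum_range_zero, zero_add] at h'
      change (threeAct σ τ t ^ 0) (Pi.single i0 1) j0 + (threeAct σ τ t ^ 1) (Pi.single i0 1) j0 +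
        (threeAct σ τ t ^ 2) (Pi.single i0 1) j0 = 0 at h'
      rw [e1, e2, pow_zero] at h'
      change (Pi.single i0 (1 : K) : I4 → K) j0 + 1 + 4 = 0 at h'
      rw [Pi.single_eq_of_ne (by simp [i0, j0])] at h'
      have h30 : ((3 : ℕ) : K) = 0 := CharP.cast_eq_zero K 3
      push_cast at h30
      have h20 : (2 : K) = 0 := by linear_combination h' - h30
      exact one_ne_zero (α := K) (by linear_combination h30 - h20)
    · refine torus (q - 1) ?_ (Nat.prime_three.coprime_iff_not_dvd.mpr ?_)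
        (((0 : Fin 2), (1 : Fin 2)), ((0 : Fin 2), (0 : Fin 2))) fun ζ h => ?_
      · rw [hQ, show q + 1 = 2 * ((q + 1) / 2) by omega]
        exact ⟨(q + 1) / 2, by ring⟩
      · intro h
        have := Nat.dvd_sub h3q h
        rw [Nat.sub_sub_self (by omega)] at this
        omega
      · simp only [Matrix.cons_val_zero, Matrix.cons_val_one, hσ, hτ, iterateFrobenius_def, pow_one,
          show (3 : ℕ) ^ (2 * m) = q by rw [pow_mul, hqdef]; norm_num, inv_pow, ← pow_add]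
        have hz : (ζ : K) ^ (2 * (q - 1)) = 1 := by rw [← Units.val_pow_eq_pow_val, h, Units.val_one]
        rw [show q + q = 2 * (q - 1) + 2 by omega, pow_add, hz, one_mul]
        field_simp
    · refine torus (q + 1) ?_ (Nat.prime_three.coprime_iff_not_dvd.mpr ?_)
        (((1 : Fin 2), (0 : Fin 2)), ((0 : Fin 2), (0 : Fin 2))) fun ζ h => ?_
      · rw [hQ, show q - 1 = 2 * ((q - 1) / 2) by omega]
        exact ⟨(q - 1) / 2, by ring⟩
      · intro h
        have := (Nat.dvd_add_right h3q).mp h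
        omega
      · simp only [Matrix.cons_val_zero, Matrix.cons_val_one, hσ, hτ, iterateFrobenius_def, pow_one,
          show (3 : ℕ) ^ (2 * m) = q by rw [pow_mul, hqdef]; norm_num, ← pow_add]
        have hz : (ζ : K) ^ (2 * (q + 1)) = 1 := by rw [← Units.val_pow_eq_pow_val, h, Units.val_one]
        rw [mul_assoc, ← pow_add, show 3 + (q + q) = 2 * (q + 1) + 1 by ring, pow_succ, hz, one_mul]
        exact inv_mul_cancel₀ ζ.ne_zero
    · obtain ⟨ζ, -, hζ⟩ := SLTwoElements.exists_minus K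
      rw [Nat.card_eq_fintype_card, hK] at hζ
      refine ⟨_, (psl_dvd_orderOf (SLTwoElements.diag K ζ) _ fun k hk => ?_).trans (hinner _)⟩
      rw [hgcd, hhalf _ (Or.inl rfl)]
      exact hζ k hk
    · obtain ⟨g, hg⟩ := SLTwoElements.exists_plus K 3
      rw [hK] at hg
      refine ⟨_, (psl_dvd_orderOf g _ fun k hk => ?_).trans (hinner g)⟩
      rw [hgcd, hhalf _ (Or.inr rfl)]
      exact hg k hk

end CfsgLib.Recognition.SpFourGroups
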