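import Mathlib
import Cfsg.Agent.Lib.Recognition.FibrePower
import Cfsg.Agent.Lib.Recognition.BinaryS5Table

/-!
A group of order `81 * 40` with element orders `1, 2, 3, 4, 5, 8, 10`.
-/

namespace CfsgLib.Recognition.SpecTenNine

open Matrix

open BinaryS5 (Row M4)

/-- Product of a row with an array, reduced modulo 3. -/
def rowMul (r : Row) (b : M4) : Row :=
  ((r.1 * b.1.1 + r.2.1 * b.2.1.1 + r.2.2.1 * b.2.2.1.1 + r.2.2.2 * b.2.2.2.1) % 3,
   (r.1 * b.1.2.1 + r.2.1 * b.2.1.2.1 + r.2.2.1 * b.2.2.1.2.1 + r.2.2.2 * b.2.2.2.2.1) % 3,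
   (r.1 * b.1.2.2.1 + r.2.1 * b.2.1.2.2.1 + r.2.2.1 * b.2.2.1.2.2.1 + r.2.2.2 * b.2.2.2.2.2.1) % 3,
   (r.1 * b.1.2.2.2 + r.2.1 * b.2.1.2.2.2 + r.2.2.1 * b.2.2.1.2.2.2 + r.2.2.2 * b.2.2.2.2.2.2) % 3)

/-- Product of two arrays, reduced modulo 3. -/
def mul' (a b : M4) : M4 := (rowMul a.1 b, rowMul a.2.1 b, rowMul a.2.2.1 b, rowMul a.2.2.2 b)

/-- Sum of two rows, reduced modulo 3. -/
def rowAdd (r s : Row) : Row :=
  ((r.1 + s.1) % 3, (r.2.1 + s.2.1) % 3, (r.2.2.1 + s.2.2.1) % 3, (r.2.2.2 + s.2.2.2) % 3)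

/-- Sum of two arrays, reduced modulo 3. -/
def add' (a b : M4) : M4 :=
  (rowAdd a.1 b.1, rowAdd a.2.1 b.2.1, rowAdd a.2.2.1 b.2.2.1, rowAdd a.2.2.2 b.2.2.2)

/-- The identity array. -/
def one' : M4 := ((1, 0, 0, 0), (0, 1, 0, 0), (0, 0, 1, 0), (0, 0, 0, 1))

/-- The zero array. -/
def zero' : M4 := ((0, 0, 0, 0), (0, 0, 0, 0), (0, 0, 0, 0), (0, 0, 0, 0))

/-- The matrix of an array. -/
def toMat (a : M4) : Matrix (Fin 4) (Fin 4) (ZMod 3) :=
  !![(a.1.1 : ZMod 3), a.1.2.1, a.1.2.2.1, a.1.2.2.2;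
     a.2.1.1, a.2.1.2.1, a.2.1.2.2.1, a.2.1.2.2.2;
     a.2.2.1.1, a.2.2.1.2.1, a.2.2.1.2.2.1, a.2.2.1.2.2.2;
     a.2.2.2.1, a.2.2.2.2.1, a.2.2.2.2.2.1, a.2.2.2.2.2.2]

theorem toMat_mul (a b : M4) : toMat (mul' a b) = toMat a * toMat b := by
  ext i j
  fin_cases i <;> fin_cases j <;>
    simp [toMat, mul', rowMul, Matrix.mul_apply, Fin.sum_univ_four, ZMod.natCast_mod]

theorem toMat_add (a b : M4) : toMat (add' a b) = toMat a + toMat b := by
  ext i j
  fin_cases i <;> fin_cases j <;> simp [toMat, add', rowAdd, ZMod.natCast_mod]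

theorem toMat_one : toMat one' = 1 := by
  ext i j
  fin_cases i <;> fin_cases j <;> simp [toMat, one']

theorem toMat_zero : toMat zero' = 0 := by
  ext i j
  fin_cases i <;> fin_cases j <;> simp [toMat, zero']

/-- The arrays of a fixed point free group of shape `5 : 8` in `GL₄(3)`. -/
def arrays : List M4 :=
  [
   ((1, 0, 0, 0), (0, 1, 0, 0), (0, 0, 1, 0), (0, 0, 0, 1)),
   ((2, 0, 1, 2), (1, 2, 0, 1), (1, 1, 2, 0), (0, 1, 2, 1)),
   ((0, 1, 1, 1), (1, 0, 1, 0), (0, 0, 1, 2), (0, 1, 2, 2)),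
   ((2, 0, 2, 0), (1, 2, 0, 2), (2, 1, 2, 0), (0, 2, 0, 2)),
   ((0, 1, 1, 2), (2, 2, 2, 0), (1, 1, 1, 2), (1, 1, 2, 0)),
   ((2, 1, 1, 2), (0, 1, 0, 2), (1, 0, 0, 2), (0, 0, 2, 0)),
   ((1, 1, 1, 1), (0, 1, 2, 0), (0, 2, 2, 0), (1, 2, 1, 2)),
   ((0, 2, 0, 1), (1, 0, 2, 0), (1, 1, 0, 2), (2, 0, 1, 1)),
   ((0, 2, 1, 0), (2, 0, 1, 2), (1, 2, 2, 0), (2, 2, 0, 1)),
   ((2, 2, 0, 0), (2, 0, 0, 0), (1, 2, 1, 2), (2, 1, 2, 0)),
   ((1, 2, 0, 0), (2, 2, 0, 0), (1, 0, 1, 1), (1, 1, 1, 2)),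
   ((0, 2, 2, 1), (1, 1, 1, 0), (2, 2, 2, 1), (2, 2, 1, 0)),
   ((1, 1, 2, 2), (1, 2, 2, 1), (0, 0, 2, 2), (0, 0, 2, 1)),
   ((1, 1, 2, 1), (0, 1, 1, 1), (1, 0, 1, 2), (2, 1, 1, 0)),
   ((1, 2, 2, 2), (1, 0, 0, 1), (2, 0, 1, 1), (2, 0, 2, 1)),
   ((2, 2, 2, 0), (1, 2, 2, 2), (0, 1, 2, 2), (2, 2, 0, 2)),
   ((0, 2, 2, 2), (2, 0, 2, 0), (0, 0, 2, 1), (0, 2, 1, 1)),
   ((2, 0, 0, 2), (0, 1, 1, 2), (2, 1, 2, 2), (2, 0, 0, 1)),
   ((0, 1, 2, 0), (1, 0, 2, 1), (2, 1, 1, 0), (1, 1, 0, 2)),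
   ((2, 2, 1, 2), (0, 2, 2, 2), (2, 0, 2, 1), (1, 2, 2, 0)),
   ((2, 1, 0, 1), (2, 2, 1, 2), (0, 2, 1, 2), (1, 0, 1, 1)),
   ((1, 1, 0, 0), (1, 0, 0, 0), (2, 1, 2, 1), (1, 2, 1, 0)),
   ((2, 1, 0, 0), (1, 1, 0, 0), (2, 0, 2, 2), (2, 2, 2, 1)),
   ((1, 0, 2, 0), (2, 2, 1, 1), (0, 2, 0, 2), (0, 1, 1, 0)),
   ((2, 2, 1, 1), (2, 1, 1, 2), (0, 0, 1, 1), (0, 0, 1, 2)),
   ((1, 2, 0, 1), (1, 1, 1, 1), (0, 0, 0, 1), (1, 2, 1, 1)),
   ((0, 2, 0, 0), (2, 1, 0, 0), (2, 2, 0, 2), (0, 0, 2, 2)),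
   ((2, 0, 0, 0), (0, 2, 0, 0), (0, 0, 2, 0), (0, 0, 0, 2)),
   ((1, 2, 2, 1), (0, 2, 0, 1), (2, 0, 0, 1), (0, 0, 1, 0)),
   ((2, 2, 2, 2), (0, 2, 1, 0), (0, 1, 1, 0), (2, 1, 2, 1)),
   ((0, 1, 0, 0), (1, 2, 0, 0), (1, 1, 0, 1), (0, 0, 1, 1)),
   ((1, 0, 0, 1), (0, 2, 2, 1), (1, 2, 1, 1), (1, 0, 0, 2)),
   ((2, 1, 0, 2), (2, 2, 2, 2), (0, 0, 0, 2), (2, 1, 2, 2)),
   ((2, 0, 1, 0), (1, 1, 2, 2), (0, 1, 0, 1), (0, 2, 2, 0)),
   ((1, 0, 2, 1), (2, 1, 0, 2), (2, 2, 1, 0), (0, 2, 1, 2)),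
   ((1, 2, 0, 2), (1, 1, 2, 1), (0, 1, 2, 1), (2, 0, 2, 2)),
   ((0, 1, 0, 2), (2, 0, 1, 0), (2, 2, 0, 1), (1, 0, 2, 2)),
   ((2, 1, 1, 1), (2, 0, 0, 2), (1, 0, 2, 2), (1, 0, 1, 2)),
   ((1, 0, 1, 0), (2, 1, 0, 1), (1, 2, 1, 0), (0, 1, 0, 1)),
   ((1, 1, 1, 0), (2, 1, 1, 1), (0, 2, 1, 1), (1, 1, 0, 1))]

/-- The array of order 10. -/
def arrA : M4 := ((2, 0, 1, 2), (1, 2, 0, 1), (1, 1, 2, 0), (0, 1, 2, 1))

/-- The array of order 8. -/
def arrC : M4 := ((0, 1, 1, 1), (1, 0, 1, 0), (0, 0, 1, 2), (0, 1, 2, 2))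

/-- The element of order 10. -/
def genA : Matrix (Fin 4) (Fin 4) (ZMod 3) := toMat arrA

/-- The element of order 8. -/
def genC : Matrix (Fin 4) (Fin 4) (ZMod 3) := toMat arrC

/-- The regularity check. -/
def check (a : M4) : Prop :=
  let a2 := mul' a a
  let a4 := mul' a2 a2
  let a8 := mul' a4 a4
  a = one' ∨ (a8 = one' ∧ mul' (mul' (add' one' a) (add' one' a2)) (add' one' a4) = zero') ∨
    (mul' a8 a2 = one' ∧
      mul' (add' one' a) (add' (add' (add' (add' one' a2) a4) (mul' a4 a2)) a8) = zero')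

set_option synthInstance.maxSize 2000 in
instance decEqRow : DecidableEq Row := inferInstance

set_option synthInstance.maxSize 2000 in
instance decEqArr : DecidableEq M4 := inferInstance

set_option synthInstance.maxSize 2000 in
instance decCheck (a : M4) : Decidable (check a) := by dsimp only [check]; infer_instance

set_option maxRecDepth 100000 in
set_option synthInstance.maxSize 2000 in
theorem closed_arrays : ∀ a ∈ arrays, mul' a arrA ∈ arrays ∧ mul' a arrC ∈ arrays := by decide +kernel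

set_option maxRecDepth 100000 in
set_option synthInstance.maxSize 2000 in
theorem one_mem_arrays : one' ∈ arrays := by decide +kernel

set_option maxRecDepth 100000 in
set_option synthInstance.maxSize 2000 in
theorem check_arrays : ∀ a ∈ arrays, check a := by decide +kernel

/-- The matrices. -/
def elements : List (Matrix (Fin 4) (Fin 4) (ZMod 3)) := arrays.map toMat

/-- The regularity property. -/
def isRegular (a : Matrix (Fin 4) (Fin 4) (ZMod 3)) : Prop :=
  a = 1 ∨ (a ^ 8 = 1 ∧ ∑ i ∈ Finset.range 8, a ^ i = 0) ∨ (a ^ 10 = 1 ∧ ∑ i ∈ Finset.range 10, a ^ i = 0)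

theorem closed_elements : ∀ a ∈ elements, a * genA ∈ elements ∧ a * genC ∈ elements := by
  intro m hm
  obtain ⟨a, ha, rfl⟩ := List.mem_map.mp hm
  exact ⟨List.mem_map.mpr ⟨_, (closed_arrays a ha).1, toMat_mul a arrA⟩,
    List.mem_map.mpr ⟨_, (closed_arrays a ha).2, toMat_mul a arrC⟩⟩

theorem one_mem_elements : 1 ∈ elements := List.mem_map.mpr ⟨_, one_mem_arrays, toMat_one⟩

theorem regular_elements : ∀ a ∈ elements, isRegular a := by
  intro m hm
  obtain ⟨a, ha, rfl⟩ := List.mem_map.mp hm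
  rcases check_arrays a ha with h | ⟨h1, h2⟩ | ⟨h1, h2⟩
  · exact Or.inl (by rw [h, toMat_one])
  · refine Or.inr (Or.inl ⟨?_, ?_⟩)
    · have h := congrArg toMat h1
      simp only [toMat_mul, toMat_one] at h
      rw [← h]; simp only [pow_succ, pow_zero, one_mul, mul_assoc]
    · have h := congrArg toMat h2
      simp only [toMat_mul, toMat_add, toMat_one, toMat_zero] at h
      rw [← h]
      simp only [Finset.sum_range_succ, Finset.sum_range_zero, pow_succ, pow_zero, one_mul, zero_add, add_mul, mul_add,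
        mul_one, mul_assoc]
      abel
  · refine Or.inr (Or.inr ⟨?_, ?_⟩)
    · have h := congrArg toMat h1
      simp only [toMat_mul, toMat_one] at h
      rw [← h]; simp only [pow_succ, pow_zero, one_mul, mul_assoc]
    · have h := congrArg toMat h2
      simp only [toMat_mul, toMat_add, toMat_one, toMat_zero] at h
      rw [← h]
      simp only [Finset.sum_range_succ, Finset.sum_range_zero, pow_succ, pow_zero, one_mul, zero_add, add_mul, mul_add,
        mul_one, mul_assoc]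
      abel

set_option maxRecDepth 100000 in
set_option synthInstance.maxSize 2000 in
theorem arr_facts :
    mul' (mul' (mul' (mul' arrA arrA) (mul' arrA arrA)) (mul' (mul' arrA arrA) (mul' arrA arrA))) (mul' arrA arrA) = one' ∧
    mul' (mul' (mul' arrC arrC) (mul' arrC arrC)) (mul' (mul' arrC arrC) (mul' arrC arrC)) = one' ∧
    (mul' arrA arrA).1 ≠ one'.1 ∧ (mul' (mul' (mul' arrA arrA) (mul' arrA arrA)) arrA).1 ≠ one'.1 ∧
    (mul' (mul' arrC arrC) (mul' arrC arrC)).1 ≠ one'.1 ∧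
    (∀ r : Fin 3 × Fin 3 × Fin 3 × Fin 3, ((r.1.val : ZMod 3), (r.2.1.val : ZMod 3), (r.2.2.1.val : ZMod 3), (r.2.2.2.val : ZMod 3)) = (1, 0, 0, 0) →
      (r.1.val, r.2.1.val, r.2.2.1.val, r.2.2.2.val) = (1, 0, 0, 0)) := by decide +kernel

theorem toMat_mul_ne_one {a b : M4} (h : (mul' a b).1 ≠ one'.1) : toMat a * toMat b ≠ 1 := by
  rw [← toMat_mul, ← toMat_one]
  intro he
  apply h
  have hr : ∀ j, toMat (mul' a b) 0 j = toMat one' 0 j := fun j => by rw [he]
  have key := arr_facts.2.2.2.2.2 (⟨(mul' a b).1.1, Nat.mod_lt _ (by norm_num)⟩, ⟨(mul' a b).1.2.1, Nat.mod_lt _ (by norm_num)⟩,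
    ⟨(mul' a b).1.2.2.1, Nat.mod_lt _ (by norm_num)⟩, ⟨(mul' a b).1.2.2.2, Nat.mod_lt _ (by norm_num)⟩)
  refine key ?_
  have h0 := hr 0; have h1 := hr 1; have h2 := hr 2; have h3 := hr 3
  simp [toMat, one'] at h0 h1 h2 h3
  simp [h0, h1, h2, h3]

theorem genA_facts : genA ^ 10 = 1 ∧ genA ^ 2 ≠ 1 ∧ genA ^ 5 ≠ 1 := by
  refine ⟨?_, ?_, ?_⟩
  · rw [← toMat_one, ← arr_facts.1]
    simp only [genA, toMat_mul, pow_succ, pow_zero, one_mul, mul_assoc]
  · rw [pow_two]; exact toMat_mul_ne_one arr_facts.2.2.1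
  · have := toMat_mul_ne_one arr_facts.2.2.2.1
    simpa only [genA, toMat_mul, pow_succ, pow_zero, one_mul, mul_assoc] using this

theorem genC_facts : genC ^ 8 = 1 ∧ genC ^ 4 ≠ 1 := by
  refine ⟨?_, ?_⟩
  · rw [← toMat_one, ← arr_facts.2.1]
    simp only [genC, toMat_mul, pow_succ, pow_zero, one_mul, mul_assoc]
  · have := toMat_mul_ne_one arr_facts.2.2.2.2.1
    simpa only [genC, toMat_mul, pow_succ, pow_zero, one_mul, mul_assoc] using this

/-- The first generator as a unit. -/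
noncomputable def unitA : (Matrix (Fin 4) (Fin 4) (ZMod 3))ˣ := Units.ofPowEqOne genA 10 genA_facts.1 (by norm_num)

/-- The second generator as a unit. -/
noncomputable def unitC : (Matrix (Fin 4) (Fin 4) (ZMod 3))ˣ := Units.ofPowEqOne genC 8 genC_facts.1 (by norm_num)

/-- The group of shape `5 : 8`. -/
noncomputable def K : Subgroup (Matrix (Fin 4) (Fin 4) (ZMod 3))ˣ := Subgroup.closure {unitA, unitC}

theorem mem_elements (k : K) : ((k : (Matrix (Fin 4) (Fin 4) (ZMod 3))ˣ) : Matrix (Fin 4) (Fin 4) (ZMod 3)) ∈ elements := by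
  obtain ⟨g, hg⟩ := k
  change (g : Matrix (Fin 4) (Fin 4) (ZMod 3)) ∈ elements
  have hg' : g ∈ Submonoid.closure ({unitA, unitC} : Set (Matrix (Fin 4) (Fin 4) (ZMod 3))ˣ) := by
    rw [← Subgroup.closure_toSubmonoid_of_finite]; exact hg
  clear hg
  induction hg' using Submonoid.closure_induction_right with
  | one => exact one_mem_elements
  | mul_right x _ y hy ih =>
    rcases hy with rfl | rfl
    · exact (closed_elements _ ih).1
    · exact (closed_elements _ ih).2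

/-- The matrix of an element. -/
noncomputable def val : K →* Matrix (Fin 4) (Fin 4) (ZMod 3) := (Units.coeHom _).comp K.subtype

/-- The action on vectors. -/
noncomputable def act (g : K) : (Fin 4 → ZMod 3) →+ (Fin 4 → ZMod 3) where
  toFun w := val g *ᵥ w
  map_zero' := Matrix.mulVec_zero _
  map_add' := Matrix.mulVec_add _

theorem act_apply (g : K) (w : Fin 4 → ZMod 3) : act g w = val g *ᵥ w := rfl

theorem act_one (w : Fin 4 → ZMod 3) : act 1 w = w := by rw [act_apply, map_one, Matrix.one_mulVec]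

theorem act_mul (g h : K) (w : Fin 4 → ZMod 3) : act (g * h) w = act g (act h w) := by
  rw [act_apply, act_apply, act_apply, map_mul, Matrix.mulVec_mulVec]

/-- The action as a homomorphism. -/
noncomputable def actHom : K →* MulAut (Multiplicative (Fin 4 → ZMod 3)) where
  toFun g :=
    { toFun := fun w => Multiplicative.ofAdd (act g w.toAdd)
      invFun := fun w => Multiplicative.ofAdd (act g⁻¹ w.toAdd)
      left_inv := fun w => by
        change Multiplicative.ofAdd (act g⁻¹ (act g w.toAdd)) = w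
        rw [← act_mul, inv_mul_cancel, act_one, ofAdd_toAdd]
      right_inv := fun w => by
        change Multiplicative.ofAdd (act g (act g⁻¹ w.toAdd)) = w
        rw [← act_mul, mul_inv_cancel, act_one, ofAdd_toAdd]
      map_mul' := fun a b => by simp only [toAdd_mul, map_add, ofAdd_add] }
  map_one' := MulEquiv.ext fun w => congrArg Multiplicative.ofAdd (act_one w.toAdd)
  map_mul' g h := MulEquiv.ext fun w => congrArg Multiplicative.ofAdd (act_mul g h w.toAdd)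

/-- The group. -/
abbrev G := Multiplicative (Fin 4 → ZMod 3) ⋊[actHom] K

instance : Finite G := Finite.of_equiv _ SemidirectProduct.equivProd.symm

theorem pow_eq (w : Fin 4 → ZMod 3) (k : K) (j : ℕ) :
    (⟨Multiplicative.ofAdd w, k⟩ : G) ^ j =
      ⟨Multiplicative.ofAdd ((∑ i ∈ Finset.range j, val k ^ i) *ᵥ w), k ^ j⟩ := by
  induction j with
  | zero => simp
  | succ j ih =>
    rw [pow_succ, ih, SemidirectProduct.mul_def]
    refine SemidirectProduct.ext ?_ (pow_succ k j).symm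
    change Multiplicative.ofAdd _ * Multiplicative.ofAdd (act (k ^ j) w) = _
    rw [← ofAdd_add, Finset.sum_range_succ, Matrix.add_mulVec, act_apply, map_pow]

theorem orderOf_cases (x : G) : orderOf x ∣ 3 ∨ orderOf x ∣ 8 ∨ orderOf x ∣ 10 := by
  obtain ⟨w, k⟩ := x
  have key : ∀ n, val k ^ n = 1 → ∑ i ∈ Finset.range n, val k ^ i = 0 → (⟨w, k⟩ : G) ^ n = 1 := by
    intro n h1 h2
    rw [show w = Multiplicative.ofAdd w.toAdd from rfl, pow_eq, h2, Matrix.zero_mulVec]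
    refine SemidirectProduct.ext rfl ?_
    exact Subtype.ext (Units.ext ((map_pow val k n).trans h1))
  rcases regular_elements _ (mem_elements k) with h | ⟨h1, h2⟩ | ⟨h1, h2⟩
  · left
    apply orderOf_dvd_of_pow_eq_one
    have hk : k = 1 := Subtype.ext (Units.ext h)
    refine key 3 ?_ ?_
    · rw [hk, map_one, one_pow]
    · simp only [hk, map_one, one_pow, Finset.sum_const, Finset.card_range]
      decide
  · exact Or.inr (Or.inl (orderOf_dvd_of_pow_eq_one (key 8 h1 h2)))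
  · exact Or.inr (Or.inr (orderOf_dvd_of_pow_eq_one (key 10 h1 h2)))

theorem exists_orderOf : (∃ x : G, orderOf x = 3) ∧ (∃ x : G, orderOf x = 8) ∧ (∃ x : G, orderOf x = 10) := by
  refine ⟨⟨SemidirectProduct.inl (Multiplicative.ofAdd (Pi.single 0 1)), ?_⟩, ?_, ?_⟩
  · haveI : Fact (Nat.Prime 3) := ⟨Nat.prime_three⟩
    rw [orderOf_injective _ SemidirectProduct.inl_injective, orderOf_ofAdd_eq_addOrderOf]
    refine addOrderOf_eq_prime ?_ ?_
    · funext i; revert i; decide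
    · intro h; have := congrFun h 0; revert this; decide
  · let c : K := ⟨unitC, Subgroup.subset_closure (Or.inr rfl)⟩
    refine ⟨SemidirectProduct.inr c, ?_⟩
    rw [orderOf_injective _ SemidirectProduct.inr_injective]
    haveI : Fact (Nat.Prime 2) := ⟨Nat.prime_two⟩
    rw [show (8 : ℕ) = 2 ^ (2 + 1) by norm_num]
    refine orderOf_eq_prime_pow (fun h => ?_) ?_
    · exact genC_facts.2 ((map_pow val c 4).symm.trans ((congrArg val h).trans (map_one val)))
    · exact Subtype.ext (Units.ext ((map_pow val c 8).trans genC_facts.1))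
  · let a : K := ⟨unitA, Subgroup.subset_closure (Or.inl rfl)⟩
    refine ⟨SemidirectProduct.inr a, ?_⟩
    rw [orderOf_injective _ SemidirectProduct.inr_injective]
    have h10 : a ^ 10 = 1 := Subtype.ext (Units.ext ((map_pow val a 10).trans genA_facts.1))
    have h2 : ¬ orderOf a ∣ 2 := fun h => genA_facts.2.1
      ((map_pow val a 2).symm.trans ((congrArg val (orderOf_dvd_iff_pow_eq_one.mp h)).trans (map_one val)))
    have h5 : ¬ orderOf a ∣ 5 := fun h => genA_facts.2.2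
      ((map_pow val a 5).symm.trans ((congrArg val (orderOf_dvd_iff_pow_eq_one.mp h)).trans (map_one val)))
    have hm := Nat.mem_divisors.mpr ⟨orderOf_dvd_of_pow_eq_one h10, by norm_num⟩
    generalize orderOf a = n at hm h2 h5
    revert hm h2 h5
    revert n
    decide

/-- The translations. -/
noncomputable def translations : Subgroup G := (SemidirectProduct.inl : Multiplicative (Fin 4 → ZMod 3) →* G).range

instance : translations.Normal := by
  rw [translations, SemidirectProduct.range_inl_eq_ker_rightHom]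
  exact MonoidHom.normal_ker _

instance : Group.IsSolvable translations :=
  Group.isSolvable_of_surjective (MonoidHom.rangeRestrict_surjective (SemidirectProduct.inl : Multiplicative (Fin 4 → ZMod 3) →* G))

theorem translations_ne_bot : translations ≠ ⊥ := by
  intro h
  have hm : (SemidirectProduct.inl (Multiplicative.ofAdd (Pi.single 0 1)) : G) ∈ translations := ⟨_, rfl⟩
  rw [h, Subgroup.mem_bot] at hm
  have := congrFun (congrArg (fun g : G => g.left.toAdd) hm) 0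
  change (Pi.single 0 1 : Fin 4 → ZMod 3) 0 = 0 at this
  rw [Pi.single_eq_same] at this
  exact one_ne_zero this

end CfsgLib.Recognition.SpecTenNine
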