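import Mathlib

/-!
Any two Sylow 2-subgroups of the symmetric group on eight letters meet non-trivially.
-/

namespace CfsgLib.Recognition.SylowEight

def words : List (List ℕ) := [
  [],
  [0],
  [1],
  [2],
  [0, 1],
  [0, 2],
  [1, 0],
  [1, 2],
  [2, 0],
  [2, 1],
  [0, 1, 0],
  [0, 1, 2],
  [0, 2, 0],
  [0, 2, 1],
  [1, 0, 1],
  [1, 0, 2],
  [1, 2, 0],
  [1, 2, 1],
  [2, 0, 1],
  [2, 0, 2],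
  [2, 1, 0],
  [2, 1, 2],
  [0, 1, 0, 1],
  [0, 1, 0, 2],
  [0, 1, 2, 0],
  [0, 1, 2, 1],
  [0, 2, 0, 1],
  [0, 2, 0, 2],
  [0, 2, 1, 0],
  [0, 2, 1, 2],
  [1, 0, 1, 2],
  [1, 0, 2, 0],
  [1, 0, 2, 1],
  [1, 2, 0, 1],
  [1, 2, 0, 2],
  [1, 2, 1, 0],
  [1, 2, 1, 2],
  [2, 0, 1, 0],
  [2, 0, 1, 2],
  [2, 1, 0, 1],
  [2, 1, 0, 2],
  [0, 1, 0, 1, 2],
  [0, 1, 0, 2, 0],
  [0, 1, 0, 2, 1],
  [0, 1, 2, 0, 1],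
  [0, 1, 2, 0, 2],
  [0, 1, 2, 1, 0],
  [0, 1, 2, 1, 2],
  [0, 2, 0, 1, 0],
  [0, 2, 0, 1, 2],
  [0, 2, 1, 0, 1],
  [0, 2, 1, 0, 2],
  [1, 0, 1, 2, 0],
  [1, 0, 1, 2, 1],
  [1, 0, 2, 0, 1],
  [1, 0, 2, 0, 2],
  [1, 0, 2, 1, 0],
  [1, 0, 2, 1, 2],
  [1, 2, 0, 1, 0],
  [1, 2, 0, 1, 2],
  [1, 2, 1, 0, 1],
  [1, 2, 1, 0, 2],
  [2, 0, 1, 0, 1],
  [2, 0, 1, 0, 2],
  [2, 1, 0, 1, 2],
  [0, 1, 0, 1, 2, 0],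
  [0, 1, 0, 1, 2, 1],
  [0, 1, 0, 2, 0, 1],
  [0, 1, 0, 2, 0, 2],
  [0, 1, 0, 2, 1, 0],
  [0, 1, 0, 2, 1, 2],
  [0, 1, 2, 0, 1, 0],
  [0, 1, 2, 0, 1, 2],
  [0, 1, 2, 1, 0, 1],
  [0, 1, 2, 1, 0, 2],
  [0, 2, 0, 1, 0, 1],
  [0, 2, 0, 1, 0, 2],
  [0, 2, 1, 0, 1, 2],
  [1, 0, 1, 2, 0, 1],
  [1, 0, 1, 2, 0, 2],
  [1, 0, 1, 2, 1, 0],
  [1, 0, 1, 2, 1, 2],
  [1, 0, 2, 0, 1, 0],
  [1, 0, 2, 0, 1, 2],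
  [1, 0, 2, 1, 0, 1],
  [1, 0, 2, 1, 0, 2],
  [1, 2, 0, 1, 0, 1],
  [1, 2, 0, 1, 0, 2],
  [1, 2, 1, 0, 1, 2],
  [2, 0, 1, 0, 1, 2],
  [0, 1, 0, 1, 2, 0, 1],
  [0, 1, 0, 1, 2, 0, 2],
  [0, 1, 0, 1, 2, 1, 0],
  [0, 1, 0, 1, 2, 1, 2],
  [0, 1, 0, 2, 0, 1, 0],
  [0, 1, 0, 2, 0, 1, 2],
  [0, 1, 0, 2, 1, 0, 1],
  [0, 1, 0, 2, 1, 0, 2],
  [0, 1, 2, 0, 1, 0, 1],
  [0, 1, 2, 0, 1, 0, 2],
  [0, 1, 2, 1, 0, 1, 2],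
  [0, 2, 0, 1, 0, 1, 2],
  [1, 0, 1, 2, 0, 1, 0],
  [1, 0, 1, 2, 0, 1, 2],
  [1, 0, 1, 2, 1, 0, 1],
  [1, 0, 1, 2, 1, 0, 2],
  [1, 0, 2, 0, 1, 0, 1],
  [1, 0, 2, 0, 1, 0, 2],
  [1, 0, 2, 1, 0, 1, 2],
  [1, 2, 0, 1, 0, 1, 2],
  [0, 1, 0, 1, 2, 0, 1, 0],
  [0, 1, 0, 1, 2, 0, 1, 2],
  [0, 1, 0, 1, 2, 1, 0, 1],
  [0, 1, 0, 1, 2, 1, 0, 2],
  [0, 1, 0, 2, 0, 1, 0, 1],
  [0, 1, 0, 2, 0, 1, 0, 2],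
  [0, 1, 0, 2, 1, 0, 1, 2],
  [0, 1, 2, 0, 1, 0, 1, 2],
  [1, 0, 1, 2, 0, 1, 0, 1],
  [1, 0, 1, 2, 0, 1, 0, 2],
  [1, 0, 1, 2, 1, 0, 1, 2],
  [1, 0, 2, 0, 1, 0, 1, 2],
  [0, 1, 0, 1, 2, 0, 1, 0, 1],
  [0, 1, 0, 1, 2, 0, 1, 0, 2],
  [0, 1, 0, 1, 2, 1, 0, 1, 2],
  [0, 1, 0, 2, 0, 1, 0, 1, 2],
  [1, 0, 1, 2, 0, 1, 0, 1, 2],
  [0, 1, 0, 1, 2, 0, 1, 0, 1, 2]]

def rows : List (List ℕ × (ℕ × ℕ) × (ℕ × ℕ)) := [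
  ([0, 1, 2, 3, 4, 5, 6, 7], (1, 0), (1, 1)),
  ([1, 2, 3, 4, 5, 6, 7, 0], (0, 0), (3, 3)),
  ([0, 2, 3, 4, 5, 6, 7, 1], (0, 0), (3, 12)),
  ([2, 3, 4, 5, 6, 7, 0, 1], (64, 0), (1, 14)),
  ([1, 3, 4, 5, 6, 7, 0, 2], (0, 0), (14, 19)),
  ([3, 4, 5, 6, 7, 0, 1, 2], (0, 3), (3, 3)),
  ([0, 3, 4, 5, 6, 7, 1, 2], (0, 0), (14, 19)),
  ([2, 4, 5, 6, 7, 0, 1, 3], (0, 0), (3, 104)),
  ([3, 4, 5, 6, 7, 1, 0, 2], (0, 0), (3, 12)),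
  ([1, 4, 5, 6, 7, 0, 2, 3], (0, 0), (64, 14)),
  ([2, 4, 5, 6, 7, 1, 0, 3], (0, 0), (3, 122)),
  ([3, 5, 6, 7, 0, 1, 2, 4], (19, 0), (14, 64)),
  ([4, 5, 6, 7, 0, 2, 1, 3], (0, 0), (1, 19)),
  ([0, 4, 5, 6, 7, 1, 2, 3], (0, 0), (64, 14)),
  ([2, 5, 6, 7, 0, 1, 3, 4], (19, 0), (14, 64)),
  ([3, 5, 6, 7, 0, 2, 1, 4], (0, 0), (14, 64)),
  ([4, 6, 7, 0, 1, 2, 3, 5], (0, 0), (3, 12)),
  ([4, 5, 6, 7, 1, 2, 0, 3], (0, 0), (1, 19)),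
  ([5, 6, 7, 0, 1, 3, 2, 4], (0, 0), (3, 104)),
  ([1, 5, 6, 7, 0, 2, 3, 4], (0, 0), (14, 64)),
  ([3, 6, 7, 0, 1, 2, 4, 5], (0, 0), (64, 19)),
  ([3, 5, 6, 7, 1, 2, 0, 4], (0, 0), (14, 64)),
  ([4, 6, 7, 0, 1, 3, 2, 5], (0, 0), (3, 122)),
  ([4, 6, 7, 1, 0, 2, 3, 5], (0, 0), (3, 3)),
  ([5, 7, 0, 1, 2, 3, 4, 6], (14, 0), (14, 1)),
  ([5, 6, 7, 0, 2, 3, 1, 4], (0, 0), (19, 14)),
  ([5, 6, 7, 1, 0, 3, 2, 4], (0, 0), (3, 122)),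
  ([6, 7, 0, 1, 2, 4, 3, 5], (14, 0), (1, 64)),
  ([0, 5, 6, 7, 1, 2, 3, 4], (0, 0), (14, 64)),
  ([2, 6, 7, 0, 1, 3, 4, 5], (0, 0), (64, 19)),
  ([3, 6, 7, 1, 0, 2, 4, 5], (0, 0), (64, 19)),
  ([4, 7, 0, 1, 2, 3, 5, 6], (14, 0), (14, 1)),
  ([4, 6, 7, 0, 2, 3, 1, 5], (0, 0), (19, 14)),
  ([4, 6, 7, 1, 0, 3, 2, 5], (0, 0), (3, 104)),
  ([5, 7, 0, 1, 2, 4, 3, 6], (14, 0), (14, 1)),
  ([5, 7, 0, 2, 1, 3, 4, 6], (0, 0), (3, 3)),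
  ([6, 0, 1, 2, 3, 4, 5, 7], (0, 0), (3, 104)),
  ([5, 6, 7, 1, 2, 3, 0, 4], (0, 0), (19, 14)),
  ([6, 7, 0, 1, 3, 4, 2, 5], (14, 0), (1, 64)),
  ([6, 7, 0, 2, 1, 4, 3, 5], (0, 0), (1, 64)),
  ([7, 0, 1, 2, 3, 5, 4, 6], (0, 0), (3, 12)),
  ([1, 6, 7, 0, 2, 3, 4, 5], (0, 0), (10, 77)),
  ([2, 6, 7, 1, 0, 3, 4, 5], (0, 0), (64, 19)),
  ([3, 7, 0, 1, 2, 4, 5, 6], (14, 11), (14, 1)),
  ([4, 7, 0, 2, 1, 3, 5, 6], (0, 0), (3, 12)),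
  ([5, 0, 1, 2, 3, 4, 6, 7], (0, 0), (64, 64)),
  ([4, 6, 7, 1, 2, 3, 0, 5], (0, 0), (19, 14)),
  ([5, 7, 0, 1, 3, 4, 2, 6], (14, 0), (14, 1)),
  ([5, 7, 0, 2, 1, 4, 3, 6], (0, 0), (93, 36)),
  ([6, 0, 1, 2, 3, 5, 4, 7], (0, 0), (3, 122)),
  ([5, 7, 1, 2, 0, 3, 4, 6], (0, 0), (3, 12)),
  ([6, 0, 1, 3, 2, 4, 5, 7], (0, 0), (3, 3)),
  ([6, 1, 0, 2, 3, 4, 5, 7], (0, 0), (3, 122)),
  ([7, 1, 2, 3, 4, 5, 6, 0], (0, 0), (14, 14)),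
  ([6, 7, 0, 2, 3, 4, 1, 5], (0, 0), (1, 64)),
  ([7, 0, 1, 2, 4, 5, 3, 6], (0, 0), (19, 19)),
  ([6, 7, 1, 2, 0, 4, 3, 5], (0, 0), (1, 64)),
  ([7, 0, 1, 3, 2, 5, 4, 6], (0, 0), (3, 122)),
  ([7, 1, 0, 2, 3, 5, 4, 6], (0, 0), (3, 3)),
  ([0, 1, 2, 3, 4, 6, 5, 7], (1, 0), (1, 1)),
  ([0, 6, 7, 1, 2, 3, 4, 5], (0, 5), (10, 77)),
  ([2, 7, 0, 1, 3, 4, 5, 6], (14, 11), (14, 1)),
  ([3, 7, 0, 2, 1, 4, 5, 6], (0, 0), (122, 54)),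
  ([4, 7, 1, 2, 0, 3, 5, 6], (0, 0), (3, 3)),
  ([5, 0, 1, 3, 2, 4, 6, 7], (0, 0), (64, 64)),
  ([5, 1, 0, 2, 3, 4, 6, 7], (0, 0), (64, 64)),
  ([6, 1, 2, 3, 4, 5, 7, 0], (0, 0), (14, 14)),
  ([5, 7, 0, 2, 3, 4, 1, 6], (0, 0), (87, 122)),
  ([6, 0, 1, 2, 4, 5, 3, 7], (0, 20), (19, 19)),
  ([5, 7, 1, 2, 0, 4, 3, 6], (0, 0), (93, 70)),
  ([6, 0, 1, 3, 2, 5, 4, 7], (0, 0), (3, 12)),
  ([6, 1, 0, 2, 3, 5, 4, 7], (0, 0), (3, 104)),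
  ([7, 1, 2, 3, 4, 6, 5, 0], (40, 0), (14, 14)),
  ([6, 0, 2, 3, 1, 4, 5, 7], (0, 0), (14, 14)),
  ([6, 1, 0, 3, 2, 4, 5, 7], (0, 0), (3, 12)),
  ([7, 1, 2, 4, 3, 5, 6, 0], (0, 3), (3, 3)),
  ([7, 2, 1, 3, 4, 5, 6, 0], (0, 3), (19, 19)),
  ([7, 0, 2, 3, 4, 5, 6, 1], (0, 0), (14, 14)),
  ([6, 7, 1, 2, 3, 4, 0, 5], (0, 64), (1, 64)),
  ([7, 0, 1, 3, 4, 5, 2, 6], (0, 0), (19, 19)),
  ([7, 1, 0, 2, 4, 5, 3, 6], (0, 0), (19, 19)),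
  ([0, 1, 2, 3, 5, 6, 4, 7], (1, 20), (1, 1)),
  ([7, 0, 2, 3, 1, 5, 4, 6], (38, 0), (14, 14)),
  ([7, 1, 0, 3, 2, 5, 4, 6], (0, 0), (3, 104)),
  ([0, 1, 2, 4, 3, 6, 5, 7], (1, 0), (1, 1)),
  ([0, 2, 1, 3, 4, 6, 5, 7], (0, 0), (2, 22)),
  ([1, 2, 3, 4, 5, 7, 6, 0], (0, 8), (3, 104)),
  ([3, 7, 1, 2, 0, 4, 5, 6], (0, 0), (122, 94)),
  ([4, 0, 1, 3, 2, 5, 6, 7], (0, 0), (64, 64)),
  ([5, 0, 2, 3, 1, 4, 6, 7], (0, 0), (3, 3)),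
  ([5, 1, 0, 3, 2, 4, 6, 7], (0, 0), (64, 64)),
  ([6, 1, 2, 4, 3, 5, 7, 0], (0, 0), (3, 104)),
  ([6, 2, 1, 3, 4, 5, 7, 0], (0, 0), (19, 19)),
  ([6, 0, 2, 3, 4, 5, 7, 1], (0, 0), (14, 14)),
  ([7, 2, 3, 4, 5, 6, 0, 1], (64, 0), (64, 1)),
  ([5, 7, 1, 2, 3, 4, 0, 6], (0, 64), (87, 104)),
  ([6, 0, 1, 3, 4, 5, 2, 7], (0, 0), (19, 19)),
  ([6, 1, 0, 2, 4, 5, 3, 7], (0, 0), (19, 19)),
  ([6, 0, 2, 3, 1, 5, 4, 7], (0, 0), (14, 14)),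
  ([6, 1, 0, 3, 2, 5, 4, 7], (0, 0), (3, 3)),
  ([7, 1, 2, 4, 3, 6, 5, 0], (0, 0), (17, 93)),
  ([7, 2, 1, 3, 4, 6, 5, 0], (0, 0), (94, 94)),
  ([0, 2, 3, 4, 5, 7, 6, 1], (0, 0), (3, 122)),
  ([6, 1, 2, 3, 0, 4, 5, 7], (0, 0), (14, 14)),
  ([7, 1, 3, 4, 2, 5, 6, 0], (0, 3), (3, 104)),
  ([7, 2, 1, 4, 3, 5, 6, 0], (0, 3), (17, 109)),
  ([7, 0, 2, 4, 3, 5, 6, 1], (0, 0), (3, 12)),
  ([7, 2, 0, 3, 4, 5, 6, 1], (0, 0), (19, 19)),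
  ([0, 1, 3, 4, 5, 6, 7, 2], (1, 0), (1, 1)),
  ([7, 1, 0, 3, 4, 5, 2, 6], (0, 0), (19, 19)),
  ([0, 1, 2, 4, 5, 6, 3, 7], (1, 0), (1, 1)),
  ([0, 2, 1, 3, 5, 6, 4, 7], (0, 0), (2, 22)),
  ([0, 1, 3, 4, 2, 6, 5, 7], (1, 0), (1, 1)),
  ([0, 2, 1, 4, 3, 6, 5, 7], (0, 0), (94, 94)),
  ([1, 2, 3, 5, 4, 7, 6, 0], (0, 0), (3, 122)),
  ([1, 2, 0, 3, 4, 6, 5, 7], (0, 0), (2, 22)),
  ([1, 3, 2, 4, 5, 7, 6, 0], (0, 0), (3, 3)),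
  ([4, 0, 2, 3, 1, 5, 6, 7], (0, 0), (3, 12)),
  ([4, 1, 0, 3, 2, 5, 6, 7], (0, 0), (64, 64)),
  ([5, 1, 2, 4, 3, 6, 7, 0], (0, 0), (17, 93)),
  ([5, 1, 2, 3, 0, 4, 6, 7], (0, 0), (3, 12)),
  ([6, 1, 3, 4, 2, 5, 7, 0], (0, 0), (3, 3)),
  ([6, 2, 1, 4, 3, 5, 7, 0], (0, 0), (17, 109)),
  ([6, 0, 2, 4, 3, 5, 7, 1], (0, 0), (3, 122)),
  ([7, 2, 3, 5, 4, 6, 0, 1], (64, 3), (64, 1)),
  ([6, 2, 0, 3, 4, 5, 7, 1], (0, 0), (19, 19)),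
  ([7, 3, 2, 4, 5, 6, 0, 1], (64, 3), (64, 1)),
  ([7, 1, 3, 4, 5, 6, 0, 2], (0, 0), (36, 12)),
  ([6, 1, 0, 3, 4, 5, 2, 7], (0, 0), (19, 19)),
  ([7, 1, 2, 4, 5, 6, 3, 0], (0, 0), (87, 122)),
  ([7, 2, 1, 3, 5, 6, 4, 0], (0, 0), (94, 46)),
  ([6, 1, 2, 3, 0, 5, 4, 7], (0, 0), (14, 14)),
  ([7, 1, 3, 4, 2, 6, 5, 0], (0, 0), (17, 93)),
  ([7, 2, 1, 4, 3, 6, 5, 0], (0, 0), (3, 3)),
  ([7, 0, 2, 4, 3, 6, 5, 1], (0, 0), (17, 93)),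
  ([0, 2, 3, 5, 4, 7, 6, 1], (0, 0), (3, 104)),
  ([7, 2, 0, 3, 4, 6, 5, 1], (0, 0), (94, 54)),
  ([0, 3, 2, 4, 5, 7, 6, 1], (0, 0), (3, 12)),
  ([1, 3, 4, 5, 6, 0, 7, 2], (0, 0), (14, 19)),
  ([7, 2, 3, 4, 1, 5, 6, 0], (63, 3), (17, 109)),
  ([7, 0, 3, 4, 2, 5, 6, 1], (0, 0), (3, 122)),
  ([7, 2, 0, 4, 3, 5, 6, 1], (0, 0), (17, 125)),
  ([0, 1, 3, 5, 4, 6, 7, 2], (1, 0), (1, 1)),
  ([0, 3, 1, 4, 5, 6, 7, 2], (0, 0), (12, 17)),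
  ([1, 2, 4, 5, 6, 7, 0, 3], (0, 0), (14, 19)),
  ([0, 2, 1, 4, 5, 6, 3, 7], (0, 0), (122, 54)),
  ([1, 2, 3, 5, 6, 7, 4, 0], (0, 0), (19, 64)),
  ([1, 2, 0, 3, 5, 6, 4, 7], (0, 85), (2, 22)),
  ([1, 3, 2, 4, 6, 7, 5, 0], (0, 0), (19, 64)),
  ([1, 2, 4, 5, 3, 7, 6, 0], (0, 0), (14, 19)),
  ([1, 2, 0, 4, 3, 6, 5, 7], (0, 0), (94, 54)),
  ([1, 3, 2, 5, 4, 7, 6, 0], (0, 0), (3, 12)),
  ([2, 3, 4, 6, 5, 0, 7, 1], (21, 3), (1, 14)),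
  ([2, 3, 1, 4, 5, 7, 6, 0], (0, 0), (1, 14)),
  ([2, 4, 3, 5, 6, 0, 7, 1], (21, 3), (2, 79)),
  ([4, 1, 2, 3, 0, 5, 6, 7], (0, 0), (3, 3)),
  ([5, 1, 3, 4, 2, 6, 7, 0], (0, 0), (17, 93)),
  ([5, 2, 1, 4, 3, 6, 7, 0], (0, 0), (17, 36)),
  ([5, 0, 2, 4, 3, 6, 7, 1], (0, 0), (17, 93)),
  ([6, 2, 3, 5, 4, 7, 0, 1], (64, 0), (64, 1)),
  ([6, 2, 3, 4, 1, 5, 7, 0], (0, 0), (17, 109)),
  ([6, 0, 3, 4, 2, 5, 7, 1], (0, 0), (3, 12)),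
  ([7, 2, 4, 5, 3, 6, 0, 1], (64, 3), (3, 3)),
  ([6, 2, 0, 4, 3, 5, 7, 1], (0, 0), (17, 125)),
  ([7, 3, 2, 5, 4, 6, 0, 1], (64, 3), (64, 1)),
  ([7, 1, 3, 5, 4, 6, 0, 2], (0, 0), (36, 3)),
  ([7, 3, 1, 4, 5, 6, 0, 2], (0, 0), (87, 54)),
  ([7, 0, 3, 4, 5, 6, 1, 2], (0, 0), (36, 3)),
  ([0, 2, 4, 5, 6, 7, 1, 3], (0, 11), (14, 19)),
  ([7, 2, 1, 4, 5, 6, 3, 0], (0, 0), (36, 17)),
  ([7, 0, 2, 4, 5, 6, 3, 1], (0, 0), (87, 104)),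
  ([0, 2, 3, 5, 6, 7, 4, 1], (0, 0), (19, 64)),
  ([7, 2, 0, 3, 5, 6, 4, 1], (0, 85), (94, 17)),
  ([0, 3, 2, 4, 6, 7, 5, 1], (0, 0), (19, 64)),
  ([7, 2, 3, 4, 1, 6, 5, 0], (63, 38), (17, 36)),
  ([7, 0, 3, 4, 2, 6, 5, 1], (0, 0), (17, 93)),
  ([0, 2, 4, 5, 3, 7, 6, 1], (0, 44), (14, 19)),
  ([7, 2, 0, 4, 3, 6, 5, 1], (0, 0), (3, 12)),
  ([0, 3, 2, 5, 4, 7, 6, 1], (0, 0), (3, 3)),
  ([0, 1, 3, 5, 4, 7, 6, 2], (1, 0), (1, 1)),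
  ([1, 3, 4, 6, 5, 0, 7, 2], (0, 3), (93, 36)),
  ([0, 3, 1, 4, 5, 7, 6, 2], (0, 0), (12, 46)),
  ([1, 4, 3, 5, 6, 0, 7, 2], (0, 3), (36, 109)),
  ([0, 3, 4, 5, 6, 1, 7, 2], (0, 11), (14, 19)),
  ([0, 1, 4, 5, 3, 6, 7, 2], (1, 0), (1, 1)),
  ([0, 3, 1, 5, 4, 6, 7, 2], (0, 0), (12, 54)),
  ([1, 2, 4, 6, 5, 7, 0, 3], (0, 0), (3, 104)),
  ([1, 3, 0, 4, 5, 6, 7, 2], (0, 0), (12, 46)),
  ([1, 4, 2, 5, 6, 7, 0, 3], (0, 0), (19, 64)),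
  ([2, 3, 5, 6, 7, 0, 1, 4], (40, 0), (1, 14)),
  ([1, 2, 0, 4, 5, 6, 3, 7], (0, 85), (122, 94)),
  ([1, 3, 2, 5, 6, 7, 4, 0], (0, 0), (19, 64)),
  ([2, 3, 4, 6, 7, 0, 5, 1], (21, 0), (1, 14)),
  ([2, 4, 3, 5, 7, 0, 6, 1], (21, 0), (2, 79)),
  ([2, 3, 5, 6, 4, 0, 7, 1], (38, 3), (1, 14)),
  ([2, 3, 1, 5, 4, 7, 6, 0], (0, 55), (1, 14)),
  ([2, 4, 3, 6, 5, 0, 7, 1], (21, 3), (36, 93)),
  ([2, 3, 0, 4, 5, 7, 6, 1], (0, 0), (1, 14)),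
  ([3, 4, 2, 5, 6, 0, 7, 1], (55, 3), (2, 79)),
  ([5, 2, 3, 4, 1, 6, 7, 0], (45, 0), (3, 3)),
  ([5, 0, 3, 4, 2, 6, 7, 1], (0, 0), (17, 93)),
  ([6, 2, 4, 5, 3, 7, 0, 1], (64, 44), (3, 104)),
  ([5, 2, 0, 4, 3, 6, 7, 1], (0, 0), (17, 70)),
  ([6, 3, 2, 5, 4, 7, 0, 1], (64, 0), (64, 1)),
  ([6, 1, 3, 5, 4, 7, 0, 2], (0, 33), (36, 104)),
  ([7, 3, 4, 6, 5, 0, 1, 2], (0, 3), (122, 46)),
  ([6, 2, 3, 4, 0, 5, 7, 1], (0, 24), (17, 125)),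
  ([7, 3, 4, 5, 2, 6, 0, 1], (64, 3), (3, 104)),
  ([7, 1, 4, 5, 3, 6, 0, 2], (0, 0), (14, 19)),
  ([7, 3, 1, 5, 4, 6, 0, 2], (32, 0), (87, 17)),
  ([7, 0, 3, 5, 4, 6, 1, 2], (0, 0), (36, 12)),
  ([0, 2, 4, 6, 5, 7, 1, 3], (0, 0), (3, 122)),
  ([7, 3, 0, 4, 5, 6, 1, 2], (0, 0), (87, 94)),
  ([0, 4, 2, 5, 6, 7, 1, 3], (0, 11), (19, 64)),
  ([0, 1, 4, 5, 6, 7, 2, 3], (1, 7), (1, 1)),
  ([7, 2, 0, 4, 5, 6, 3, 1], (0, 85), (36, 46)),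
  ([0, 3, 2, 5, 6, 7, 4, 1], (0, 0), (19, 64)),
  ([0, 1, 3, 5, 6, 7, 4, 2], (1, 60), (1, 1)),
  ([1, 3, 4, 6, 7, 0, 5, 2], (0, 0), (87, 122)),
  ([1, 4, 3, 5, 7, 0, 6, 2], (0, 0), (36, 109)),
  ([0, 1, 4, 5, 3, 7, 6, 2], (1, 33), (1, 1)),
  ([0, 3, 1, 5, 4, 7, 6, 2], (0, 0), (12, 94)),
  ([1, 4, 3, 6, 5, 0, 7, 2], (0, 3), (3, 3)),
  ([1, 2, 4, 6, 5, 0, 7, 3], (33, 0), (93, 70)),
  ([0, 3, 4, 6, 5, 1, 7, 2], (0, 0), (93, 70)),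
  ([1, 3, 0, 4, 5, 7, 6, 2], (0, 0), (12, 17)),
  ([1, 4, 2, 5, 6, 0, 7, 3], (0, 0), (36, 125)),
  ([0, 4, 3, 5, 6, 1, 7, 2], (0, 11), (36, 125)),
  ([1, 2, 5, 6, 4, 7, 0, 3], (0, 0), (3, 122)),
  ([1, 3, 0, 5, 4, 6, 7, 2], (0, 0), (12, 94)),
  ([1, 4, 2, 6, 5, 7, 0, 3], (0, 0), (93, 12)),
  ([2, 3, 5, 7, 6, 0, 1, 4], (0, 36), (1, 14)),
  ([2, 4, 1, 5, 6, 7, 0, 3], (0, 0), (19, 64)),
  ([2, 5, 3, 6, 7, 0, 1, 4], (0, 0), (12, 36)),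
  ([3, 4, 6, 7, 0, 1, 2, 5], (19, 36), (14, 64)),
  ([2, 4, 3, 6, 7, 0, 5, 1], (21, 0), (36, 93)),
  ([3, 4, 5, 7, 0, 1, 6, 2], (19, 0), (19, 1)),
  ([3, 5, 4, 6, 0, 1, 7, 2], (19, 3), (19, 1)),
  ([2, 3, 0, 5, 4, 7, 6, 1], (0, 0), (1, 14)),
  ([3, 4, 1, 5, 6, 0, 7, 2], (0, 3), (36, 109)),
  ([6, 3, 4, 5, 2, 7, 0, 1], (64, 44), (3, 3)),
  ([6, 1, 4, 5, 3, 7, 0, 2], (59, 33), (14, 19)),
  ([6, 3, 1, 5, 4, 7, 0, 2], (0, 90), (87, 46)),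
  ([7, 4, 3, 6, 5, 0, 1, 2], (0, 3), (17, 17)),
  ([6, 0, 3, 5, 4, 7, 1, 2], (0, 59), (36, 122)),
  ([7, 3, 4, 6, 5, 1, 0, 2], (0, 0), (122, 17)),
  ([7, 0, 4, 5, 3, 6, 1, 2], (0, 0), (14, 19)),
  ([0, 2, 5, 6, 4, 7, 1, 3], (0, 33), (3, 104)),
  ([0, 4, 2, 6, 5, 7, 1, 3], (0, 0), (93, 3)),
  ([0, 1, 4, 6, 5, 7, 2, 3], (1, 59), (1, 1)),
  ([1, 3, 5, 7, 6, 0, 2, 4], (33, 36), (36, 3)),
  ([0, 4, 1, 5, 6, 7, 2, 3], (32, 11), (2, 27)),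
  ([1, 4, 3, 6, 7, 0, 5, 2], (0, 0), (7, 9)),
  ([0, 3, 4, 6, 7, 1, 5, 2], (0, 0), (87, 104)),
  ([2, 4, 5, 7, 0, 1, 6, 3], (19, 61), (19, 1)),
  ([0, 4, 3, 5, 7, 1, 6, 2], (0, 0), (36, 125)),
  ([2, 5, 4, 6, 0, 1, 7, 3], (19, 3), (19, 1)),
  ([1, 3, 0, 5, 4, 7, 6, 2], (0, 0), (12, 54)),
  ([1, 4, 2, 6, 5, 0, 7, 3], (0, 0), (3, 104)),
  ([0, 4, 3, 6, 5, 1, 7, 2], (0, 0), (3, 12)),
  ([2, 3, 5, 7, 6, 1, 0, 4], (0, 0), (1, 14)),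
  ([1, 4, 5, 7, 6, 2, 0, 3], (0, 0), (104, 46)),
  ([2, 4, 1, 5, 6, 0, 7, 3], (0, 0), (36, 125)),
  ([0, 4, 2, 5, 6, 1, 7, 3], (0, 11), (36, 109)),
  ([2, 5, 3, 6, 7, 1, 0, 4], (0, 85), (12, 70)),
  ([2, 3, 6, 7, 5, 0, 1, 4], (33, 36), (1, 14)),
  ([2, 4, 1, 6, 5, 7, 0, 3], (32, 0), (70, 12)),
  ([2, 5, 3, 7, 6, 0, 1, 4], (0, 108), (12, 87)),
  ([2, 4, 0, 5, 6, 7, 1, 3], (0, 30), (19, 64)),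
  ([3, 5, 2, 6, 7, 0, 1, 4], (0, 0), (12, 70)),
  ([3, 6, 4, 7, 0, 1, 2, 5], (19, 0), (19, 1)),
  ([3, 5, 4, 7, 0, 1, 6, 2], (19, 0), (19, 1)),
  ([4, 5, 6, 0, 1, 2, 7, 3], (61, 0), (1, 19)),
  ([3, 4, 1, 6, 5, 0, 7, 2], (103, 3), (7, 9)),
  ([3, 4, 0, 5, 6, 1, 7, 2], (0, 30), (36, 125)),
  ([6, 3, 0, 5, 4, 7, 1, 2], (0, 90), (87, 17)),
  ([7, 4, 3, 6, 5, 1, 0, 2], (0, 0), (17, 46)),
  ([0, 4, 5, 7, 6, 2, 1, 3], (0, 0), (104, 17)),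
  ([0, 1, 5, 6, 4, 7, 2, 3], (1, 59), (1, 1)),
  ([1, 5, 3, 7, 6, 0, 2, 4], (90, 93), (12, 123)),
  ([0, 4, 3, 6, 7, 1, 5, 2], (0, 0), (7, 28)),
  ([2, 5, 4, 7, 0, 1, 6, 3], (19, 113), (19, 1)),
  ([1, 4, 5, 7, 0, 2, 6, 3], (0, 0), (54, 94)),
  ([1, 5, 4, 6, 0, 2, 7, 3], (4, 11), (54, 17)),
  ([2, 4, 1, 6, 5, 0, 7, 3], (106, 0), (7, 78)),
  ([0, 4, 2, 6, 5, 1, 7, 3], (0, 90), (3, 122)),
  ([2, 5, 3, 7, 6, 1, 0, 4], (0, 85), (12, 115)),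
  ([1, 5, 4, 7, 6, 2, 0, 3], (0, 0), (104, 94)),
  ([3, 4, 6, 0, 7, 2, 1, 5], (105, 20), (17, 109)),
  ([2, 5, 6, 0, 7, 3, 1, 4], (0, 20), (17, 125)),
  ([2, 4, 0, 5, 6, 1, 7, 3], (0, 30), (36, 109)),
  ([3, 5, 2, 6, 7, 1, 0, 4], (0, 85), (12, 36)),
  ([3, 5, 2, 7, 6, 0, 1, 4], (0, 108), (12, 115)),
  ([4, 6, 3, 7, 0, 1, 2, 5], (19, 108), (19, 1)),
  ([4, 7, 5, 0, 1, 2, 3, 6], (108, 0), (12, 17)),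
  ([4, 6, 5, 0, 1, 2, 7, 3], (6, 3), (122, 46)),
  ([0, 5, 4, 7, 6, 2, 1, 3], (0, 0), (104, 54)),
  ([1, 5, 6, 0, 7, 3, 2, 4], (10, 11), (17, 125)),
  ([1, 5, 4, 7, 0, 2, 6, 3], (100, 0), (54, 46)),
  ([0, 4, 5, 7, 1, 2, 6, 3], (0, 0), (54, 54)),
  ([2, 5, 6, 0, 1, 3, 7, 4], (0, 20), (87, 12)),
  ([3, 5, 2, 7, 6, 1, 0, 4], (0, 85), (12, 87)),
  ([2, 6, 5, 0, 7, 3, 1, 4], (0, 11), (3, 104)),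
  ([2, 5, 6, 1, 7, 3, 0, 4], (0, 0), (17, 109)),
  ([5, 0, 6, 1, 2, 3, 4, 7], (77, 39), (19, 14)),
  ([1, 6, 5, 0, 7, 3, 2, 4], (10, 11), (17, 70)),
  ([2, 6, 5, 0, 1, 3, 7, 4], (0, 11), (36, 54)),
  ([1, 5, 6, 0, 2, 3, 7, 4], (77, 20), (19, 14)),
  ([2, 5, 6, 1, 0, 3, 7, 4], (0, 0), (87, 3)),
  ([2, 6, 5, 1, 7, 3, 0, 4], (0, 0), (3, 122)),
  ([3, 6, 7, 2, 0, 4, 1, 5], (0, 44), (10, 120)),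
  ([2, 6, 5, 1, 0, 3, 7, 4], (0, 0), (36, 94)),
  ([3, 6, 7, 2, 1, 4, 0, 5], (0, 73), (10, 120)),
  ([3, 7, 6, 2, 0, 4, 1, 5], (0, 44), (10, 120)),
  ([3, 7, 6, 2, 1, 4, 0, 5], (0, 73), (10, 120))]

abbrev P8 := Equiv.Perm (Fin 8)

/-- The array of a permutation. -/
def arr (σ : P8) : List ℕ := List.ofFn fun i => (σ i).val

/-- Composition of arrays. -/
def comp (a b : List ℕ) : List ℕ := b.map fun j => a.getD j 0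

theorem arr_mul (σ τ : P8) : arr (σ * τ) = comp (arr σ) (arr τ) := by
  unfold arr comp
  rw [List.map_ofFn]
  congr 1
  funext i
  show (σ (τ i)).val = (List.ofFn fun i => (σ i).val).getD (τ i).val 0
  generalize τ i = j
  fin_cases j <;> rfl

theorem arr_injective : Function.Injective arr := fun σ τ h => by
  have h1 := List.ofFn_inj.mp h
  exact Equiv.ext fun i => Fin.ext (congrFun h1 i)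

/-- The generators of a Sylow subgroup. -/
def gen : ℕ → P8
  | 0 => Equiv.swap 0 1
  | 1 => Equiv.swap 0 2 * Equiv.swap 1 3
  | _ => Equiv.swap 0 4 * Equiv.swap 1 5 * Equiv.swap 2 6 * Equiv.swap 3 7

/-- The arrays of the generators. -/
def genArr : ℕ → List ℕ
  | 0 => [1, 0, 2, 3, 4, 5, 6, 7]
  | 1 => [2, 3, 0, 1, 4, 5, 6, 7]
  | _ => [4, 5, 6, 7, 0, 1, 2, 3]

theorem arr_gen : ∀ k, arr (gen k) = genArr k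
  | 0 => by decide
  | 1 => by decide
  | _ + 2 => by simp only [gen, genArr]; decide

/-- The permutation of a word. -/
def wordPerm : List ℕ → P8
  | [] => 1
  | k :: w => gen k * wordPerm w

/-- The array of a word. -/
def wordArr : List ℕ → List ℕ
  | [] => [0, 1, 2, 3, 4, 5, 6, 7]
  | k :: w => comp (genArr k) (wordArr w)

theorem arr_wordPerm : ∀ w, arr (wordPerm w) = wordArr w
  | [] => by simp only [wordPerm, wordArr]; decide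
  | k :: w => by rw [wordPerm, wordArr, arr_mul, arr_gen, arr_wordPerm w]

/-- The elements. -/
def els : List (List ℕ) := words.map wordArr

/-- The Sylow subgroup. -/
def H0 : Subgroup P8 := Subgroup.closure {gen 0, gen 1, gen 2}

set_option maxRecDepth 100000 in
theorem els_closed : ∀ a ∈ els, comp a (genArr 0) ∈ els ∧ comp a (genArr 1) ∈ els ∧ comp a (genArr 2) ∈ els := by
  decide +kernel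

set_option maxRecDepth 100000 in
theorem els_nodup : els.Nodup ∧ els.length = 128 := by decide +kernel

theorem wordPerm_mem (w : List ℕ) : wordPerm w ∈ H0 := by
  have hg : ∀ k, gen k ∈ H0 := by
    intro k
    refine Subgroup.subset_closure ?_
    rcases k with _ | _ | k
    · exact Or.inl rfl
    · exact Or.inr (Or.inl rfl)
    · exact Or.inr (Or.inr rfl)
  induction w with
  | nil => exact H0.one_mem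
  | cons k w ih => exact H0.mul_mem (hg k) ih

theorem mem_els_iff (σ : P8) : arr σ ∈ els ↔ σ ∈ H0 := by
  constructor
  · intro h
    obtain ⟨w, -, hw⟩ := List.mem_map.mp h
    rw [← arr_wordPerm] at hw
    rw [← arr_injective hw]
    exact wordPerm_mem w
  · intro h
    have h' : σ ∈ Submonoid.closure ({gen 0, gen 1, gen 2} : Set P8) := by
      rw [← Subgroup.closure_toSubmonoid_of_finite]; exact h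
    clear h
    induction h' using Submonoid.closure_induction_right with
    | one => rw [show arr (1 : P8) = wordArr [] from (arr_wordPerm [] : _)]; decide +kernel
    | mul_right x _ y hy ih =>
      rw [arr_mul]
      rcases hy with rfl | rfl | rfl <;> rw [arr_gen]
      · exact (els_closed _ ih).1
      · exact (els_closed _ ih).2.1
      · exact (els_closed _ ih).2.2

theorem card_H0 : Nat.card H0 = 128 := by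
  classical
  have e : H0 ≃ {a // a ∈ els} := Equiv.ofBijective (fun σ => ⟨arr σ.1, (mem_els_iff _).mpr σ.2⟩)
    ⟨fun a b h => Subtype.ext (arr_injective (congrArg Subtype.val h)), fun a => by
      obtain ⟨w, -, hw⟩ := List.mem_map.mp a.2
      exact ⟨⟨wordPerm w, wordPerm_mem w⟩, Subtype.ext ((arr_wordPerm w).trans hw)⟩⟩
  rw [Nat.card_congr e, ← els_nodup.2, ← List.toFinset_card_of_nodup els_nodup.1, ← Nat.card_eq_finsetCard]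
  exact Nat.card_congr (Equiv.subtypeEquivRight fun x => List.mem_toFinset.symm)

/-- The coset representatives. -/
def reps : List (List ℕ) := rows.map Prod.fst

/-- The element with a given index. -/
def elAt (i : ℕ) : List ℕ := els.getD i []

set_option maxRecDepth 100000 in
theorem check_rows : ∀ e ∈ rows,
    (elAt e.2.1.1 ∈ els ∧ comp (comp [1, 0, 2, 3, 4, 5, 6, 7] e.1) (elAt e.2.1.1) ∈ reps) ∧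
    (elAt e.2.1.2 ∈ els ∧ comp (comp [1, 2, 3, 4, 5, 6, 7, 0] e.1) (elAt e.2.1.2) ∈ reps) ∧
    (elAt e.2.2.1 ∈ els ∧ elAt e.2.2.2 ∈ els ∧ elAt e.2.2.1 ≠ [0, 1, 2, 3, 4, 5, 6, 7] ∧
      comp e.1 (elAt e.2.2.1) = comp (elAt e.2.2.2) e.1) := by decide +kernel

theorem exists_perm {a : List ℕ} (h : a ∈ els) : ∃ σ ∈ H0, arr σ = a := by
  obtain ⟨w, -, hw⟩ := List.mem_map.mp h
  exact ⟨wordPerm w, wordPerm_mem w, (arr_wordPerm w).trans hw⟩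

theorem coset_cover (y : P8) : ∃ h ∈ H0, arr (y * h) ∈ reps := by
  have hy : y ∈ Submonoid.closure ({finRotate 8, Equiv.swap 0 1} : Set P8) := by
    have h1 : Subgroup.closure ({finRotate 8, Equiv.swap 0 1} : Set P8) = ⊤ := by
      have h2 : finRotate 8 (0 : Fin 8) = 1 := by decide
      have := Equiv.Perm.closure_cycle_adjacent_swap (isCycle_finRotate_of_le (n := 8) (by norm_num))
        (support_finRotate_of_le (n := 8) (by norm_num)) (0 : Fin 8)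
      rwa [h2] at this
    have h3 : (Subgroup.closure ({finRotate 8, Equiv.swap 0 1} : Set P8)).toSubmonoid = _ := Subgroup.closure_toSubmonoid_of_finite
    rw [h1] at h3
    rw [← h3]
    exact Subgroup.mem_top y
  induction hy using Submonoid.closure_induction_left with
  | one =>
    refine ⟨1, H0.one_mem, ?_⟩
    rw [show arr ((1 : P8) * 1) = [0, 1, 2, 3, 4, 5, 6, 7] by decide]
    decide +kernel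
  | mul_left a ha y _ ih =>
    obtain ⟨h, hh, hr⟩ := ih
    obtain ⟨e, he, her⟩ := List.mem_map.mp hr
    obtain ⟨⟨c0, d0⟩, ⟨c1, d1⟩, -⟩ := check_rows e he
    rcases ha with rfl | rfl
    · obtain ⟨k, hk, hka⟩ := exists_perm c1
      refine ⟨h * k, H0.mul_mem hh hk, ?_⟩
      rw [show finRotate 8 * y * (h * k) = finRotate 8 * (y * h) * k by group, arr_mul, arr_mul, ← her, hka,
        show arr (finRotate 8 : P8) = [1, 2, 3, 4, 5, 6, 7, 0] by decide]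
      exact d1
    · obtain ⟨k, hk, hka⟩ := exists_perm c0
      refine ⟨h * k, H0.mul_mem hh hk, ?_⟩
      rw [show Equiv.swap 0 1 * y * (h * k) = Equiv.swap 0 1 * (y * h) * k by group, arr_mul, arr_mul, ← her, hka,
        show arr (Equiv.swap 0 1 : P8) = [1, 0, 2, 3, 4, 5, 6, 7] by decide]
      exact d0

theorem exists_common (y : P8) : ∃ σ : P8, σ ≠ 1 ∧ σ ∈ H0 ∧ y⁻¹ * σ * y ∈ H0 := by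
  obtain ⟨h, hh, hr⟩ := coset_cover y
  obtain ⟨e, he, her⟩ := List.mem_map.mp hr
  obtain ⟨-, -, c2, c1, hne, heq⟩ := check_rows e he
  obtain ⟨k2, hk2, ha2⟩ := exists_perm c2
  obtain ⟨k1, hk1, ha1⟩ := exists_perm c1
  have h1 : (y * h) * k2 = k1 * (y * h) := arr_injective (by rw [arr_mul (y * h), arr_mul k1, ha1, ha2, ← her]; exact heq)
  have h2 : k2 ≠ 1 := fun e' => hne (by rw [← ha2, e']; decide)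
  refine ⟨k1, fun e' => h2 ?_, hk1, ?_⟩
  · rw [e', one_mul] at h1
    exact mul_eq_left.mp h1
  · rw [show y⁻¹ * k1 * y = h * ((y * h)⁻¹ * (k1 * (y * h))) * h⁻¹ by group, ← h1, inv_mul_cancel_left]
    exact H0.mul_mem (H0.mul_mem hh hk2) (H0.inv_mem hh)

/-- Any two Sylow 2-subgroups meet. -/
theorem sylow_inter_ne_bot (H : Sylow 2 P8) (x : P8) :
    (H : Subgroup P8) ⊓ (H : Subgroup P8).map (MulAut.conj x).toMonoidHom ≠ ⊥ := by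
  haveI : Fact (Nat.Prime 2) := ⟨Nat.prime_two⟩
  have hfact : (Nat.card P8).factorization 2 = 7 := by
    rw [Nat.card_perm, Nat.card_fin]
    rw [show Nat.factorial 8 = 2 ^ 7 * 315 by decide, Nat.factorization_mul (by norm_num) (by norm_num),
      Nat.Prime.factorization_pow Nat.prime_two, Finsupp.add_apply, Finsupp.single_eq_same,
      Nat.factorization_eq_zero_of_not_dvd (by norm_num)]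
  let S0 : Sylow 2 P8 := Sylow.ofCard H0 (by rw [card_H0, hfact]; norm_num)
  obtain ⟨g, hg⟩ := MulAction.exists_smul_eq P8 S0 H
  have hmem : ∀ σ : P8, σ ∈ (H : Subgroup P8) ↔ g⁻¹ * σ * g ∈ H0 := by
    intro σ
    rw [← hg, ← SetLike.mem_coe, Sylow.coe_subgroup_smul, Subgroup.coe_pointwise_smul, Set.mem_smul_set_iff_inv_smul_mem]
    simp [S0, MulAut.inv_def, MulAut.smul_def]
  obtain ⟨σ, hσ1, hσ, hσy⟩ := exists_common (g⁻¹ * x * g)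
  intro hbot
  have h1 : g * σ * g⁻¹ ∈ (H : Subgroup P8) := by
    rw [hmem, show g⁻¹ * (g * σ * g⁻¹) * g = σ by group]
    exact hσ
  have h2 : g * σ * g⁻¹ ∈ (H : Subgroup P8).map (MulAut.conj x).toMonoidHom := by
    refine ⟨x⁻¹ * (g * σ * g⁻¹) * x, ?_, by simp [MulAut.conj_apply]; group⟩
    rw [SetLike.mem_coe, hmem]
    convert hσy using 1
    group
  have h3 : g * σ * g⁻¹ = 1 := Subgroup.mem_bot.mp (hbot ▸ Subgroup.mem_inf.mpr ⟨h1, h2⟩)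
  rw [mul_inv_eq_one, mul_eq_left] at h3
  exact hσ1 h3

end CfsgLib.Recognition.SylowEight
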