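import Mathlib

/-! The element orders of the symmetric and alternating groups of degree 8. -/

set_option autoImplicit false

namespace CfsgLib.Recognition.SymEightSpectrum

/-- The element orders of the symmetric group. -/
def spec : Finset ℕ := {1, 2, 3, 4, 5, 6, 7, 8, 10, 12, 15}

/-- Search over lists of parts. -/
def check : ℕ → ℕ → ℕ → Bool
  | 0, _, l => decide (l ∈ spec)
  | f + 1, b, l => decide (l ∈ spec) &&
      (List.range (b + 1)).all (fun a => decide (a < 2) || check f (b - a) (Nat.lcm a l))

theorem check_eight : check 4 8 1 = true := by decide +kernel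

theorem lcm_mem_of_check (m : Multiset ℕ) : ∀ f b l, check f b l = true → m.sum ≤ b →
    Multiset.card m ≤ f → (∀ a ∈ m, 2 ≤ a) → Nat.lcm m.lcm l ∈ spec := by
  induction m using Multiset.induction_on with
  | empty =>
    intro f b l h _ _ _
    rw [Multiset.lcm_zero, Nat.lcm_one_left]
    cases f <;> simp only [check, Bool.and_eq_true, decide_eq_true_eq] at h
    · exact h
    · exact h.1
  | cons a m ih =>
    intro f b l h hb hf h2
    rw [Multiset.sum_cons] at hb
    rw [Multiset.card_cons] at hf
    obtain ⟨f, rfl⟩ : ∃ g, f = g + 1 := ⟨f - 1, by omega⟩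
    simp only [check, Bool.and_eq_true, List.all_eq_true, List.mem_range, Bool.or_eq_true,
      decide_eq_true_eq] at h
    have ha : 2 ≤ a := h2 a (Multiset.mem_cons_self a m)
    have := ih f (b - a) (Nat.lcm a l) ((h.2 a (by omega)).resolve_left (by omega))
      (by omega) (by omega) (fun x hx => h2 x (Multiset.mem_cons_of_mem hx))
    rw [Multiset.lcm_cons]
    change Nat.lcm (Nat.lcm a m.lcm) l ∈ spec
    rwa [Nat.lcm_comm a m.lcm, Nat.lcm_assoc]

theorem orderOf_mem (g : Equiv.Perm (Fin 8)) : orderOf g ∈ spec := by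
  rw [← Equiv.Perm.lcm_cycleType]
  have h2 : ∀ a ∈ g.cycleType, 2 ≤ a := fun a ha => Equiv.Perm.two_le_of_mem_cycleType ha
  have hs : g.cycleType.sum ≤ 8 := by
    rw [Equiv.Perm.sum_cycleType]
    exact (Finset.card_le_univ _).trans (Fintype.card_fin 8).le
  have hc := Multiset.card_nsmul_le_sum h2
  rw [smul_eq_mul] at hc
  have := lcm_mem_of_check _ 4 8 1 check_eight hs (by omega) h2
  rwa [Nat.lcm_one_right] at this

theorem exists_of_cycleType (m : List ℕ) (hm : m.sum ≤ 8) (h2 : ∀ a ∈ m, 2 ≤ a) :
    ∃ g : Equiv.Perm (Fin 8), orderOf g = (m : Multiset ℕ).lcm := by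
  obtain ⟨σ, hσ⟩ := (Equiv.Perm.exists_with_cycleType_iff (α := Fin 8) (m := (m : Multiset ℕ))).mpr
    ⟨by simpa using hm, fun a ha => h2 a (Multiset.mem_coe.mp ha)⟩
  exact ⟨σ, by rw [← Equiv.Perm.lcm_cycleType, hσ]⟩

theorem range_orderOf : Set.range (orderOf : Equiv.Perm (Fin 8) → ℕ) = ↑spec := by
  ext n
  refine ⟨fun ⟨g, h⟩ => h ▸ orderOf_mem g, fun hn => ?_⟩
  simp only [spec, Finset.mem_coe, Finset.mem_insert, Finset.mem_singleton] at hn
  rcases hn with rfl | rfl | rfl | rfl | rfl | rfl | rfl | rfl | rfl | rfl | rfl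
  · exact exists_of_cycleType [] (by decide) (by decide)
  · exact exists_of_cycleType [2] (by decide) (by decide)
  · exact exists_of_cycleType [3] (by decide) (by decide)
  · exact exists_of_cycleType [4] (by decide) (by decide)
  · exact exists_of_cycleType [5] (by decide) (by decide)
  · exact exists_of_cycleType [6] (by decide) (by decide)
  · exact exists_of_cycleType [7] (by decide) (by decide)
  · exact exists_of_cycleType [8] (by decide) (by decide)
  · exact exists_of_cycleType [5, 2] (by decide) (by decide)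
  · exact exists_of_cycleType [4, 3] (by decide) (by decide)
  · exact exists_of_cycleType [5, 3] (by decide) (by decide)

end CfsgLib.Recognition.SymEightSpectrum
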