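import Mathlib
import Cfsg.Agent.Lib.Recognition.BinaryS5
import Cfsg.Agent.Lib.Recognition.AltTenSpectrum

/-!
A group with the element orders of `A₁₀`: the semidirect product of `F₇⁴ × M` by `2.S₅`, where `M` is
the `F₃`-module of functions on `2.S₅` that change sign under the central involution.
-/

namespace CfsgLib.Recognition.TenCover

open Matrix BinaryS5

/-- The module. -/
def W : AddSubgroup ((Fin 4 → ZMod 7) × (K → ZMod 3)) where
  carrier := {p | ∀ k, p.2 (k * z) = - p.2 k}
  zero_mem' := fun k => by simp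
  add_mem' := fun {a b} ha hb k => by simp only [Prod.snd_add, Pi.add_apply, ha k, hb k]; abel
  neg_mem' := fun {a} ha k => by simp only [Prod.snd_neg, Pi.neg_apply, ha k]

/-- The action of an element. -/
noncomputable def act (g : K) : W →+ W where
  toFun w := ⟨(val g *ᵥ w.1.1, fun k => w.1.2 (g⁻¹ * k)), fun k => by
    change w.1.2 (g⁻¹ * (k * z)) = - w.1.2 (g⁻¹ * k)
    rw [← mul_assoc]; exact w.2 (g⁻¹ * k)⟩
  map_zero' := Subtype.ext (Prod.ext (Matrix.mulVec_zero (val g)) (by rfl))
  map_add' a b := Subtype.ext (Prod.ext (Matrix.mulVec_add (val g) a.1.1 b.1.1) (by rfl))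

theorem act_fst (g : K) (w : W) : (act g w).1.1 = val g *ᵥ w.1.1 := rfl

theorem act_snd (g : K) (w : W) (k : K) : (act g w).1.2 k = w.1.2 (g⁻¹ * k) := rfl

theorem act_one (w : W) : act 1 w = w := by
  apply Subtype.ext
  refine Prod.ext ?_ ?_
  · rw [act_fst, map_one, Matrix.one_mulVec]
  · funext k; rw [act_snd, inv_one, one_mul]

theorem act_mul (g h : K) (w : W) : act (g * h) w = act g (act h w) := by
  apply Subtype.ext
  refine Prod.ext ?_ ?_
  · simp only [act_fst, map_mul, Matrix.mulVec_mulVec]
  · funext k; simp only [act_snd, _root_.mul_inv_rev, mul_assoc]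

/-- The action as a homomorphism. -/
noncomputable def actHom : K →* MulAut (Multiplicative W) where
  toFun g :=
    { toFun := fun w => Multiplicative.ofAdd (act g w.toAdd)
      invFun := fun w => Multiplicative.ofAdd (act g⁻¹ w.toAdd)
      left_inv := fun w => by
        change Multiplicative.ofAdd (act g⁻¹ (act g w.toAdd)) = w
        rw [← act_mul, inv_mul_cancel, act_one, ofAdd_toAdd]
      right_inv := fun w => by
        change Multiplicative.ofAdd (act g (act g⁻¹ w.toAdd)) = w
        rw [← act_mul, mul_inv_cancel, act_one, ofAdd_toAdd]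
      map_mul' := fun a b => by simp only [toAdd_mul, map_add, ofAdd_add] }
  map_one' := MulEquiv.ext fun w => congrArg Multiplicative.ofAdd (act_one w.toAdd)
  map_mul' g h := MulEquiv.ext fun w => congrArg Multiplicative.ofAdd (act_mul g h w.toAdd)

/-- The group. -/
abbrev G := Multiplicative W ⋊[actHom] K

instance : Finite W := Finite.of_injective _ Subtype.val_injective

instance : Finite G := Finite.of_equiv _ SemidirectProduct.equivProd.symm

/-- The translation part of the `j`-th power of `(w, k)`. -/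
noncomputable def S (w : W) (k : K) (j : ℕ) : W := ∑ i ∈ Finset.range j, act (k ^ i) w

theorem pow_eq (w : W) (k : K) (j : ℕ) :
    (⟨Multiplicative.ofAdd w, k⟩ : G) ^ j = ⟨Multiplicative.ofAdd (S w k j), k ^ j⟩ := by
  induction j with
  | zero => simp [S]
  | succ j ih =>
    rw [pow_succ, ih, SemidirectProduct.mul_def]
    refine SemidirectProduct.ext ?_ (pow_succ k j).symm
    change Multiplicative.ofAdd (S w k j) * Multiplicative.ofAdd (act (k ^ j) w) = _
    rw [S, S, Finset.sum_range_succ, ofAdd_add]

theorem act_S (w : W) (k : K) {n : ℕ} (hn : k ^ n = 1) : act k (S w k n) = S w k n := by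
  rw [S, map_sum]
  have h := Finset.sum_range_succ' (fun i => act (k ^ i) w) n
  rw [Finset.sum_range_succ, hn, pow_zero, add_left_inj] at h
  rw [h]
  exact Finset.sum_congr rfl fun i _ => by rw [← act_mul, ← pow_succ']

theorem act_pow_fix {w : W} {k : K} (h : act k w = w) (j : ℕ) : act (k ^ j) w = w := by
  induction j with
  | zero => rw [pow_zero, act_one]
  | succ j ih => rw [pow_succ, act_mul, h, ih]

theorem smul_three_eq_zero {w : W} (h : w.1.1 = 0) : 3 • w = 0 := by
  apply Subtype.ext
  refine Prod.ext ?_ ?_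
  · change 3 • w.1.1 = 0; rw [h, smul_zero]
  · funext x; change 3 • w.1.2 x = 0; rw [nsmul_eq_mul, show ((3 : ℕ) : ZMod 3) = 0 from ZMod.natCast_self 3, zero_mul]

theorem smul_twentyone (w : W) : 21 • w = 0 := by
  apply Subtype.ext
  refine Prod.ext ?_ ?_
  · funext x; change 21 • w.1.1 x = 0; rw [nsmul_eq_mul, show ((21 : ℕ) : ZMod 7) = 0 by decide, zero_mul]
  · funext x; change 21 • w.1.2 x = 0; rw [nsmul_eq_mul, show ((21 : ℕ) : ZMod 3) = 0 by decide, zero_mul]

theorem eq_zero_of_neg_eq {a : ZMod 3} (h : a = -a) : a = 0 := by revert h; revert a; decide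

theorem orderOf_k_mem (k : K) : orderOf k ∈ ({1, 2, 3, 4, 5, 6, 8, 10, 12} : Finset ℕ) := by
  rcases orderOf_dvd_cases k with h | h | h
  all_goals
    have hm := Nat.mem_divisors.mpr ⟨h, by norm_num⟩
    generalize orderOf k = n at hm
    revert n
    decide

theorem orderOf_cases (w : W) (k : K) :
    orderOf (⟨Multiplicative.ofAdd w, k⟩ : G) ∈ AltTenSpectrum.spec := by
  set x : G := ⟨Multiplicative.ofAdd w, k⟩ with hx
  set n := orderOf k with hn
  have hdvd : n ∣ orderOf x := orderOf_map_dvd SemidirectProduct.rightHom x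
  have hmem := orderOf_k_mem k
  rw [← hn] at hmem
  by_cases hk : k = 1
  · have h21 : x ^ 21 = 1 := by
      rw [hx, pow_eq]
      refine SemidirectProduct.ext ?_ (by rw [hk, one_pow]; rfl)
      change Multiplicative.ofAdd (S w k 21) = 1
      simp only [S, hk, one_pow, act_one, Finset.sum_const, Finset.card_range, smul_twentyone]
      rfl
    have hm := Nat.mem_divisors.mpr ⟨orderOf_dvd_of_pow_eq_one h21, by norm_num⟩
    generalize orderOf x = m at hm
    revert m
    decide
  have hfix := act_S w k (n := n) (pow_orderOf_eq_one k)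
  have hv : (S w k n).1.1 = 0 := eq_zero_of_fixed k hk _ (by rw [← act_fst, hfix])
  have hxn : x ^ n = ⟨Multiplicative.ofAdd (S w k n), 1⟩ := by rw [hx, pow_eq, pow_orderOf_eq_one]
  have hx3 : orderOf x ∣ n * 3 := by
    apply orderOf_dvd_of_pow_eq_one
    rw [pow_mul, hxn, pow_eq]
    refine SemidirectProduct.ext ?_ (one_pow _)
    change Multiplicative.ofAdd (S _ 1 3) = 1
    rw [show S (S w k n) 1 3 = 0 by
      rw [← smul_three_eq_zero hv]
      show ∑ i ∈ Finset.range 3, act (1 ^ i) (S w k n) = _
      simp only [one_pow, act_one, Finset.sum_const, Finset.card_range]]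
    rfl
  have heven : 2 ∣ n → orderOf x = n := by
    intro h2
    refine Nat.dvd_antisymm (orderOf_dvd_of_pow_eq_one ?_) hdvd
    have hn0 : n ≠ 0 := by rintro h; rw [h] at hmem; revert hmem; decide
    have hz : k ^ (n / 2) = z := by
      refine (eq_z_of_sq _ ?_).resolve_left ?_
      · rw [← pow_mul, Nat.div_mul_cancel h2, pow_orderOf_eq_one]
      · exact pow_ne_one_of_lt_orderOf (by omega) (by omega)
    have hS : S w k n = 0 := by
      apply Subtype.ext
      refine Prod.ext hv ?_
      funext y
      have h1 := congrFun (congrArg (fun w : W => w.1.2) (act_pow_fix hfix (n / 2))) y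
      rw [act_snd, hz, inv_eq_of_mul_eq_one_left z_sq, z_comm, (S w k n).2 y] at h1
      exact eq_zero_of_neg_eq h1.symm
    rw [hxn, hS]
    rfl
  obtain ⟨d, hd⟩ := hdvd
  have hd3 : d ∣ 3 := by
    rw [hd] at hx3
    exact (Nat.mul_dvd_mul_iff_left (orderOf_pos k)).mp hx3
  rw [hd] at heven ⊢
  have hdm := Nat.mem_divisors.mpr ⟨hd3, by norm_num⟩
  have hn1 : n ≠ 1 := fun h => hk (orderOf_eq_one_iff.mp h)
  generalize n = m at hmem heven hn1
  simp only [Finset.mem_insert, Finset.mem_singleton] at hmem
  rw [Nat.Prime.divisors Nat.prime_three, Finset.mem_insert, Finset.mem_singleton] at hdm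
  rcases hmem with rfl | rfl | rfl | rfl | rfl | rfl | rfl | rfl | rfl
  · exact absurd rfl hn1
  all_goals rcases hdm with rfl | rfl
  all_goals first
    | decide
    | exact absurd (heven (by norm_num)) (by norm_num)

open scoped Classical in
/-- The sign-changing delta function. -/
noncomputable def delta : K → ZMod 3 := fun y => if y = 1 then 1 else if y = z then -1 else 0

open scoped Classical in
theorem delta_mem (v : Fin 4 → ZMod 7) : (v, delta) ∈ W := by
  intro y
  change delta (y * z) = - delta y
  unfold delta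
  by_cases h1 : y = 1
  · subst h1; rw [one_mul, if_neg z_ne_one, if_pos rfl, if_pos rfl]
  by_cases h2 : y = z
  · subst h2; rw [z_sq, if_pos rfl, if_neg z_ne_one, if_pos rfl, neg_neg]
  rw [if_neg h1, if_neg h2, if_neg, if_neg, neg_zero]
  · intro h; exact h1 (by rw [← mul_one y, ← z_sq, ← mul_assoc, h])
  · intro h; exact h2 (by rw [← mul_one y, ← z_sq, ← mul_assoc, h, one_mul])

theorem exists_orderOf {n : ℕ} (hn : n ∈ AltTenSpectrum.spec) : ∃ x : G, orderOf x = n := by
  classical
  have hW : ∀ x : Multiplicative W, orderOf (SemidirectProduct.inl x : G) = orderOf x :=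
    fun x => orderOf_injective _ SemidirectProduct.inl_injective x
  have hK : ∀ {m : ℕ}, m ∈ ({1, 2, 3, 4, 5, 6, 8, 10, 12} : Finset ℕ) → ∃ x : G, orderOf x = m := by
    intro m hm
    obtain ⟨k, hk⟩ := BinaryS5.exists_orderOf hm
    exact ⟨SemidirectProduct.inr k, by rw [orderOf_injective _ SemidirectProduct.inr_injective, hk]⟩
  have hodd : ∀ (m : ℕ), m = 3 ∨ m = 5 → ∃ x : G, orderOf x = m * 3 := by
    intro m hm
    obtain ⟨k, hk⟩ := BinaryS5.exists_orderOf (n := m) (by rcases hm with rfl | rfl <;> decide)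
    let w : W := ⟨(0, delta), delta_mem 0⟩
    refine ⟨⟨Multiplicative.ofAdd w, k⟩, ?_⟩
    have hk1 : k ≠ 1 := fun h => by rw [h, orderOf_one] at hk; omega
    have hv : (S w k m).1.1 = 0 :=
      eq_zero_of_fixed k hk1 _ (by rw [← act_fst, act_S w k (hk ▸ pow_orderOf_eq_one k)])
    have hxm : (⟨Multiplicative.ofAdd w, k⟩ : G) ^ m = ⟨Multiplicative.ofAdd (S w k m), 1⟩ := by
      rw [pow_eq, ← hk, pow_orderOf_eq_one]
    have hne : S w k m ≠ 0 := by
      intro h
      have h' := congrFun (congrArg (fun w : W => w.1.2) h) 1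
      simp only [S, AddSubgroup.val_finsetSum, Prod.snd_sum, Finset.sum_apply] at h'
      rw [Finset.sum_eq_single 0] at h'
      · simp [act_snd, delta, w] at h'
      · intro i hi hi0
        rw [Finset.mem_range] at hi
        change delta ((k ^ i)⁻¹ * 1) = 0
        rw [mul_one]
        have hne1 : k ^ i ≠ 1 := pow_ne_one_of_lt_orderOf hi0 (hk ▸ hi)
        unfold delta
        rw [if_neg (fun h => hne1 (inv_eq_one.mp h)), if_neg]
        intro h
        rw [inv_eq_iff_eq_inv, inv_eq_of_mul_eq_one_left z_sq] at h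
        have hz : z ^ m = 1 := by rw [← h, ← pow_mul, mul_comm, pow_mul, ← hk, pow_orderOf_eq_one, one_pow]
        apply z_ne_one
        rcases hm with rfl | rfl
        · rwa [pow_succ, pow_two, z_sq, one_mul] at hz
        · rwa [pow_succ, pow_succ, pow_succ, pow_two, z_sq, one_mul, z_sq, one_mul] at hz
      · intro h0; exact absurd (Finset.mem_range.mpr (by omega)) h0
    have hd : m ∣ orderOf (⟨Multiplicative.ofAdd w, k⟩ : G) :=
      hk ▸ orderOf_map_dvd SemidirectProduct.rightHom (⟨Multiplicative.ofAdd w, k⟩ : G)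
    obtain ⟨d, hd'⟩ := hd
    have hx3 : orderOf (⟨Multiplicative.ofAdd w, k⟩ : G) ∣ m * 3 := by
      apply orderOf_dvd_of_pow_eq_one
      rw [pow_mul, hxm, pow_eq]
      refine SemidirectProduct.ext ?_ (one_pow _)
      change Multiplicative.ofAdd (S _ 1 3) = 1
      rw [show S (S w k m) 1 3 = 0 by
        rw [← smul_three_eq_zero hv]
        show ∑ i ∈ Finset.range 3, act (1 ^ i) (S w k m) = _
        simp only [one_pow, act_one, Finset.sum_const, Finset.card_range]]
      rfl
    rw [hd'] at hx3 ⊢
    rcases (Nat.dvd_prime Nat.prime_three).mp ((Nat.mul_dvd_mul_iff_left (by omega)).mp hx3) with rfl | rfl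
    · exfalso
      apply hne
      have := pow_orderOf_eq_one (⟨Multiplicative.ofAdd w, k⟩ : G)
      rw [hd', mul_one, hxm] at this
      exact congrArg (fun g : G => g.left.toAdd) this
    · rfl
  have e0 : (Pi.single 0 1 : Fin 4 → ZMod 7) ≠ 0 := fun h => absurd ((Pi.single_eq_same (M := fun _ : Fin 4 => ZMod 7) 0 1).symm.trans (congrFun h 0)) (by decide)
  simp only [AltTenSpectrum.spec, Finset.mem_insert, Finset.mem_singleton] at hn
  rcases hn with rfl | rfl | rfl | rfl | rfl | rfl | rfl | rfl | rfl | rfl | rfl | rfl | rfl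
  case inr.inr.inr.inr.inr.inr.inl =>
    let w : W := ⟨(Pi.single 0 1, 0), fun k => by simp⟩
    refine ⟨SemidirectProduct.inl (Multiplicative.ofAdd w), ?_⟩
    haveI : Fact (Nat.Prime 7) := ⟨by norm_num⟩
    rw [hW, orderOf_ofAdd_eq_addOrderOf]
    refine addOrderOf_eq_prime ?_ ?_
    · apply Subtype.ext
      refine Prod.ext ?_ (smul_zero (7 : ℕ))
      funext i
      change 7 • (Pi.single 0 1 : Fin 4 → ZMod 7) i = 0
      rw [nsmul_eq_mul, show ((7 : ℕ) : ZMod 7) = 0 from ZMod.natCast_self 7, zero_mul]
    · intro h; exact e0 (congrArg (fun w : W => w.1.1) h)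
  case inr.inr.inr.inr.inr.inr.inr.inr.inl => exact hodd 3 (Or.inl rfl)
  case inr.inr.inr.inr.inr.inr.inr.inr.inr.inr.inr.inl => exact hodd 5 (Or.inr rfl)
  case inr.inr.inr.inr.inr.inr.inr.inr.inr.inr.inr.inr =>
    let w : W := ⟨(Pi.single 0 1, delta), delta_mem _⟩
    refine ⟨SemidirectProduct.inl (Multiplicative.ofAdd w), ?_⟩
    rw [hW, orderOf_ofAdd_eq_addOrderOf]
    have h21 : addOrderOf w ∣ 21 := addOrderOf_dvd_iff_nsmul_eq_zero.mpr (smul_twentyone w)
    have h3 : ¬ addOrderOf w ∣ 3 := fun h => by
      have := congrFun (congrArg (fun w : W => w.1.1) (addOrderOf_dvd_iff_nsmul_eq_zero.mp h)) 0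
      change 3 • (Pi.single 0 1 : Fin 4 → ZMod 7) 0 = 0 at this
      rw [Pi.single_eq_same] at this
      revert this; decide
    have h7 : ¬ addOrderOf w ∣ 7 := fun h => by
      have := congrFun (congrArg (fun w : W => w.1.2) (addOrderOf_dvd_iff_nsmul_eq_zero.mp h)) 1
      change 7 • delta 1 = 0 at this
      simp only [delta, if_true] at this
      revert this; decide
    have hm := Nat.mem_divisors.mpr ⟨h21, by norm_num⟩
    generalize addOrderOf w = m at hm h3 h7
    revert hm h3 h7
    revert m
    decide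
  all_goals exact hK (by decide)

theorem range_orderOf : Set.range (orderOf : G → ℕ) = ↑AltTenSpectrum.spec := by
  ext n
  exact ⟨fun ⟨x, h⟩ => h ▸ orderOf_cases x.left.toAdd x.right, fun h => exists_orderOf h⟩

/-- The translations. -/
noncomputable def translations : Subgroup G :=
  (SemidirectProduct.inl : Multiplicative W →* G).range

instance : translations.Normal := by
  rw [translations, SemidirectProduct.range_inl_eq_ker_rightHom]
  exact MonoidHom.normal_ker _

instance : Group.IsSolvable translations :=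
  Group.isSolvable_of_surjective (MonoidHom.rangeRestrict_surjective (SemidirectProduct.inl : Multiplicative W →* G))

theorem translations_ne_bot : translations ≠ ⊥ := by
  intro h
  let w : W := ⟨(Pi.single 0 1, 0), fun k => by simp⟩
  have hm : (SemidirectProduct.inl (Multiplicative.ofAdd w) : G) ∈ translations := ⟨_, rfl⟩
  rw [h, Subgroup.mem_bot] at hm
  have := congrFun (congrArg (fun g : G => g.left.toAdd.1.1) hm) 0
  change (Pi.single 0 1 : Fin 4 → ZMod 7) 0 = 0 at this
  rw [Pi.single_eq_same] at this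
  revert this; decide

end CfsgLib.Recognition.TenCover
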