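import Mathlib
import Cfsg.Agent.Lib.Recognition.ExtremelyPrimitive
import Cfsg.Agent.Lib.Recognition.NearField.IndexTwo

/-!
Doubly transitive groups whose degree is twice an odd number.
-/

set_option linter.style.haveILetI false

namespace CfsgLib.Recognition.TwoModFour

open MulAction
open scoped Pointwise

theorem conj_in {M : Type*} [Group M] [Finite M] {p : ℕ} [Fact p.Prime] (K A A' : Subgroup M) (hA : A ≤ K)
    (hA' : A' ≤ K) {a : ℕ} (hc : Nat.card A = p ^ a) (hc' : Nat.card A' = p ^ a) (hd : ¬ p ^ (a + 1) ∣ Nat.card K) :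
    ∃ k ∈ K, ∀ x ∈ A, k * x * k⁻¹ ∈ A' := by
  have hp := (Fact.out : p.Prime)
  have hK0 : Nat.card K ≠ 0 := Nat.card_pos.ne'
  have hfac : (Nat.card K).factorization p = a := by
    refine le_antisymm ?_ ((hp.pow_dvd_iff_le_factorization hK0).mp (hc ▸ Subgroup.card_dvd_of_le hA))
    by_contra hlt
    exact hd ((hp.pow_dvd_iff_le_factorization hK0).mpr (by omega))
  have h1 : Nat.card (A.subgroupOf K) = p ^ (Nat.card K).factorization p := by
    rw [Nat.card_congr (Subgroup.subgroupOfEquivOfLe hA).toEquiv, hc, hfac]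
  have h2 : Nat.card (A'.subgroupOf K) = p ^ (Nat.card K).factorization p := by
    rw [Nat.card_congr (Subgroup.subgroupOfEquivOfLe hA').toEquiv, hc', hfac]
  obtain ⟨k, hk⟩ := MulAction.exists_smul_eq K (Sylow.ofCard _ h1) (Sylow.ofCard _ h2)
  refine ⟨k, k.2, fun x hx => ?_⟩
  have h3 : (MulAut.conj k • (A.subgroupOf K)) = A'.subgroupOf K := congrArg Sylow.toSubgroup hk
  have h4 : k * ⟨x, hA hx⟩ * k⁻¹ ∈ A'.subgroupOf K := by
    rw [← h3]
    exact Subgroup.smul_mem_pointwise_smul _ _ _ (Subgroup.mem_subgroupOf.mpr hx)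
  exact Subgroup.mem_subgroupOf.mp h4

theorem exists_pair_ne_of_two_lt {Ω : Type*} [Finite Ω] (h : 2 < Nat.card Ω) : ∃ a b : Ω, a ≠ b := by
  haveI : Nontrivial Ω := Finite.one_lt_card_iff_nontrivial.mp (by omega)
  exact exists_pair_ne Ω

theorem exists_third {Ω : Type*} [Finite Ω] (h : 2 < Nat.card Ω) (a b : Ω) : ∃ c, c ≠ a ∧ c ≠ b := by
  classical
  haveI : Fintype Ω := Fintype.ofFinite Ω
  by_contra hall
  push Not at hall
  have h1 : (Finset.univ : Finset Ω) ⊆ {a, b} := fun c _ => by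
    by_cases hc : c = a
    · simp [hc]
    · simp [hall c hc]
  have := (Finset.card_le_card h1).trans Finset.card_le_two
  rw [Finset.card_univ, ← Nat.card_eq_fintype_card] at this
  omega

variable {G : Type*} [Group G] [Finite G] {Ω : Type*} [Finite Ω] [MulAction G Ω] [FaithfulSMul G Ω]

omit [Finite G] [Finite Ω] in
theorem normal_pretransitive (h2 : IsMultiplyPretransitive G Ω 2) (N : Subgroup G) [N.Normal] (hN : N ≠ ⊥) :
    IsPretransitive N Ω := by
  haveI : IsPreprimitive G Ω := isPreprimitive_of_is_two_pretransitive h2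
  exact ExtremelyPrimitive.normal_transitive N hN

set_option maxHeartbeats 800000 in
/-- A nontrivial normal subgroup is doubly transitive. -/
theorem normal_two_trans (h2 : IsMultiplyPretransitive G Ω 2) (hn : Nat.card Ω % 4 = 2) (N : Subgroup G) [N.Normal]
    (hN : N ≠ ⊥) : IsMultiplyPretransitive N Ω 2 := by
  classical
  have h2' : ∀ {a b c d : Ω}, a ≠ b → c ≠ d → ∃ g : G, g • a = c ∧ g • b = d := is_two_pretransitive_iff.mp h2
  haveI := normal_pretransitive h2 N hN
  haveI : Fact (Nat.Prime 2) := ⟨Nat.prime_two⟩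
  haveI : Fintype Ω := Fintype.ofFinite Ω
  suffices key : ∀ α β γ : Ω, β ≠ α → γ ≠ α → ∃ k : N, k • α = α ∧ k • β = γ by
    rw [is_two_pretransitive_iff]
    intro a b c d hab hcd
    obtain ⟨m, hm⟩ := exists_smul_eq N a c
    obtain ⟨k, hk1, hk2⟩ := key c (m • b) d (fun e => hab (smul_left_cancel m (hm.trans e.symm))) hcd.symm
    exact ⟨k * m, by rw [mul_smul, hm, hk1], by rw [mul_smul, hk2]⟩
  intro α β γ hβ hγ
  -- transport along the ambient group
  have hconj : ∀ (g : G) (m : N), ∃ m' : N, ∀ x : Ω, m' • (g • x) = g • (m • x) := by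
    intro g m
    refine ⟨⟨g * (m : G) * g⁻¹, (inferInstance : N.Normal).conj_mem _ m.2 g⟩, fun x => ?_⟩
    show (g * (m : G) * g⁻¹) • g • x = g • ((m : G) • x)
    rw [← mul_smul, inv_mul_cancel_right, mul_smul]
  let S : Subgroup N := stabilizer N α
  have horb : Nat.card N = Nat.card Ω * Nat.card S := by
    rw [← index_stabilizer_of_transitive N α, mul_comm, Subgroup.card_mul_index]
  obtain ⟨P0⟩ : Nonempty (Sylow 2 S) := inferInstance
  let P : Subgroup N := (P0 : Subgroup S).map S.subtype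
  have hPS : P ≤ S := Subgroup.map_subtype_le _
  set a := (Nat.card S).factorization 2 with ha
  have hPcard : Nat.card P = 2 ^ a := by
    rw [← Nat.card_congr (Subgroup.equivMapOfInjective _ S.subtype S.subtype_injective).toEquiv]
    exact P0.card_eq_multiplicity
  have hSd : ¬ 2 ^ (a + 1) ∣ Nat.card S := by
    rw [Nat.Prime.pow_dvd_iff_le_factorization Nat.prime_two Nat.card_pos.ne']
    omega
  have hPp : IsPGroup 2 P := IsPGroup.of_card hPcard
  let F : Set Ω := fixedPoints P Ω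
  have hF : ∀ x, x ∈ F ↔ ∀ p ∈ P, p • x = x := fun x => ⟨fun h p hp => h ⟨p, hp⟩, fun h p => h p.1 p.2⟩
  have hαF : α ∈ F := (hF α).mpr fun p hp => hPS hp
  -- another fixed point
  obtain ⟨δ, hδF, hδ⟩ : ∃ δ ∈ F, δ ≠ α := by
    by_contra hall
    push Not at hall
    have h1 : fixedPoints P Ω = {α} := Set.eq_singleton_iff_unique_mem.mpr ⟨hαF, hall⟩
    have hmod := hPp.card_modEq_card_fixedPoints Ω
    have hc1 : Nat.card ({α} : Set Ω) = 1 := Nat.card_unique
    rw [h1, hc1, Nat.ModEq] at hmod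
    omega
  have hcardst : ∀ x, x ≠ α → 2 ^ a ∣ Nat.card (S ⊓ stabilizer N x : Subgroup N) := by
    intro x hx
    obtain ⟨g, hgα, hgδ⟩ := h2' hδ.symm hx.symm
    have h1 : 2 ^ a ∣ Nat.card (S ⊓ stabilizer N δ : Subgroup N) :=
      hPcard ▸ Subgroup.card_dvd_of_le (le_inf hPS fun p hp => (hF δ).mp hδF p hp)
    let φ : N →* N := (MulAut.conjNormal g).toMonoidHom
    have hφ : Function.Injective φ := (MulAut.conjNormal g).injective
    have hle : (S ⊓ stabilizer N δ).map φ ≤ S ⊓ stabilizer N x := by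
      rintro _ ⟨m, ⟨hm1, hm2⟩, rfl⟩
      have hm1' : (m : G) • α = α := hm1
      have hm2' : (m : G) • δ = δ := hm2
      constructor
      · show ((φ m : N) : G) • α = α
        rw [show ((φ m : N) : G) = g * (m : G) * g⁻¹ from MulAut.conjNormal_apply g m]
        conv_lhs => rw [← hgα, mul_smul, inv_smul_smul, mul_smul, hm1', hgα]
      · show ((φ m : N) : G) • x = x
        rw [show ((φ m : N) : G) = g * (m : G) * g⁻¹ from MulAut.conjNormal_apply g m]
        conv_lhs => rw [← hgδ, mul_smul, inv_smul_smul, mul_smul, hm2', hgδ]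
    rw [Nat.card_congr (Subgroup.equivMapOfInjective _ φ hφ).toEquiv] at h1
    exact h1.trans (Subgroup.card_dvd_of_le hle)
  have hmeet : ∀ x, x ≠ α → ∃ k : N, k • α = α ∧ k • x ∈ F := by
    intro x hx
    obtain ⟨A, hA⟩ := Sylow.exists_subgroup_card_pow_prime 2 (hcardst x hx)
    set A' := A.map (S ⊓ stabilizer N x).subtype with hA'
    have hA'le : A' ≤ S ⊓ stabilizer N x := Subgroup.map_subtype_le _
    have hA'c : Nat.card A' = 2 ^ a := by
      rw [hA', ← Nat.card_congr (Subgroup.equivMapOfInjective _ _ (Subgroup.subtype_injective _)).toEquiv, hA]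
    obtain ⟨k, hk, hkP⟩ := conj_in S P A' hPS (hA'le.trans inf_le_left) hPcard hA'c hSd
    refine ⟨k⁻¹, S.inv_mem hk, (hF _).mpr fun p hp => ?_⟩
    have h1 : (k * p * k⁻¹) • x = x := (hA'le (hkP p hp)).2
    rw [mul_smul, mul_smul, ← eq_inv_smul_iff] at h1
    exact h1
  -- it suffices that only one further point is fixed
  suffices huniq : ∀ x ∈ F, x ≠ α → x = δ by
    obtain ⟨k, hk, hkF⟩ := hmeet β hβ
    obtain ⟨l, hl, hlF⟩ := hmeet γ hγ
    have hkβ := huniq _ hkF (fun e => hβ (smul_left_cancel k (e.trans hk.symm)))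
    have hlγ := huniq _ hlF (fun e => hγ (smul_left_cancel l (e.trans hl.symm)))
    refine ⟨l⁻¹ * k, ?_, ?_⟩
    · rw [mul_smul, hk, inv_smul_eq_iff, hl]
    · rw [mul_smul, hkβ, ← hlγ, inv_smul_smul]
  -- an element swapping two given points
  have hswap : ∀ x, x ≠ α → ∃ m : N, m • α = x ∧ m • x = α := by
    intro x hx
    have heven : 2 ∣ Nat.card N := horb ▸ (show 2 ∣ Nat.card Ω by omega).mul_right _
    obtain ⟨t, ht⟩ := exists_prime_orderOf_dvd_card' (G := N) 2 heven
    obtain ⟨y, hy⟩ : ∃ y : Ω, t • y ≠ y := by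
      by_contra hall
      push Not at hall
      have : t = 1 := eq_of_smul_eq_smul fun y : Ω => by rw [hall, one_smul]
      rw [this, orderOf_one] at ht
      norm_num at ht
    obtain ⟨g, hgy, hgt⟩ := h2' hy.symm hx.symm
    obtain ⟨m, hm⟩ := hconj g t
    refine ⟨m, ?_, ?_⟩
    · rw [← hgy, hm, hgt]
    · rw [← hgt, hm, ← mul_smul t t, ← pow_two, ← ht, pow_orderOf_eq_one, one_smul, hgy]
  let H : Subgroup N := Subgroup.normalizer (P : Set N)
  have hswapH : ∀ x ∈ F, x ≠ α → ∃ m ∈ H, m • α = x ∧ m • x = α := by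
    intro x hxF hx
    obtain ⟨m, hm1, hm2⟩ := hswap x hx
    set K := S ⊓ stabilizer N x
    set P' := P.map (MulAut.conj m).toMonoidHom with hP'
    have hPK : P ≤ K := le_inf hPS fun p hp => (hF x).mp hxF p hp
    have hP'K : P' ≤ K := by
      rintro _ ⟨p, hp, rfl⟩
      have hp1 : p • α = α := hPS hp
      have hp2 : p • x = x := (hF x).mp hxF p hp
      constructor
      · show (m * p * m⁻¹) • α = α
        conv_lhs => rw [← hm2, mul_smul, inv_smul_smul, mul_smul, hp2, hm2]
      · show (m * p * m⁻¹) • x = x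
        conv_lhs => rw [← hm1, mul_smul, inv_smul_smul, mul_smul, hp1, hm1]
    have hP'c : Nat.card P' = 2 ^ a := by
      rw [hP', ← Nat.card_congr (Subgroup.equivMapOfInjective _ _ (MulAut.conj m).injective).toEquiv, hPcard]
    obtain ⟨k, hk, hkP⟩ := conj_in K P' P hP'K hPK hP'c hPcard
      (fun hd => hSd (hd.trans (Subgroup.card_dvd_of_le inf_le_left)))
    have hkα : k • α = α := hk.1
    have hkx : k • x = x := hk.2
    refine ⟨k * m, Subgroup.mem_normalizer_fintype fun p hp => ?_, by rw [mul_smul, hm1, hkx], by rw [mul_smul, hm2, hkα]⟩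
    show k * m * p * (k * m)⁻¹ ∈ P
    have h := hkP _ (Subgroup.mem_map_of_mem (MulAut.conj m).toMonoidHom hp)
    simpa [mul_assoc] using h
  intro x hxF hx
  by_contra hxδ
  obtain ⟨y, hyH, hyα, hyx⟩ := hswapH x hxF hx
  obtain ⟨z, hzH, hzα, hzδ⟩ := hswapH δ hδF hδ
  -- a third swap, of `x` and `δ`
  have hyF : y⁻¹ • δ ∈ F := (hF _).mpr fun p hp => by
    have h1 : y * p * y⁻¹ ∈ P := (Subgroup.mem_normalizer_iff.mp hyH p).mp hp
    have h2 := (hF δ).mp hδF _ h1
    rw [mul_smul, mul_smul, ← eq_inv_smul_iff] at h2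
    exact h2
  obtain ⟨w, hwH, hwα, hwε⟩ := hswapH _ hyF (fun e => hxδ (by rw [inv_smul_eq_iff] at e; rw [← hyα, e]))
  -- the quotient by `P` has twice odd order
  let P1 : Subgroup H := P.subgroupOf H
  haveI : P1.Normal := Subgroup.normal_in_normalizer
  let Q := H ⧸ P1
  let π : H →* Q := QuotientGroup.mk' P1
  have hP1 : Nat.card P1 = 2 ^ a := by
    rw [Nat.card_congr (Subgroup.subgroupOfEquivOfLe Subgroup.le_normalizer).toEquiv, hPcard]
  have hker : ∀ h : H, π h = 1 → (h : N) • α = α := fun h hh =>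
    hPS (Subgroup.mem_subgroupOf.mp ((QuotientGroup.eq_one_iff h).mp hh))
  have heven : ∀ h : H, (h : N) • α ≠ α → (h : N) • (h : N) • α = α → 2 ∣ orderOf (π h) := by
    intro h hne hsq
    by_contra hodd
    obtain ⟨k, hk⟩ : Odd (orderOf (π h)) := Nat.not_even_iff_odd.mp (fun he => hodd he.two_dvd)
    apply hne
    have h1 := hker (h ^ orderOf (π h)) (by rw [map_pow, pow_orderOf_eq_one])
    have h2 : ∀ k : ℕ, ((h : N) ^ (2 * k)) • α = α := by
      intro k
      induction k with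
      | zero => rw [mul_zero, pow_zero, one_smul]
      | succ k ih => rw [Nat.mul_succ, pow_add, mul_smul, pow_two, mul_smul, hsq, ih]
    rw [hk, SubgroupClass.coe_pow, pow_succ', mul_smul, h2] at h1
    exact h1
  have hQdvd : Nat.card Q ∣ 2 * (Nat.card Ω / 2 * (Nat.card S / 2 ^ a)) := by
    have h1 : Nat.card Q * 2 ^ a ∣ Nat.card N := by
      rw [← hP1, ← Subgroup.index_eq_card, mul_comm, P1.card_mul_index]
      exact Subgroup.card_subgroup_dvd_card H
    have hS : 2 ^ a * (Nat.card S / 2 ^ a) = Nat.card S :=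
      Nat.mul_div_cancel' (Nat.ordProj_dvd (Nat.card S) 2)
    have hO : 2 * (Nat.card Ω / 2) = Nat.card Ω := Nat.mul_div_cancel' (by omega)
    refine (Nat.mul_dvd_mul_iff_right (show 0 < 2 ^ a by positivity)).mp (h1.trans (dvd_of_eq ?_))
    rw [horb]
    conv_lhs => rw [← hS, ← hO]
    ring
  have hoddm : ¬ 2 ∣ Nat.card Ω / 2 * (Nat.card S / 2 ^ a) := by
    rw [Nat.Prime.dvd_mul Nat.prime_two]
    rintro (hd | hd)
    · omega
    · exact Nat.not_dvd_ordCompl Nat.prime_two Nat.card_pos.ne' hd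
  have hQ2 : 2 ∣ Nat.card Q := (heven ⟨z, hzH⟩ (by rw [hzα]; exact hδ) (by rw [hzα, hzδ])).trans (orderOf_dvd_natCard _)
  have hQ4 : ¬ 4 ∣ Nat.card Q := fun h4 => hoddm
    ((Nat.mul_dvd_mul_iff_left (show 0 < 2 by norm_num)).mp ((show 2 * 2 ∣ Nat.card Q from h4).trans hQdvd))
  obtain ⟨R⟩ : Nonempty (Sylow 2 Q) := inferInstance
  have hR : Nat.card (R : Subgroup Q) = 2 := by
    rw [R.card_eq_multiplicity]
    have h1 := (Nat.Prime.pow_dvd_iff_le_factorization Nat.prime_two (Nat.card_pos (α := Q)).ne' (k := 1)).mp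
      (by rw [pow_one]; exact hQ2)
    have h2 : ¬ 2 ≤ (Nat.card Q).factorization 2 := fun h => hQ4
      ((Nat.Prime.pow_dvd_iff_le_factorization Nat.prime_two (Nat.card_pos (α := Q)).ne' (k := 2)).mpr h)
    rw [show (Nat.card Q).factorization 2 = 1 by omega, pow_one]
  haveI : IsCyclic (R : Subgroup Q) := isCyclic_of_prime_card hR
  obtain ⟨I, hI, hIi⟩ := NearField.IndexTwo.exists_of_cyclic_sylow R hQ2
  haveI := hI
  have hodd_mem : ∀ b : Q, ¬ 2 ∣ orderOf b → b ∈ I := by
    intro b hb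
    have h1 : orderOf (QuotientGroup.mk' I b) ∣ 2 := hIi ▸ orderOf_dvd_natCard _
    rcases (Nat.dvd_prime Nat.prime_two).mp h1 with h | h
    · rwa [orderOf_eq_one_iff, QuotientGroup.mk'_apply, QuotientGroup.eq_one_iff] at h
    · exact absurd (h ▸ orderOf_map_dvd _ b) hb
  have hstab : ∀ h : H, (h : N) • α = α → π h ∈ I := by
    intro h hh
    refine hodd_mem _ fun hd => ?_
    set k := orderOf (π h) / 2 with hk
    have hord : orderOf (π (h ^ k)) = 2 := by
      rw [map_pow]; exact orderOf_pow_orderOf_div (orderOf_pos _).ne' hd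
    let J : Subgroup N := Subgroup.zpowers ((h : N) ^ k) ⊔ P
    have hnorm : Subgroup.zpowers ((h : N) ^ k) ≤ Subgroup.normalizer (P : Set N) :=
      Subgroup.zpowers_le.mpr (H.pow_mem h.2 k)
    have hJS : J ≤ S := sup_le (Subgroup.zpowers_le.mpr (S.pow_mem hh k)) hPS
    let J1 : Subgroup H := J.subgroupOf H
    have hP1J : P1 ≤ J1 := Subgroup.comap_mono le_sup_right
    have hmem : h ^ k ∈ J1 := Subgroup.mem_subgroupOf.mpr (Subgroup.mem_sup_left (by
      rw [SubgroupClass.coe_pow]; exact Subgroup.mem_zpowers _))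
    have h1 : 2 ∣ P1.relIndex J1 := by
      rw [Subgroup.relIndex, Subgroup.index_eq_card]
      refine dvd_trans ?_ (orderOf_dvd_natCard (QuotientGroup.mk' (P1.subgroupOf J1) ⟨h ^ k, hmem⟩))
      rw [← hord]
      let ψ : J1 ⧸ P1.subgroupOf J1 →* Q := QuotientGroup.lift _ (π.comp J1.subtype) (fun x hx =>
        (QuotientGroup.eq_one_iff (x : H)).mpr hx)
      exact orderOf_map_dvd ψ (QuotientGroup.mk' (P1.subgroupOf J1) ⟨h ^ k, hmem⟩)
    have h3 : 2 ^ (a + 1) ∣ Nat.card J1 := by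
      rw [← (P1.subgroupOf J1).card_mul_index, Nat.card_congr (Subgroup.subgroupOfEquivOfLe hP1J).toEquiv, hP1, pow_succ]
      exact Nat.mul_dvd_mul_left _ h1
    apply hSd
    refine h3.trans ?_
    rw [Nat.card_congr (Subgroup.subgroupOfEquivOfLe (sup_le hnorm Subgroup.le_normalizer : J ≤ H)).toEquiv]
    exact Subgroup.card_dvd_of_le hJS
  have hnotI : ∀ h : H, (h : N) • α ≠ α → (h : N) • (h : N) • α = α → π h ∉ I := by
    intro h hne hsq hI'
    -- the square fixes the point and the quotient order is twice odd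
    obtain ⟨c, hc⟩ := heven h hne hsq
    have hd := orderOf_dvd_natCard (⟨π h, hI'⟩ : I)
    rw [← Subgroup.orderOf_coe] at hd
    have h4 : 2 ∣ Nat.card I := (dvd_trans ⟨c, hc⟩ hd)
    apply hQ4
    rw [← I.card_mul_index, hIi]
    exact Nat.mul_dvd_mul_right h4 2
  have hyI := hnotI ⟨y, hyH⟩ (by show y • α ≠ α; rw [hyα]; exact hx) (by show y • y • α = α; rw [hyα, hyx])
  have hwI := hnotI ⟨w, hwH⟩
    (by
      show w • α ≠ α
      rw [hwα]
      exact fun e => hxδ (by rw [inv_smul_eq_iff] at e; rw [← hyα, e]))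
    (by show w • w • α = α; rw [hwα, hwε])
  have hzI := hnotI ⟨z, hzH⟩ (by show z • α ≠ α; rw [hzα]; exact hδ) (by show z • z • α = α; rw [hzα, hzδ])
  have hprod : π (⟨y, hyH⟩ * ⟨w, hwH⟩) ∈ I := by
    rw [map_mul, Subgroup.mul_mem_iff_of_index_two hIi]
    exact iff_of_false hyI hwI
  have hst := hstab (⟨z, hzH⟩⁻¹ * (⟨y, hyH⟩ * ⟨w, hwH⟩)) (by
    show (z⁻¹ * (y * w)) • α = α
    rw [mul_smul, mul_smul, hwα, smul_inv_smul, inv_smul_eq_iff, hzα])
  rw [map_mul, map_inv, I.mul_mem_cancel_right hprod, I.inv_mem_iff] at hst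
  exact hzI hst

/-- A nontrivial normal subgroup has trivial centraliser. -/
theorem centralizer_eq_bot (h2 : IsMultiplyPretransitive G Ω 2) (hn : Nat.card Ω % 4 = 2) (hn2 : 2 < Nat.card Ω)
    (N : Subgroup G) [N.Normal] (hN : N ≠ ⊥) : Subgroup.centralizer (N : Set G) = ⊥ := by
  by_contra hC
  haveI : IsPreprimitive G Ω := isPreprimitive_of_is_two_pretransitive h2
  set C := Subgroup.centralizer (N : Set G) with hCdef
  have hNC : N ≤ Subgroup.centralizer (C : Set G) := fun n hn => Subgroup.mem_centralizer_iff.mpr fun c hc =>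
    (Subgroup.mem_centralizer_iff.mp hc n hn).symm
  have hfree : ∀ (n : G) (x : Ω), n ∈ N → n • x = x → n = 1 := fun n x hn hx =>
    ExtremelyPrimitive.eq_one_of_centralizes C hC (hNC hn) hx
  obtain ⟨α, β, hαβ⟩ := exists_pair_ne_of_two_lt hn2
  obtain ⟨γ, hγα, hγβ⟩ := exists_third hn2 α β
  obtain ⟨k, hk1, hk2⟩ := is_two_pretransitive_iff.mp (normal_two_trans h2 hn N hN) hαβ hγα.symm
  have hk : (k : G) = 1 := hfree k α k.2 hk1
  have hk2' : (k : G) • β = γ := hk2
  rw [hk, one_smul] at hk2'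
  exact hγβ hk2'.symm

/-- The socle is simple and doubly transitive. -/
theorem main (h2 : IsMultiplyPretransitive G Ω 2) (hn : Nat.card Ω % 4 = 2) (hn2 : 2 < Nat.card Ω) :
    ∃ M : Subgroup G, M.Normal ∧ M ≠ ⊥ ∧ (∀ N : Subgroup G, N.Normal → N ≠ ⊥ → M ≤ N) ∧
      IsSimpleGroup M ∧ IsMultiplyPretransitive M Ω 2 ∧ Subgroup.centralizer (M : Set G) = ⊥ := by
  haveI : Finite (Subgroup G) := Finite.of_injective (fun H : Subgroup G => (H : Set G)) SetLike.coe_injective
  haveI : Nontrivial G := by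
    by_contra hsub
    rw [not_nontrivial_iff_subsingleton] at hsub
    obtain ⟨α, β, hαβ⟩ := exists_pair_ne_of_two_lt hn2
    obtain ⟨g, hg, -⟩ := is_two_pretransitive_iff.mp h2 hαβ hαβ.symm
    rw [Subsingleton.elim g 1, one_smul] at hg
    exact hαβ hg
  obtain ⟨M, ⟨hMn, hM0⟩, hMmin⟩ := Set.Finite.exists_minimal (Set.toFinite {M : Subgroup G | M.Normal ∧ M ≠ ⊥})
    ⟨⊤, inferInstance, top_ne_bot⟩
  haveI := hMn
  have hC := centralizer_eq_bot h2 hn hn2 M hM0
  have hM2 := normal_two_trans h2 hn M hM0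
  have hle : ∀ N : Subgroup G, N.Normal → N ≠ ⊥ → M ≤ N := by
    intro N hN hN0
    by_cases h : M ⊓ N = ⊥
    · exfalso
      apply hN0
      rw [eq_bot_iff, ← hC]
      exact fun b hb => Subgroup.mem_centralizer_iff.mpr fun a ha =>
        Subgroup.commute_of_normal_of_disjoint M N hMn hN (disjoint_iff.mpr h) a b ha hb
    · exact (hMmin ⟨inferInstance, h⟩ inf_le_left).trans inf_le_right
  refine ⟨M, hMn, hM0, hle, ?_, hM2, hC⟩
  haveI : Nontrivial M := M.nontrivial_iff_ne_bot.mpr hM0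
  obtain ⟨L, ⟨hLn, hL0⟩, hLmin⟩ := Set.Finite.exists_minimal (Set.toFinite {L : Subgroup M | L.Normal ∧ L ≠ ⊥})
    ⟨⊤, inferInstance, top_ne_bot⟩
  haveI := hLn
  have hCL := centralizer_eq_bot (G := M) hM2 hn hn2 L hL0
  have hall : ∀ K : Subgroup M, K.Normal → K ≠ ⊥ → L ≤ K := by
    intro K hK hK0
    by_cases h : L ⊓ K = ⊥
    · exfalso
      apply hK0
      rw [eq_bot_iff, ← hCL]
      exact fun b hb => Subgroup.mem_centralizer_iff.mpr fun a ha =>
        Subgroup.commute_of_normal_of_disjoint L K hLn hK (disjoint_iff.mpr h) a b ha hb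
    · exact (hLmin ⟨inferInstance, h⟩ inf_le_left).trans inf_le_right
  haveI hLG : (L.map M.subtype).Normal := by
    refine ⟨?_⟩
    rintro _ ⟨l, hl, rfl⟩ g
    have h2 : l ∈ L.comap (MulAut.conjNormal g : MulAut M).toMonoidHom := by
      refine hall _ inferInstance ?_ hl
      intro he
      apply hL0
      rw [eq_bot_iff]
      intro x hx
      have h1 : (MulAut.conjNormal g : MulAut M).symm x ∈ L.comap (MulAut.conjNormal g : MulAut M).toMonoidHom := by
        show (MulAut.conjNormal g : MulAut M) ((MulAut.conjNormal g : MulAut M).symm x) ∈ L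
        rwa [MulEquiv.apply_symm_apply]
      rw [he, Subgroup.mem_bot] at h1
      rw [Subgroup.mem_bot, ← (MulAut.conjNormal g : MulAut M).apply_symm_apply x, h1, map_one]
    exact ⟨_, h2, MulAut.conjNormal_apply g l⟩
  have hLtop : L = ⊤ := by
    have h1 := hle (L.map M.subtype) hLG (fun he => hL0 ((Subgroup.map_eq_bot_iff_of_injective _ M.subtype_injective).mp he))
    rw [eq_top_iff]
    intro x _
    obtain ⟨l, hl, he⟩ := h1 x.2
    rwa [← Subtype.ext he]
  exact ⟨fun K hK => (em (K = ⊥)).imp id fun h0 => top_le_iff.mp (hLtop ▸ hall K hK h0)⟩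

end CfsgLib.Recognition.TwoModFour
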